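import Mathlib
import Cfsg.Agent.Lib.Helper3.EA

set_option autoImplicit false

namespace Cfsg.Agent.Lib.Helper3

open Cfsg

/-- If `K` normalizes `H ≤ K` and `Q ≤ K` has the order of a Sylow `p`-subgroup of `K`, then
`Q ⊓ H` has the order of a Sylow `p`-subgroup of `H`. -/
theorem card_inf_of_normalizes {G : Type*} [Group G] [Finite G] {p : ℕ} [Fact p.Prime]
    (Q H K : Subgroup G) (hHK : H ≤ K) (hKH : K ≤ Subgroup.normalizer (H : Set G)) (hQK : Q ≤ K)
    (hQ : Nat.card Q = p ^ (Nat.card K).factorization p) :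
    Nat.card ↥(Q ⊓ H) = p ^ (Nat.card H).factorization p := by
  have hp : p.Prime := Fact.out
  have h1 := card_sup_mul_card_inf Q H (hQK.trans hKH)
  have hQp : IsPGroup p Q := IsPGroup.of_card hQ
  obtain ⟨j, hj⟩ := IsPGroup.iff_card.mp (hQp.to_le (inf_le_left : Q ⊓ H ≤ Q))
  have hd1 : Nat.card ↥(Q ⊔ H) ∣ Nat.card K := Subgroup.card_dvd_of_le (sup_le hQK hHK)
  have hd2 : Nat.card ↥(Q ⊓ H) ∣ Nat.card H := Subgroup.card_dvd_of_le inf_le_right
  have hK0 : Nat.card K ≠ 0 := Nat.card_pos.ne'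
  have hH0 : Nat.card H ≠ 0 := Nat.card_pos.ne'
  have hS0 : Nat.card ↥(Q ⊔ H) ≠ 0 := Nat.card_pos.ne'
  have hI0 : Nat.card ↥(Q ⊓ H) ≠ 0 := Nat.card_pos.ne'
  have hQ0 : Nat.card Q ≠ 0 := Nat.card_pos.ne'
  have h2 : (Nat.card ↥(Q ⊔ H) * Nat.card ↥(Q ⊓ H)).factorization p
      = (Nat.card Q * Nat.card H).factorization p := by rw [h1]
  rw [Nat.factorization_mul hS0 hI0, Nat.factorization_mul hQ0 hH0] at h2
  simp only [Finsupp.add_apply] at h2
  rw [hj, hQ, Nat.Prime.factorization_pow hp, Nat.Prime.factorization_pow hp] at h2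
  simp only [Finsupp.single_eq_same] at h2
  have h3 : (Nat.card ↥(Q ⊔ H)).factorization p ≤ (Nat.card K).factorization p :=
    (Nat.factorization_le_iff_dvd hS0 hK0).mpr hd1 p
  have h4 : j ≤ (Nat.card H).factorization p := by
    rw [hj] at hd2
    exact (hp.pow_dvd_iff_le_factorization hH0).mp hd2
  rw [hj]
  congr 1
  omega

/-- A Sylow `p`-subgroup meets a subnormal subgroup in a Sylow `p`-subgroup (order form). -/
theorem card_sylow_inf_subnormal {G : Type*} [Group G] [Finite G] {p : ℕ} [Fact p.Prime]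
    (P : Sylow p G) {H : Subgroup G} (hH : H.IsSubnormal) :
    Nat.card ↥((P : Subgroup G) ⊓ H) = p ^ (Nat.card H).factorization p := by
  induction hH with
  | top =>
    rw [inf_top_eq, Subgroup.card_top]
    exact P.card_eq_multiplicity
  | step H K h_le hSubn hN ih =>
    have h := card_inf_of_normalizes ((P : Subgroup G) ⊓ K) H K h_le
      ((Subgroup.normal_subgroupOf_iff_le_normalizer h_le).mp hN) inf_le_right ih
    rwa [inf_assoc, inf_eq_right.mpr h_le] at h

/-- the Sylow subgroup of a subnormal subgroup cut out by a Sylow subgroup of the whole group -/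
theorem exists_sylow_subgroupOf_subnormal {G : Type*} [Group G] [Finite G] {p : ℕ} [Fact p.Prime]
    (P : Sylow p G) {H : Subgroup G} (hH : H.IsSubnormal) :
    ∃ S : Sylow p H, (S : Subgroup H) = ((P : Subgroup G) ⊓ H).subgroupOf H := by
  have hc : Nat.card ↥(((P : Subgroup G) ⊓ H).subgroupOf H) = p ^ (Nat.card H).factorization p := by
    rw [card_subgroupOf_of_le inf_le_right]
    exact card_sylow_inf_subnormal P hH
  exact ⟨Sylow.ofCard _ hc, rfl⟩

theorem mul_eq_mul_rearrange {G : Type*} [Group G] {A B C D : G} (h : A * B = C * D) :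
    C⁻¹ * A = D * B⁻¹ := by
  rw [eq_mul_inv_iff_mul_eq, mul_assoc, h, inv_mul_cancel_left]

end Cfsg.Agent.Lib.Helper3
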