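import Cfsg.Agent.Lib.Helper3.GT13
import Cfsg.Agent.Lib.Helper2.TransferCtl
import Cfsg.Agent.Lib.Helper2.PGroup

/-! Control of transfer in all sections, together with a `p`-group automizer of a Sylow
`p`-subgroup, gives a normal subgroup of index `p`. -/

set_option autoImplicit false
set_option linter.style.haveILetI false

namespace Cfsg.Agent.Lib.Helper3

open Cfsg
open scoped commutatorElement

universe u

section IndexP

/-- a normal subgroup of index `p^a`, `a ≠ 0`, gives a normal subgroup of index `p`. -/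
theorem exists_normal_index_p {G : Type*} [Group G] [Finite G] {p : ℕ} [Fact p.Prime]
    (K : Subgroup G) [K.Normal] {a : ℕ} (ha : a ≠ 0) (hK : K.index = p ^ a) :
    ∃ N : Subgroup G, N.Normal ∧ N.index = p := by
  have hp : p.Prime := Fact.out
  have hcard : Nat.card (G ⧸ K) = p ^ a := by rw [← Subgroup.index_eq_card]; exact hK
  have hQ : IsPGroup p (G ⧸ K) := IsPGroup.of_card hcard
  have hne : (⊥ : Subgroup (G ⧸ K)) ≠ ⊤ := by
    intro h
    have h1 : Nat.card (G ⧸ K) = 1 := by
      rw [← Subgroup.card_top (G := G ⧸ K), ← h, Subgroup.card_bot]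
    rw [hcard] at h1
    have := Nat.one_lt_pow ha hp.one_lt
    omega
  rcases eq_top_or_exists_le_coatom (⊥ : Subgroup (G ⧸ K)) with h | ⟨M, hM, -⟩
  · exact absurd h hne
  · haveI hMn : M.Normal := Cfsg.Agent.Lib.Helper2.coatom_normal_of_pGroup hQ M hM
    refine ⟨M.comap (QuotientGroup.mk' K), hMn.comap _, ?_⟩
    rw [Subgroup.index_comap_of_surjective M (QuotientGroup.mk'_surjective K)]
    exact Cfsg.Agent.Lib.Helper2.coatom_index_of_pGroup hQ M hM

/-- a normal subgroup containing all `p'`-elements has `p`-power index -/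
theorem index_pow_of_coprime_mem {G : Type*} [Group G] [Finite G] {p : ℕ} [Fact p.Prime]
    (K : Subgroup G) [K.Normal] (h : ∀ x : G, (orderOf x).Coprime p → x ∈ K) :
    ∃ a : ℕ, K.index = p ^ a := by
  have hp : p.Prime := Fact.out
  have hQ : IsPGroup p (G ⧸ K) := by
    intro y
    obtain ⟨x, rfl⟩ := QuotientGroup.mk'_surjective K y
    obtain ⟨e, m, hm, hx⟩ := Nat.exists_eq_pow_mul_and_not_dvd (orderOf_pos x).ne' p hp.ne_one
    refine ⟨e, ?_⟩
    rw [← map_pow]
    apply (QuotientGroup.eq_one_iff _).mpr
    apply h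
    have h1 : (x ^ p ^ e) ^ m = 1 := by rw [← pow_mul, ← hx, pow_orderOf_eq_one]
    have h2 : orderOf (x ^ p ^ e) ∣ m := orderOf_dvd_of_pow_eq_one h1
    exact Nat.Coprime.coprime_dvd_left h2 ((Nat.Prime.coprime_iff_not_dvd hp).mpr hm).symm
  obtain ⟨a, ha⟩ := IsPGroup.iff_card.mp hQ
  exact ⟨a, by rw [Subgroup.index_eq_card]; exact ha⟩

/-- a `p`-element outside the commutator subgroup gives a normal subgroup of index `p` -/
theorem exists_normal_index_p_of_not_mem_commutator {G : Type*} [Group G] [Finite G] {p : ℕ}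
    [Fact p.Prime] (x : G) {j : ℕ} (hx : x ^ (p ^ j) = 1) (hxc : x ∉ commutator G) :
    ∃ N : Subgroup G, N.Normal ∧ N.index = p := by
  have hp : p.Prime := Fact.out
  obtain ⟨e, m, hm, hA⟩ := Nat.exists_eq_pow_mul_and_not_dvd
    (Nat.card_pos (α := Abelianization G)).ne' p hp.ne_one
  obtain ⟨ψ, hψ⟩ : ∃ ψ : G →* Abelianization G,
      ψ = (powMonoidHom m).comp Abelianization.of := ⟨_, rfl⟩
  have hψx : ∀ g, ψ g = (Abelianization.of g) ^ m := by intro g; rw [hψ]; rfl
  have hR : IsPGroup p ψ.range := by
    rintro ⟨y, g, rfl⟩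
    refine ⟨e, Subtype.ext ?_⟩
    show (ψ g) ^ (p ^ e) = 1
    rw [hψx, ← pow_mul, mul_comm, ← hA]
    exact pow_card_eq_one'
  obtain ⟨a, ha⟩ := IsPGroup.iff_card.mp hR
  have hidx : ψ.ker.index = p ^ a := by rw [Subgroup.index_ker]; exact ha
  have ha0 : a ≠ 0 := by
    rintro rfl
    rw [pow_zero, Subgroup.index_eq_one] at hidx
    have h1 : ψ x = 1 := by
      have : x ∈ ψ.ker := hidx ▸ Subgroup.mem_top x
      exact MonoidHom.mem_ker.mp this
    rw [hψx] at h1
    have h2 : (Abelianization.of x) ^ (p ^ j) = 1 := by rw [← map_pow, hx, map_one]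
    have h3 : (Abelianization.of x) ^ (m.gcd (p ^ j)) = 1 := pow_gcd_eq_one.mpr ⟨h1, h2⟩
    have hcop : m.Coprime (p ^ j) :=
      Nat.Coprime.pow_right _ ((Nat.Prime.coprime_iff_not_dvd hp).mpr hm).symm
    rw [Nat.Coprime.gcd_eq_one hcop, pow_one] at h3
    have h4 : x ∈ (Abelianization.of (G := G)).ker := MonoidHom.mem_ker.mpr h3
    rw [Abelianization.ker_of] at h4
    exact hxc h4
  exact exists_normal_index_p ψ.ker ha0 hidx

end IndexP

section CT

variable {p : ℕ} {W : ∀ (Q : Type u) [Group Q], Subgroup Q}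

theorem inducedFunctor_isConjugacyFunctor (hW : IsCharPFunctor.{u} p W) (G : Type u) [Group G]
    [Finite G] : IsConjugacyFunctor p (inducedFunctor (G := G) W) := by
  intro P hP
  refine ⟨Subgroup.map_subtype_le _, ?_, ?_⟩
  · intro hne h
    have h1 : W ↥P = ⊥ := (Subgroup.map_eq_bot_iff_of_injective _ P.subtype_injective).mp h
    have : Nontrivial ↥P := (Subgroup.nontrivial_iff_ne_bot P).mpr hne
    exact hW.1 ↥P hP inferInstance h1
  · intro g
    apply inducedFunctor_map hW (MulAut.conj g).toMonoidHom P _ hP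
    have : (MulAut.conj g).toMonoidHom.ker = ⊥ :=
      (MonoidHom.ker_eq_bot_iff _).mpr (MulAut.conj g).injective
    rw [this, inf_bot_eq]

/-- `W` controls transfer in the whole group `Y` -/
def CTtop (p : ℕ) (W : ∀ (Q : Type u) [Group Q], Subgroup Q) (Y : Type u) [Group Y] : Prop :=
  ControlsTransferIn p (inducedFunctor (G := Y) W) ⊤

theorem cttop_of_equiv (hW : IsCharPFunctor.{u} p W) {Q Y : Type u} [Group Q] [Group Y]
    [Finite Q] (e : Q ≃* Y) (h : CTtop p W Q) : CTtop p W Y := by
  obtain ⟨T, -, hTp, hTi, hctl⟩ := h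
  have hinj : Function.Injective e.toMonoidHom := e.injective
  have hker : T ⊓ e.toMonoidHom.ker = ⊥ := by
    have : e.toMonoidHom.ker = ⊥ := (MonoidHom.ker_eq_bot_iff _).mpr e.injective
    rw [this, inf_bot_eq]
  have himg := inducedFunctor_map hW e.toMonoidHom T hker hTp
  have htop : (⊤ : Subgroup Q).map e.toMonoidHom = ⊤ :=
    Subgroup.map_top_of_surjective _ e.surjective
  refine ⟨T.map e.toMonoidHom, le_top, hTp.map _, ?_, ?_⟩
  · rw [Subgroup.relIndex_top_right] at hTi ⊢
    have : (T.map e.toMonoidHom).index = T.index :=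
      Subgroup.index_map_of_bijective e.bijective T
    rw [this]
    exact hTi
  · have h1 := congrArg (Subgroup.map e.toMonoidHom) hctl
    rw [Subgroup.map_inf _ _ _ hinj, Subgroup.map_commutator, htop, Subgroup.map_inf _ _ _ hinj,
      Subgroup.map_commutator, Subgroup.map_inf _ _ _ hinj, htop,
      Subgroup.map_equiv_normalizer_eq, ← himg] at h1
    exact h1

variable [Fact p.Prime]

theorem ct_index_aux (hW : IsCharPFunctor.{u} p W) : ∀ n : ℕ, ∀ (G : Type u) [Group G]
    [Finite G], Nat.card G = n → (∀ (Y : Type u) [Group Y], Involves Y G → CTtop p W Y) →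
    ∀ S : Sylow p G, (S : Subgroup G) ≠ ⊥ →
    (∀ g ∈ Subgroup.normalizer ((S : Subgroup G) : Set G), (orderOf g).Coprime p →
      g ∈ Subgroup.centralizer ((S : Subgroup G) : Set G)) →
    ∃ N : Subgroup G, N.Normal ∧ N.index = p := by
  intro n
  induction n using Nat.strong_induction_on with
  | _ n ih =>
    intro G _ _ hcard hΦ S hS hAut
    have hp : p.Prime := Fact.out
    have hcf := inducedFunctor_isConjugacyFunctor hW G
    have hCT : CTtop p W G := hΦ G (involves_refl G)
    have hSi : ¬ p ∣ (S : Subgroup G).relIndex ⊤ := by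
      rw [Subgroup.relIndex_top_right]; exact S.not_dvd_index
    have heq := Cfsg.Agent.Lib.Helper2.transfer_change_sylow (inducedFunctor (G := G) W) hcf ⊤
      hCT (S : Subgroup G) le_top S.isPGroup' hSi
    rw [top_inf_eq] at heq
    obtain ⟨Ws, hWs⟩ : ∃ Ws, Ws = inducedFunctor (G := G) W (S : Subgroup G) := ⟨_, rfl⟩
    rw [← hWs] at heq
    have hWsS : Ws ≤ (S : Subgroup G) := by rw [hWs]; exact Subgroup.map_subtype_le _
    have hWsne : Ws ≠ ⊥ := by rw [hWs]; exact (hcf _ S.isPGroup').2.1 hS
    have hSN : (S : Subgroup G) ≤ Subgroup.normalizer (Ws : Set G) := by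
      have h1 := (cfChar p W hW).normalizer_le (S : Subgroup G)
      rw [cfChar_apply hW (S : Subgroup G) S.isPGroup', ← hWs] at h1
      exact Subgroup.le_normalizer.trans h1
    by_cases hN₀ : Subgroup.normalizer (Ws : Set G) = ⊤
    · -- `Ws` is normal
      haveI hWsn : Ws.Normal := Subgroup.normalizer_eq_top_iff.mp hN₀
      by_cases hWS : Ws = (S : Subgroup G)
      · -- `S` is normal
        haveI hSn : (S : Subgroup G).Normal := hWS ▸ hWsn
        have hNS : Subgroup.normalizer ((S : Subgroup G) : Set G) = ⊤ :=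
          Subgroup.normalizer_eq_top_iff.mpr hSn
        by_cases hC : Subgroup.centralizer ((S : Subgroup G) : Set G) = ⊤
        · have hle : Subgroup.normalizer ((S : Subgroup G) : Set G) ≤
              Subgroup.centralizer ((S : Subgroup G) : Set G) := by rw [hC]; exact le_top
          have hcomp := MonoidHom.ker_transferSylow_isComplement' S hle
          have hidx : (MonoidHom.transferSylow S hle).ker.index = Nat.card (S : Subgroup G) :=
            hcomp.symm.index_eq_card
          obtain ⟨a, ha⟩ := IsPGroup.iff_card.mp S.isPGroup'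
          have ha0 : a ≠ 0 := by
            rintro rfl
            rw [pow_zero, Subgroup.card_eq_one] at ha
            exact hS ha
          exact exists_normal_index_p _ ha0 (hidx.trans ha)
        · obtain ⟨a, ha⟩ := index_pow_of_coprime_mem
            (Subgroup.centralizer ((S : Subgroup G) : Set G))
            (fun x hx => hAut x (hNS ▸ Subgroup.mem_top x) hx)
          have ha0 : a ≠ 0 := by
            rintro rfl
            rw [pow_zero, Subgroup.index_eq_one] at ha
            exact hC ha
          exact exists_normal_index_p _ ha0 ha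
      · -- pass to `G ⧸ Ws`
        have hlt : Nat.card (G ⧸ Ws) < n := by
          rw [← hcard, Subgroup.card_eq_card_quotient_mul_card_subgroup Ws]
          have h3 : 1 < Nat.card ↥Ws := (Subgroup.one_lt_card_iff_ne_bot Ws).mpr hWsne
          have h4 : 0 < Nat.card (G ⧸ Ws) := Nat.card_pos
          exact lt_mul_of_one_lt_right h4 h3
        obtain ⟨π, hπ⟩ : ∃ π : G →* G ⧸ Ws, π = QuotientGroup.mk' Ws := ⟨_, rfl⟩
        have hπs : Function.Surjective π := by rw [hπ]; exact QuotientGroup.mk'_surjective Ws
        have hker : π.ker = Ws := by rw [hπ]; exact QuotientGroup.ker_mk' Ws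
        obtain ⟨Sb, hSb⟩ : ∃ Sb : Sylow p (G ⧸ Ws),
            (Sb : Subgroup (G ⧸ Ws)) = (S : Subgroup G).map π :=
          ⟨S.mapSurjective hπs, Sylow.coe_mapSurjective _ _⟩
        have hSbne : (Sb : Subgroup (G ⧸ Ws)) ≠ ⊥ := by
          rw [hSb]
          intro h
          have h1 := (Subgroup.map_eq_bot_iff _).mp h
          rw [hker] at h1
          exact hWS (le_antisymm hWsS h1)
        have hAutb : ∀ g ∈ Subgroup.normalizer ((Sb : Subgroup (G ⧸ Ws)) : Set (G ⧸ Ws)),
            (orderOf g).Coprime p →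
            g ∈ Subgroup.centralizer ((Sb : Subgroup (G ⧸ Ws)) : Set (G ⧸ Ws)) := by
          intro xb hxb hcop
          obtain ⟨x, rfl⟩ := hπs xb
          rw [Subgroup.mem_centralizer_iff]
          by_cases hm1 : orderOf (π x) = 1
          · have h1 : π x = 1 := orderOf_eq_one_iff.mp hm1
            intro h _
            rw [h1, mul_one, one_mul]
          · obtain ⟨j, hj⟩ := IsPGroup.iff_card.mp (S.isPGroup'.to_le hWsS)
            have hm0 : 0 < orderOf (π x) := orderOf_pos (π x)
            have hcop' : Nat.Coprime (p ^ j) (orderOf (π x)) := Nat.Coprime.pow_left _ hcop.symm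
            obtain ⟨d, -, hd⟩ := Nat.exists_mul_mod_eq_one_of_coprime hcop' (by omega)
            have hxm : x ^ orderOf (π x) ∈ Ws := by
              apply hker.le
              rw [MonoidHom.mem_ker, map_pow, pow_orderOf_eq_one]
            have hxm1 : (x ^ orderOf (π x)) ^ (p ^ j) = 1 := by
              have h3 : (⟨_, hxm⟩ : ↥Ws) ^ Nat.card ↥Ws = 1 := pow_card_eq_one'
              rw [hj] at h3
              exact congrArg Subtype.val h3
            obtain ⟨y, hy⟩ : ∃ y, y = x ^ (p ^ j * d) := ⟨_, rfl⟩
            have hπy : π y = π x := by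
              rw [hy, map_pow, ← pow_mod_orderOf, hd, pow_one]
            have hyord : (orderOf y).Coprime p := by
              have h1 : y ^ orderOf (π x) = 1 := by
                rw [hy, ← pow_mul]
                have : p ^ j * d * orderOf (π x) = orderOf (π x) * p ^ j * d := by ring
                rw [this, pow_mul, pow_mul, hxm1, one_pow]
              exact Nat.Coprime.coprime_dvd_left (orderOf_dvd_of_pow_eq_one h1) hcop
            have hyN : y ∈ Subgroup.normalizer ((S : Subgroup G) : Set G) := by
              apply fin_mem_normalizer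
              intro s hs
              have h1 : π s ∈ (Sb : Subgroup (G ⧸ Ws)) := by
                rw [hSb]; exact Subgroup.mem_map_of_mem π hs
              have h2 := (Subgroup.mem_normalizer_iff.mp hxb (π s)).mp h1
              rw [← hπy, ← map_mul, ← map_inv, ← map_mul, hSb] at h2
              obtain ⟨s', hs', hss'⟩ := h2
              have h3 : s'⁻¹ * (y * s * y⁻¹) ∈ Ws := by
                rw [← hker, MonoidHom.mem_ker, map_mul, map_inv, hss', inv_mul_cancel]
              have h4 : y * s * y⁻¹ = s' * (s'⁻¹ * (y * s * y⁻¹)) := by group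
              rw [h4]
              exact Subgroup.mul_mem _ hs' (hWsS h3)
            have hyC := hAut y hyN hyord
            rw [Subgroup.mem_centralizer_iff] at hyC
            intro h hh
            rw [SetLike.mem_coe, hSb] at hh
            obtain ⟨s, hs, rfl⟩ := hh
            rw [← hπy, ← map_mul, ← map_mul, hyC s hs]
        obtain ⟨Mb, hMbn, hMbi⟩ := ih (Nat.card (G ⧸ Ws)) hlt (G ⧸ Ws) rfl
          (fun Y _ hY => hΦ Y (involves_of_quotient Ws hY)) Sb hSbne hAutb
        refine ⟨Mb.comap (QuotientGroup.mk' Ws), hMbn.comap _, ?_⟩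
        rw [Subgroup.index_comap_of_surjective Mb (QuotientGroup.mk'_surjective Ws)]
        exact hMbi
    · -- the normalizer of `Ws` is proper
      obtain ⟨N₀, hN₀def⟩ : ∃ N₀, N₀ = Subgroup.normalizer (Ws : Set G) := ⟨_, rfl⟩
      rw [← hN₀def] at hN₀ hSN heq
      have hlt : Nat.card ↥N₀ < n := by
        rw [← hcard, ← Subgroup.card_top (G := G)]
        exact card_lt_of_lt (lt_top_iff_ne_top.mpr hN₀)
      obtain ⟨S', hS'⟩ : ∃ S' : Sylow p ↥N₀,
          (S' : Subgroup ↥N₀) = (S : Subgroup G).subgroupOf N₀ :=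
        ⟨S.subtype hSN, Sylow.coe_subtype _ _⟩
      have hS'ne : (S' : Subgroup ↥N₀) ≠ ⊥ := by
        rw [hS']
        intro h
        apply hS
        rw [eq_bot_iff]
        intro x hx
        have h1 : (⟨x, hSN hx⟩ : ↥N₀) ∈ (S : Subgroup G).subgroupOf N₀ :=
          Subgroup.mem_subgroupOf.mpr hx
        rw [h, Subgroup.mem_bot] at h1
        rw [Subgroup.mem_bot]
        exact congrArg Subtype.val h1
      have hAut' : ∀ g ∈ Subgroup.normalizer ((S' : Subgroup ↥N₀) : Set ↥N₀),
          (orderOf g).Coprime p →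
          g ∈ Subgroup.centralizer ((S' : Subgroup ↥N₀) : Set ↥N₀) := by
        intro g hg hcop
        have hgN : (g : G) ∈ Subgroup.normalizer ((S : Subgroup G) : Set G) := by
          apply fin_mem_normalizer
          intro s hs
          have h1 : (⟨s, hSN hs⟩ : ↥N₀) ∈ (S' : Subgroup ↥N₀) := by
            rw [hS']; exact Subgroup.mem_subgroupOf.mpr hs
          have h2 := (Subgroup.mem_normalizer_iff.mp hg _).mp h1
          rw [hS', Subgroup.mem_subgroupOf] at h2
          exact h2
        have hgo : (orderOf (g : G)).Coprime p := by rw [Subgroup.orderOf_coe]; exact hcop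
        have hgC := hAut (g : G) hgN hgo
        rw [Subgroup.mem_centralizer_iff] at hgC ⊢
        intro h hh
        rw [SetLike.mem_coe, hS', Subgroup.mem_subgroupOf] at hh
        exact Subtype.ext (hgC (h : G) hh)
      obtain ⟨M, hMn, hMi⟩ := ih (Nat.card ↥N₀) hlt ↥N₀ rfl
        (fun Y _ hY => hΦ Y (involves_of_subgroup N₀ hY)) S' hS'ne hAut'
      haveI := hMn
      have hcomm : commutator ↥N₀ ≤ M := by
        have hcard' : Nat.card (↥N₀ ⧸ M) = p := by rw [← Subgroup.index_eq_card]; exact hMi
        haveI : IsCyclic (↥N₀ ⧸ M) := isCyclic_of_prime_card hcard'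
        exact Subgroup.Normal.quotient_commutative_iff_commutator_le.mp inferInstance
      have hnot : ¬ (S : Subgroup G) ≤ ⁅(⊤ : Subgroup G), ⊤⁆ := by
        intro hle
        have h1 : (S : Subgroup G) ≤ ⁅N₀, N₀⁆ := by
          have : (S : Subgroup G) ⊓ ⁅(⊤ : Subgroup G), ⊤⁆ = (S : Subgroup G) :=
            inf_eq_left.mpr hle
          rw [heq] at this
          exact inf_eq_left.mp this
        have h2 : ⁅N₀, N₀⁆ = (commutator ↥N₀).map N₀.subtype := by
          rw [commutator_def, Subgroup.map_commutator, ← MonoidHom.range_eq_map,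
            Subgroup.range_subtype]
        have h3 : (S' : Subgroup ↥N₀) ≤ M := by
          intro x hx
          rw [hS', Subgroup.mem_subgroupOf] at hx
          have h4 := h1 hx
          rw [h2] at h4
          obtain ⟨y, hy, hyx⟩ := h4
          have : y = x := Subtype.ext hyx
          exact hcomm (this ▸ hy)
        have h5 : M.index ∣ (S' : Subgroup ↥N₀).index := Subgroup.index_dvd_of_le h3
        rw [hMi] at h5
        exact S'.not_dvd_index h5
      obtain ⟨x, hxS, hxc⟩ := SetLike.not_le_iff_exists.mp hnot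
      obtain ⟨j, hj⟩ := S.isPGroup' ⟨x, hxS⟩
      have hxj : x ^ (p ^ j) = 1 := congrArg Subtype.val hj
      exact exists_normal_index_p_of_not_mem_commutator x hxj (by rw [commutator_def]; exact hxc)

/-- if `W` controls transfer in every group involved in `G` and the automizer of a nontrivial
Sylow `p`-subgroup is a `p`-group, then `G` has a normal subgroup of index `p`. -/
theorem ct_index_main (hW : IsCharPFunctor.{u} p W) {G : Type u} [Group G] [Finite G]
    (hctl : ∀ (Y : Type u) [Group Y], Involves Y G → CTtop p W Y) (S : Sylow p G)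
    (hS : (S : Subgroup G) ≠ ⊥)
    (hN : ∀ g ∈ Subgroup.normalizer ((S : Subgroup G) : Set G), (orderOf g).Coprime p →
      g ∈ Subgroup.centralizer ((S : Subgroup G) : Set G)) :
    ∃ N : Subgroup G, N.Normal ∧ N.index = p :=
  ct_index_aux hW _ G rfl hctl S hS hN

end CT

end Cfsg.Agent.Lib.Helper3
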