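import Cfsg.Agent.Lib.Helper3.ZJ2

set_option autoImplicit false

namespace Cfsg.Agent.Lib.Helper3

open Cfsg
open scoped commutatorElement

section CharPLoc

variable {G : Type*} [Group G]

theorem quad_of_le_of_mem_centralizer {R V : Subgroup G} {x : G}
    (h1 : ⁅R, Subgroup.zpowers x⁆ ≤ V) (h2 : x ∈ Subgroup.centralizer (V : Set G)) :
    ⁅⁅R, Subgroup.zpowers x⁆, Subgroup.zpowers x⁆ = ⊥ := by
  apply le_bot_iff.mp
  refine (Subgroup.commutator_mono h1 (le_refl (Subgroup.zpowers x))).trans ?_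
  rw [Subgroup.commutator_le]
  intro v hv z hz
  rw [Subgroup.mem_bot, commutatorElement_eq_one_iff_commute]
  have hz' : z ∈ Subgroup.centralizer (V : Set G) := (Subgroup.zpowers_le.mpr h2) hz
  exact Subgroup.mem_centralizer_iff.mp hz' v hv

theorem commutator_zpowers_le_of_normalizer {R C : Subgroup G} {x : G} (hx : x ∈ C)
    (hRC : R ≤ Subgroup.normalizer (C : Set G)) : ⁅R, Subgroup.zpowers x⁆ ≤ C := by
  rw [Subgroup.commutator_le]
  intro r hr z hz
  have hzC : z ∈ C := (Subgroup.zpowers_le.mpr hx) hz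
  have h1 : r * z * r⁻¹ ∈ C := (Subgroup.mem_normalizer_iff.mp (hRC hr) z).mp hzC
  exact C.mul_mem h1 (C.inv_mem hzC)

/-- an element acting quadratically on a self-centralizing normal `p`-subgroup is a `p`-element -/
theorem exists_pow_eq_one_of_quad [Finite G] {p : ℕ} [Fact p.Prime]
    (R : Subgroup G) [R.Normal] (hR : IsPGroup p R)
    (hC : Subgroup.centralizer (R : Set G) ≤ R) (x : G)
    (hq : ⁅⁅R, Subgroup.zpowers x⁆, Subgroup.zpowers x⁆ = ⊥) : ∃ k : ℕ, x ^ p ^ k = 1 := by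
  obtain ⟨k, hk⟩ := IsPGroup.iff_card.1 hR
  have h1 := pow_card_mem_centralizer_of_quad R x hq
  rw [hk] at h1
  obtain ⟨j, hj⟩ := hR ⟨_, hC h1⟩
  refine ⟨k + j, ?_⟩
  have h2 : (x ^ p ^ k) ^ p ^ j = 1 := congrArg Subtype.val hj
  rw [pow_add, pow_mul]; exact h2

theorem normalizer_le_normalizer_centralizer' [Finite G] (Q : Subgroup G) :
    Subgroup.normalizer (Q : Set G) ≤
      Subgroup.normalizer ((Subgroup.centralizer (Q : Set G) : Subgroup G) : Set G) := by
  intro t ht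
  apply fin_mem_normalizer
  intro h hh
  refine Subgroup.mem_centralizer_iff.mpr ?_
  intro q hq
  have hq' : t⁻¹ * q * t ∈ Q := (Subgroup.mem_normalizer_iff''.mp ht q).mp hq
  have h1 := Subgroup.mem_centralizer_iff.mp hh _ hq'
  calc q * (t * h * t⁻¹) = t * ((t⁻¹ * q * t) * h) * t⁻¹ := by group
    _ = t * (h * (t⁻¹ * q * t)) * t⁻¹ := by rw [h1]
    _ = t * h * t⁻¹ * q := by group

/-- S2960: in a group of characteristic `p`, a normal subgroup `Q` of a Sylow `p`-subgroup `T`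
with `C_T(Q) ≤ Q` has `C_G(Q) ≤ Q` -/
theorem centralizer_le_of_sylow_normal [Finite G] {p : ℕ} [Fact p.Prime]
    (hG : Subgroup.centralizer (pCore p G : Set G) ≤ pCore p G) (T : Sylow p G) (Q : Subgroup G)
    (hQn : (T : Subgroup G) ≤ Subgroup.normalizer (Q : Set G))
    (hC : (T : Subgroup G) ⊓ Subgroup.centralizer (Q : Set G) ≤ Q) :
    Subgroup.centralizer (Q : Set G) ≤ Q := by
  have hRn := pCore_normal' p G
  have hRp := pCore_isPGroup' p G
  have hRT : pCore p G ≤ T := hRp.le_sylow_of_normal T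
  have hTC : (T : Subgroup G) ≤
      Subgroup.normalizer ((Subgroup.centralizer (Q : Set G) : Subgroup G) : Set G) :=
    hQn.trans (normalizer_le_normalizer_centralizer' Q)
  have hCp : IsPGroup p ↥(Subgroup.centralizer (Q : Set G)) := by
    rintro ⟨x, hx⟩
    have hq : ⁅⁅pCore p G, Subgroup.zpowers x⁆, Subgroup.zpowers x⁆ = ⊥ := by
      apply quad_of_le_of_mem_centralizer (V := pCore p G ⊓ Subgroup.centralizer (Q : Set G))
      · exact le_inf (Subgroup.commutator_le_left _ _)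
          (commutator_zpowers_le_of_normalizer hx (hRT.trans hTC))
      · refine Subgroup.mem_centralizer_iff.mpr ?_
        intro v hv
        have hvQ : v ∈ Q := hC ⟨hRT hv.1, hv.2⟩
        exact Subgroup.mem_centralizer_iff.mp hx v hvQ
    obtain ⟨k, hk⟩ := exists_pow_eq_one_of_quad (pCore p G) hRp hG x hq
    exact ⟨k, Subtype.ext hk⟩
  have hsup := IsPGroup.to_sup_of_normal_right' T.isPGroup' hCp hTC
  have hmax := T.is_maximal' hsup le_sup_left
  intro x hx
  have hxT : x ∈ (T : Subgroup G) := by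
    rw [← hmax]; exact Subgroup.mem_sup_right hx
  exact hC ⟨hxT, hx⟩

/-- S2959: `C_G(O_p(G)) ≤ O_p(G)` and `O_p(G)` normalizes `L` give `C_L(O_p(L)) ≤ O_p(L)` -/
theorem charp_of_pCore_le_normalizer [Finite G] {p : ℕ} [Fact p.Prime]
    (hG : Subgroup.centralizer (pCore p G : Set G) ≤ pCore p G) (L : Subgroup G)
    (hL : pCore p G ≤ Subgroup.normalizer (L : Set G)) :
    Subgroup.centralizer (pCore p ↥L : Set ↥L) ≤ pCore p ↥L := by
  have hRn := pCore_normal' p G
  have hRp := pCore_isPGroup' p G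
  have hPn := pCore_normal' p ↥L
  have hVn : ((pCore p G).subgroupOf L).Normal := inferInstance
  have hVle : (pCore p G).subgroupOf L ≤ pCore p ↥L := le_pCore' hVn hRp.comap_subtype
  apply le_pCore' inferInstance
  rintro ⟨x, hx⟩
  have hq : ⁅⁅pCore p G, Subgroup.zpowers (x : G)⁆, Subgroup.zpowers (x : G)⁆ = ⊥ := by
    apply quad_of_le_of_mem_centralizer (V := pCore p G ⊓ L)
    · exact le_inf (Subgroup.commutator_le_left _ _) (commutator_zpowers_le_of_normalizer x.2 hL)
    · refine Subgroup.mem_centralizer_iff.mpr ?_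
      intro v hv
      have hvP : (⟨v, hv.2⟩ : ↥L) ∈ pCore p ↥L := hVle (Subgroup.mem_subgroupOf.mpr hv.1)
      have h1 := Subgroup.mem_centralizer_iff.mp hx _ hvP
      exact congrArg Subtype.val h1
  obtain ⟨k, hk⟩ := exists_pow_eq_one_of_quad (pCore p G) hRp hG (x : G) hq
  refine ⟨k, ?_⟩
  apply Subtype.ext
  apply Subtype.ext
  exact hk

/-- S2958 -/
theorem eq_top_or_eq_top_of_conj_cover (X A B : Subgroup G)
    (hgen : (⨆ g : G, X.map (MulAut.conj g).toMonoidHom) = ⊤)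
    (hcover : ∀ g : G, X.map (MulAut.conj g).toMonoidHom ≤ A ∨
      X.map (MulAut.conj g).toMonoidHom ≤ B) : A = ⊤ ∨ B = ⊤ := by
  by_contra hcon
  push Not at hcon
  obtain ⟨hA, hB⟩ := hcon
  -- the subgroup generated by the conjugates not inside `A`
  have hmapB : ∀ a ∈ A, (⨆ g : {g : G // ¬ X.map (MulAut.conj g).toMonoidHom ≤ A},
      X.map (MulAut.conj (g : G)).toMonoidHom).map (MulAut.conj a).toMonoidHom ≤
      ⨆ g : {g : G // ¬ X.map (MulAut.conj g).toMonoidHom ≤ A},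
        X.map (MulAut.conj (g : G)).toMonoidHom := by
    intro a ha
    rw [Subgroup.map_iSup]
    apply iSup_le
    rintro ⟨g, hg⟩
    have e : (X.map (MulAut.conj g).toMonoidHom).map (MulAut.conj a).toMonoidHom =
        X.map (MulAut.conj (a * g)).toMonoidHom := by
      rw [Subgroup.map_map]; congr 1; ext y
      show a * (g * y * g⁻¹) * a⁻¹ = a * g * y * (a * g)⁻¹
      group
    have hag : ¬ X.map (MulAut.conj (a * g)).toMonoidHom ≤ A := by
      intro hle
      apply hg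
      rintro _ ⟨y, hy, rfl⟩
      have h1 : a * g * y * (a * g)⁻¹ ∈ A := hle ⟨y, hy, rfl⟩
      have h2 : a⁻¹ * (a * g * y * (a * g)⁻¹) * a ∈ A := A.mul_mem (A.mul_mem (A.inv_mem ha) h1) ha
      have e2 : a⁻¹ * (a * g * y * (a * g)⁻¹) * a = g * y * g⁻¹ := by group
      rw [e2] at h2
      exact h2
    rw [e]
    exact le_iSup (fun g : {g : G // ¬ X.map (MulAut.conj g).toMonoidHom ≤ A} =>
      X.map (MulAut.conj (g : G)).toMonoidHom) ⟨a * g, hag⟩
  have hAN : A ≤ Subgroup.normalizer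
      ((⨆ g : {g : G // ¬ X.map (MulAut.conj g).toMonoidHom ≤ A},
        X.map (MulAut.conj (g : G)).toMonoidHom : Subgroup G) : Set G) := by
    intro a ha
    rw [Subgroup.mem_normalizer_iff]
    intro h
    constructor
    · intro hh
      exact hmapB a ha ⟨h, hh, rfl⟩
    · intro hh
      have h1 := hmapB a⁻¹ (A.inv_mem ha) ⟨_, hh, rfl⟩
      have e : (MulAut.conj a⁻¹).toMonoidHom (a * h * a⁻¹) = h := by
        show a⁻¹ * (a * h * a⁻¹) * a⁻¹⁻¹ = h
        group
      rw [e] at h1; exact h1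
  have htop : (⊤ : Subgroup G) ≤ Subgroup.normalizer
      ((⨆ g : {g : G // ¬ X.map (MulAut.conj g).toMonoidHom ≤ A},
        X.map (MulAut.conj (g : G)).toMonoidHom : Subgroup G) : Set G) := by
    rw [← hgen]
    apply iSup_le
    intro g
    by_cases hg : X.map (MulAut.conj g).toMonoidHom ≤ A
    · exact hg.trans hAN
    · exact (le_iSup (fun g : {g : G // ¬ X.map (MulAut.conj g).toMonoidHom ≤ A} =>
        X.map (MulAut.conj (g : G)).toMonoidHom) ⟨g, hg⟩).trans Subgroup.le_normalizer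
  have hnorm : (⨆ g : {g : G // ¬ X.map (MulAut.conj g).toMonoidHom ≤ A},
      X.map (MulAut.conj (g : G)).toMonoidHom).Normal :=
    Subgroup.normalizer_eq_top_iff.mp (top_le_iff.mp htop)
  have hB₀ : (⨆ g : {g : G // ¬ X.map (MulAut.conj g).toMonoidHom ≤ A},
      X.map (MulAut.conj (g : G)).toMonoidHom) ≤ B := by
    apply iSup_le
    rintro ⟨g, hg⟩
    exact (hcover g).resolve_left hg
  have hex : ∃ g₀ : G, ¬ X.map (MulAut.conj g₀).toMonoidHom ≤ A := by
    by_contra hne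
    push Not at hne
    apply hA
    rw [eq_top_iff, ← hgen]
    exact iSup_le hne
  obtain ⟨g₀, hg₀⟩ := hex
  apply hB
  rw [eq_top_iff, ← hgen]
  apply iSup_le
  intro g
  refine le_trans ?_ hB₀
  rintro _ ⟨y, hy, rfl⟩
  have h1 : g₀ * y * g₀⁻¹ ∈ ⨆ g : {g : G // ¬ X.map (MulAut.conj g).toMonoidHom ≤ A},
      X.map (MulAut.conj (g : G)).toMonoidHom :=
    (le_iSup (fun g : {g : G // ¬ X.map (MulAut.conj g).toMonoidHom ≤ A} =>
        X.map (MulAut.conj (g : G)).toMonoidHom) ⟨g₀, hg₀⟩) ⟨y, hy, rfl⟩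
  have h2 := hnorm.conj_mem _ h1 (g * g₀⁻¹)
  have e : g * g₀⁻¹ * (g₀ * y * g₀⁻¹) * (g * g₀⁻¹)⁻¹ = g * y * g⁻¹ := by group
  rw [e] at h2
  exact h2

end CharPLoc

end Cfsg.Agent.Lib.Helper3
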