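import Mathlib
import Cfsg.Agent.Lib.Helper3.EA

set_option autoImplicit false

namespace Cfsg.Agent.Lib.Helper3

open Subgroup

universe u

/-- A Sylow `p`-subgroup times a subgroup of `p`-power index is the whole group. -/
theorem sylow_mul_of_index_pow {G : Type u} [Group G] [Finite G] {p : ℕ} [hp : Fact p.Prime]
    (P : Sylow p G) (C : Subgroup G) (a : ℕ) (hC : C.index = p ^ a) (g : G) :
    ∃ u ∈ (P : Subgroup G), ∃ c ∈ C, g = u * c := by
  classical
  obtain ⟨b, hb⟩ : ∃ b : G ⧸ C, b = ((1 : G) : G ⧸ C) := ⟨_, rfl⟩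
  have hmem : ∀ u : ↥(P : Subgroup G),
      u ∈ MulAction.stabilizer (↥(P : Subgroup G)) b → (u : G) ∈ C := by
    intro u hu
    have h1 : u • b = b := hu
    rw [hb] at h1
    have h2 : (((u : G) * 1 : G) : G ⧸ C) = ((1 : G) : G ⧸ C) := h1
    rw [QuotientGroup.eq] at h2
    have h3 : ((u : G) * 1)⁻¹ * 1 = (u : G)⁻¹ := by group
    rw [h3] at h2
    exact inv_mem_iff.mp h2
  have hSp : IsPGroup p (MulAction.stabilizer (↥(P : Subgroup G)) b) := P.isPGroup'.to_subgroup _
  obtain ⟨k, hk⟩ := hSp.exists_card_eq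
  let f : MulAction.stabilizer (↥(P : Subgroup G)) b →* C :=
    { toFun := fun u => ⟨((u : ↥(P : Subgroup G)) : G), hmem u.1 u.2⟩
      map_one' := rfl
      map_mul' := fun _ _ => rfl }
  have hf : Function.Injective f := by
    intro u v huv
    have h1 : ((u : ↥(P : Subgroup G)) : G) = ((v : ↥(P : Subgroup G)) : G) :=
      congrArg (fun z : C => (z : G)) huv
    exact Subtype.ext (Subtype.ext h1)
  have hdvd : p ^ k ∣ Nat.card C := by
    rw [← hk]; exact Subgroup.card_dvd_of_injective f hf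
  have hG : Nat.card C * p ^ a = Nat.card G := by rw [← hC]; exact C.card_mul_index
  have hPcard : Nat.card (P : Subgroup G) = p ^ (Nat.card G).factorization p :=
    P.card_eq_multiplicity
  have hka : k + a ≤ (Nat.card G).factorization p := by
    have h1 : p ^ (k + a) ∣ Nat.card G := by
      rw [pow_add, ← hG]; exact Nat.mul_dvd_mul_right hdvd _
    exact (hp.out.pow_dvd_iff_le_factorization Nat.card_pos.ne').mp h1
  have h4 : p ^ k * (MulAction.orbit (↥(P : Subgroup G)) b).ncard
      = p ^ (Nat.card G).factorization p := by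
    rw [← hk, ← hPcard, ← MulAction.index_stabilizer]
    exact Subgroup.card_mul_index _
  have h5 : (MulAction.orbit (↥(P : Subgroup G)) b).ncard
      = p ^ ((Nat.card G).factorization p - k) := by
    have h6 : p ^ (Nat.card G).factorization p
        = p ^ k * p ^ ((Nat.card G).factorization p - k) := by
      rw [← pow_add]; congr 1; omega
    rw [h6] at h4
    exact Nat.eq_of_mul_eq_mul_left (pow_pos hp.out.pos k) h4
  have h8 : MulAction.orbit (↥(P : Subgroup G)) b = Set.univ := by
    apply Set.eq_of_subset_of_ncard_le (Set.subset_univ _)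
    rw [Set.ncard_univ, h5]
    have h9 : Nat.card (G ⧸ C) = p ^ a := hC
    rw [h9]
    exact Nat.pow_le_pow_right hp.out.pos (by omega)
  have h10 : ((g : G) : G ⧸ C) ∈ MulAction.orbit (↥(P : Subgroup G)) b := by rw [h8]; trivial
  obtain ⟨u, hu⟩ := h10
  have hu' : u • b = ((g : G) : G ⧸ C) := hu
  rw [hb] at hu'
  have h11 : (((u : G) * 1 : G) : G ⧸ C) = ((g : G) : G ⧸ C) := hu'
  rw [QuotientGroup.eq] at h11
  exact ⟨(u : G), u.2, ((u : G) * 1)⁻¹ * g, h11, by group⟩

/-- If the class of `x` has `p`-power size, every conjugate of `x` is a conjugate by an element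
of a given Sylow `p`-subgroup. -/
theorem conj_eq_sylow_conj {G : Type u} [Group G] [Finite G] {p : ℕ} [hp : Fact p.Prime]
    (P : Sylow p G) (x : G) (a : ℕ) (h : (centralizer ({x} : Set G)).index = p ^ a) (g : G) :
    ∃ u ∈ (P : Subgroup G), g * x * g⁻¹ = u * x * u⁻¹ := by
  obtain ⟨u, hu, c, hc, rfl⟩ := sylow_mul_of_index_pow P _ a h g
  refine ⟨u, hu, ?_⟩
  have hcx : c * x = x * c := mem_centralizer_singleton_iff.mp hc
  calc u * c * x * (u * c)⁻¹ = u * (c * x) * c⁻¹ * u⁻¹ := by group
    _ = u * (x * c) * c⁻¹ * u⁻¹ := by rw [hcx]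
    _ = u * x * u⁻¹ := by group

end Cfsg.Agent.Lib.Helper3
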