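import Mathlib
import Cfsg.Agent.Lib.Helper3.ClassSize
import Cfsg.Agent.Lib.Helper3.Glauberman
import Cfsg.Agent.Lib.Helper7.ConjUnion
import Cfsg.Agent.S0071

set_option autoImplicit false

namespace Cfsg.Agent.Lib.Helper3

open Subgroup
open scoped Pointwise

universe u

/-- centralizer of a product of commuting elements of coprime orders -/
theorem centralizer_mul_of_coprime {G : Type u} [Group G] (x y : G) (hc : Commute x y)
    (hcop : (orderOf x).Coprime (orderOf y)) :
    centralizer ({x * y} : Set G) = centralizer {x} ⊓ centralizer {y} := by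
  ext g
  rw [mem_inf, mem_centralizer_singleton_iff, mem_centralizer_singleton_iff,
    mem_centralizer_singleton_iff]
  constructor
  · intro h
    have hg : Commute g (x * y) := h
    have h1 : (x * y) ^ orderOf y = x ^ orderOf y := by
      rw [hc.mul_pow, pow_orderOf_eq_one, mul_one]
    have h2 : (x * y) ^ orderOf x = y ^ orderOf x := by
      rw [hc.mul_pow, pow_orderOf_eq_one, one_mul]
    obtain ⟨m1, hm1⟩ := exists_pow_eq_self_of_coprime (x := x) (n := orderOf y) hcop.symm
    obtain ⟨m2, hm2⟩ := exists_pow_eq_self_of_coprime (x := y) (n := orderOf x) hcop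
    constructor
    · have h3 : Commute g (((x * y) ^ orderOf y) ^ m1) := (hg.pow_right _).pow_right _
      rw [h1, hm1] at h3; exact h3
    · have h3 : Commute g (((x * y) ^ orderOf x) ^ m2) := (hg.pow_right _).pow_right _
      rw [h2, hm2] at h3; exact h3
  · rintro ⟨h1, h2⟩
    rw [← mul_assoc, h1, mul_assoc, h2, mul_assoc]

/-- a subgroup of index prime to `p` containing a `p`-element `z` contains a Sylow `p`-subgroup
through `z` -/
theorem exists_sylow_le_of_index {C : Type u} [Group C] [Finite C] {p : ℕ} [hp : Fact p.Prime]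
    (D : Subgroup C) (hD : ¬ p ∣ D.index) (z : C) (hz : z ∈ D) (hzp : ∃ k, orderOf z = p ^ k) :
    ∃ S : Sylow p C, (S : Subgroup C) ≤ D ∧ z ∈ (S : Subgroup C) := by
  have hzD : IsPGroup p (zpowers (⟨z, hz⟩ : D)) := by
    obtain ⟨k, hk⟩ := hzp
    apply IsPGroup.of_card (n := k)
    rw [Nat.card_zpowers, ← hk]
    exact Subgroup.orderOf_mk z hz
  obtain ⟨SD, hSD⟩ := hzD.exists_le_sylow
  have hcard : Nat.card ((SD : Subgroup D).map D.subtype) = p ^ (Nat.card C).factorization p := by
    rw [Subgroup.card_subtype, SD.card_eq_multiplicity]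
    congr 1
    have h1 : Nat.card D * D.index = Nat.card C := D.card_mul_index
    have h0 : D.index ≠ 0 := by
      intro h0; rw [h0] at hD; exact hD (dvd_zero p)
    rw [← h1, Nat.factorization_mul Nat.card_pos.ne' h0, Finsupp.add_apply,
      Nat.factorization_eq_zero_of_not_dvd hD, add_zero]
  refine ⟨Sylow.ofCard _ hcard, ?_, ?_⟩
  · rw [Sylow.coe_ofCard]
    exact Subgroup.map_subtype_le _
  · rw [Sylow.coe_ofCard]
    exact ⟨⟨z, hz⟩, hSD (mem_zpowers _), rfl⟩

/-- If every `p'`-element has class size prime to `p`, the group has a normal Hall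
`p'`-subgroup (in fact the Sylow `p`-subgroup is a direct factor). -/
theorem direct_factor_of_pprime_classes {C : Type u} [Group C] [Finite C] {p : ℕ}
    [hp : Fact p.Prime]
    (h : ∀ y : C, (orderOf y).Coprime p → ¬ p ∣ (centralizer ({y} : Set C)).index) :
    ∃ H : Subgroup C, H.Normal ∧ (Nat.card H).Coprime p ∧ ∃ n : ℕ, H.index = p ^ n := by
  obtain ⟨P0⟩ : Nonempty (Sylow p C) := inferInstance
  have step1 : ∀ c : C, ∃ S : Sylow p C, c ∈ normalizer ((S : Subgroup C) : Set C) := by
    intro c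
    obtain ⟨k, m, hm, hord⟩ :=
      Nat.exists_eq_pow_mul_and_not_dvd (orderOf_pos c).ne' p hp.out.ne_one
    have hmpos : 0 < m := Nat.pos_of_ne_zero (by rintro rfl; exact hm (dvd_zero p))
    obtain ⟨y, hy⟩ : ∃ y : C, y = c ^ (p ^ k) := ⟨_, rfl⟩
    obtain ⟨z, hz⟩ : ∃ z : C, z = c ^ m := ⟨_, rfl⟩
    have hyord : orderOf y = m := by
      rw [hy, orderOf_pow, hord, Nat.gcd_eq_right (dvd_mul_right _ _)]
      exact Nat.mul_div_cancel_left m (pow_pos hp.out.pos k)
    have hzord : orderOf z = p ^ k := by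
      rw [hz, orderOf_pow, hord, Nat.gcd_eq_right (dvd_mul_left _ _)]
      exact Nat.mul_div_cancel _ hmpos
    have hpm : p.Coprime m := (Nat.Prime.coprime_iff_not_dvd hp.out).mpr hm
    have hycop : (orderOf y).Coprime p := by rw [hyord]; exact hpm.symm
    have hD := h y hycop
    have hzD : z ∈ centralizer ({y} : Set C) := by
      rw [mem_centralizer_singleton_iff, hy, hz, ← pow_add, ← pow_add, add_comm]
    obtain ⟨S, hSD, hzS⟩ := exists_sylow_le_of_index _ hD z hzD ⟨k, hzord⟩
    refine ⟨S, ?_⟩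
    have hyN : y ∈ normalizer ((S : Subgroup C) : Set C) := by
      apply fin_mem_normalizer
      intro s hs
      have h1 : s * y = y * s := mem_centralizer_singleton_iff.mp (hSD hs)
      have h2 : y * s * y⁻¹ = s := by rw [← h1]; group
      rw [h2]; exact hs
    have hzN : z ∈ normalizer ((S : Subgroup C) : Set C) := le_normalizer hzS
    have hbez := Int.gcd_eq_gcd_ab (m : ℤ) ((p ^ k : ℕ) : ℤ)
    have hg1 : Int.gcd (m : ℤ) ((p ^ k : ℕ) : ℤ) = 1 := by
      rw [Int.gcd_natCast_natCast]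
      exact Nat.Coprime.pow_right k hpm.symm
    rw [hg1] at hbez
    have hc : c = z ^ (Int.gcdA (m : ℤ) ((p ^ k : ℕ) : ℤ))
        * y ^ (Int.gcdB (m : ℤ) ((p ^ k : ℕ) : ℤ)) := by
      rw [hz, hy, ← zpow_natCast, ← zpow_natCast c (p ^ k), ← zpow_mul, ← zpow_mul, ← zpow_add,
        ← hbez]
      simp
    rw [hc]
    exact mul_mem (zpow_mem hzN _) (zpow_mem hyN _)
  have step2 : normalizer ((P0 : Subgroup C) : Set C) = ⊤ := by
    by_contra hne
    obtain ⟨c, hc⟩ := Cfsg.Agent.Lib.Helper7.exists_not_mem_conj _ hne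
    obtain ⟨S, hS⟩ := step1 c
    obtain ⟨g, hg⟩ := MulAction.exists_smul_eq C P0 S
    apply hc g
    rw [Cfsg.Agent.Lib.Helper7.mem_conj_smul_iff]
    have hcS : c • S = S := Sylow.smul_eq_iff_mem_normalizer.mpr hS
    refine Sylow.smul_eq_iff_mem_normalizer.mp ?_
    rw [mul_smul, mul_smul, hg, hcS, ← hg, inv_smul_smul]
  have hP0n : (P0 : Subgroup C).Normal := normalizer_eq_top_iff.mp step2
  have step3 : ∀ y : C, (orderOf y).Coprime p → ∀ u ∈ (P0 : Subgroup C), u * y = y * u := by
    intro y hy u hu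
    obtain ⟨S, hSD, -⟩ := exists_sylow_le_of_index _ (h y hy) 1 (one_mem _) ⟨0, by simp⟩
    obtain ⟨g, hg⟩ := MulAction.exists_smul_eq C P0 S
    have hS : S = P0 := by rw [← hg]; exact Sylow.smul_eq_of_normal
    rw [hS] at hSD
    exact mem_centralizer_singleton_iff.mp (hSD hu)
  have hfrob := (Cfsg.Agent.S0071.result P0).mpr (by
    intro Q hQ g hg hcop
    rw [mem_centralizer_iff]
    intro q hq
    exact step3 g hcop q (hQ hq))
  obtain ⟨H, hHn, hcompl⟩ := hfrob
  obtain ⟨f, hf⟩ : ∃ f : ℕ, f = (Nat.card C).factorization p := ⟨_, rfl⟩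
  have hP0card : Nat.card (P0 : Subgroup C) = p ^ f := by rw [hf]; exact P0.card_eq_multiplicity
  refine ⟨H, hHn, ?_, f, ?_⟩
  · have h1 : Nat.card H * Nat.card (P0 : Subgroup C) = Nat.card C := hcompl.card_mul_card
    rw [hP0card] at h1
    rw [Nat.coprime_comm, Nat.Prime.coprime_iff_not_dvd hp.out]
    intro hdvd
    have h2 : p ^ (f + 1) ∣ Nat.card C := by
      obtain ⟨t, ht⟩ := hdvd
      refine ⟨t, ?_⟩
      rw [← h1, ht, pow_succ]; ring
    rw [hf] at h2
    exact Nat.pow_succ_factorization_not_dvd (Nat.card_pos (α := C)).ne' hp.out h2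
  · rw [← hP0card]
    exact hcompl.symm.index_eq_card

/-- a normal subgroup of `p`-power index contains every subgroup of order prime to `p` -/
theorem le_of_normal_of_coprime {C : Type u} [Group C] [Finite C] {p : ℕ} [Fact p.Prime]
    (H : Subgroup C) [H.Normal] (n : ℕ) (hH : H.index = p ^ n) (K : Subgroup C)
    (hK : (Nat.card K).Coprime p) : K ≤ H := by
  intro k hk
  rw [← QuotientGroup.eq_one_iff, ← orderOf_eq_one_iff]
  have h1 : orderOf ((QuotientGroup.mk' H) k) ∣ orderOf k := orderOf_map_dvd (QuotientGroup.mk' H) k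
  have h2 : orderOf k ∣ Nat.card K := Subgroup.orderOf_dvd_natCard K hk
  have h3 : orderOf ((QuotientGroup.mk' H) k) ∣ p ^ n := by
    rw [← hH]; exact _root_.orderOf_dvd_natCard _
  have h4 : (orderOf ((QuotientGroup.mk' H) k)).Coprime (p ^ n) :=
    Nat.Coprime.pow_right n (Nat.Coprime.coprime_dvd_left (h1.trans h2) hK)
  exact Nat.Coprime.eq_one_of_dvd h4 h3

end Cfsg.Agent.Lib.Helper3
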