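import Mathlib.GroupTheory.Commutator.Basic
import Mathlib.GroupTheory.Subgroup.Centralizer
import Mathlib.Tactic.Group
import Cfsg.Agent.Lib.Helper3.Comm

set_option autoImplicit false

namespace Cfsg.Agent.Lib.Helper3

open scoped commutatorElement

section CC

variable {G : Type*} [Group G]

/-- in a class-two situation, commutators of elements of a generated subgroup square to one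
as soon as the commutators of the generators do -/
theorem class2_commutator_sq {N : Subgroup G}
    (hZ : ⁅N, N⁆ ≤ Subgroup.centralizer (N : Set G)) (s : Set G) (hsN : s ⊆ N)
    (hs : ∀ x ∈ s, ∀ y ∈ s, ⁅x, y⁆ * ⁅x, y⁆ = 1) :
    ∀ w ∈ ⁅Subgroup.closure s, Subgroup.closure s⁆, w ^ 2 = 1 := by
  have hXN : Subgroup.closure s ≤ N := (Subgroup.closure_le _).mpr hsN
  have hcen : ∀ x ∈ N, ∀ y ∈ N, ∀ n ∈ N, ⁅x, y⁆ * n = n * ⁅x, y⁆ := by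
    intro x hx y hy n hn
    exact (Subgroup.mem_centralizer_iff.mp (hZ (Subgroup.commutator_mem_commutator hx hy)) n hn).symm
  have hcN : ∀ x ∈ N, ∀ y ∈ N, ⁅x, y⁆ ∈ N := fun x hx y hy =>
    N.mul_mem (N.mul_mem (N.mul_mem hx hy) (N.inv_mem hx)) (N.inv_mem hy)
  have step1 : ∀ y ∈ s, ∀ x ∈ Subgroup.closure s, ⁅x, y⁆ * ⁅x, y⁆ = 1 := by
    intro y hy x hx
    induction hx using Subgroup.closure_induction with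
    | mem x hx => exact hs x hx y hy
    | one => simp
    | mul x x' hx hx' ihx ihx' =>
      have hxN := hXN hx
      have hx'N := hXN hx'
      have hyN := hsN hy
      have e : ⁅x * x', y⁆ = x * ⁅x', y⁆ * x⁻¹ * ⁅x, y⁆ := by
        simp only [commutatorElement_def]; group
      have e2 : x * ⁅x', y⁆ * x⁻¹ = ⁅x', y⁆ := by
        rw [← hcen x' hx'N y hyN x hxN, mul_inv_cancel_right]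
      have e3 : ⁅x', y⁆ * ⁅x, y⁆ = ⁅x, y⁆ * ⁅x', y⁆ := hcen x' hx'N y hyN _ (hcN x hxN y hyN)
      rw [e, e2]
      calc ⁅x', y⁆ * ⁅x, y⁆ * (⁅x', y⁆ * ⁅x, y⁆)
          = ⁅x', y⁆ * (⁅x, y⁆ * ⁅x', y⁆) * ⁅x, y⁆ := by simp only [mul_assoc]
        _ = ⁅x', y⁆ * (⁅x', y⁆ * ⁅x, y⁆) * ⁅x, y⁆ := by rw [e3]
        _ = (⁅x', y⁆ * ⁅x', y⁆) * (⁅x, y⁆ * ⁅x, y⁆) := by simp only [mul_assoc]
        _ = 1 := by rw [ihx, ihx', one_mul]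
    | inv x hx ihx =>
      have hxN := hXN hx
      have hyN := hsN hy
      have e : ⁅x⁻¹, y⁆ = x⁻¹ * ⁅x, y⁆⁻¹ * x⁻¹⁻¹ := by
        simp only [commutatorElement_def]; group
      have e2 : x⁻¹ * ⁅x, y⁆⁻¹ * x⁻¹⁻¹ = ⁅x, y⁆⁻¹ := by
        rw [commutatorElement_inv, ← hcen y hyN x hxN x⁻¹ (N.inv_mem hxN), mul_inv_cancel_right]
      rw [e, e2, ← mul_inv_rev, ihx, inv_one]
  have step2 : ∀ x ∈ Subgroup.closure s, ∀ y ∈ Subgroup.closure s, ⁅x, y⁆ * ⁅x, y⁆ = 1 := by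
    intro x hx y hy
    have hxN := hXN hx
    induction hy using Subgroup.closure_induction with
    | mem y hy => exact step1 y hy x hx
    | one => simp
    | mul y y' hy hy' ihy ihy' =>
      have hyN := hXN hy
      have hy'N := hXN hy'
      have e : ⁅x, y * y'⁆ = ⁅x, y⁆ * (y * ⁅x, y'⁆ * y⁻¹) := by
        simp only [commutatorElement_def]; group
      have e2 : y * ⁅x, y'⁆ * y⁻¹ = ⁅x, y'⁆ := by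
        rw [← hcen x hxN y' hy'N y hyN, mul_inv_cancel_right]
      have e3 : ⁅x, y⁆ * ⁅x, y'⁆ = ⁅x, y'⁆ * ⁅x, y⁆ := hcen x hxN y hyN _ (hcN x hxN y' hy'N)
      rw [e, e2]
      calc ⁅x, y⁆ * ⁅x, y'⁆ * (⁅x, y⁆ * ⁅x, y'⁆)
          = ⁅x, y⁆ * (⁅x, y'⁆ * ⁅x, y⁆) * ⁅x, y'⁆ := by simp only [mul_assoc]
        _ = ⁅x, y⁆ * (⁅x, y⁆ * ⁅x, y'⁆) * ⁅x, y'⁆ := by rw [e3]
        _ = (⁅x, y⁆ * ⁅x, y⁆) * (⁅x, y'⁆ * ⁅x, y'⁆) := by simp only [mul_assoc]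
        _ = 1 := by rw [ihy, ihy', one_mul]
    | inv y hy ihy =>
      have hyN := hXN hy
      have e : ⁅x, y⁻¹⁆ = y⁻¹ * ⁅x, y⁆⁻¹ * y⁻¹⁻¹ := by
        simp only [commutatorElement_def]; group
      have e2 : y⁻¹ * ⁅x, y⁆⁻¹ * y⁻¹⁻¹ = ⁅x, y⁆⁻¹ := by
        rw [commutatorElement_inv, ← hcen y hyN x hxN y⁻¹ (N.inv_mem hyN), mul_inv_cancel_right]
      rw [e, e2, ← mul_inv_rev, ihy, inv_one]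
  intro w hw
  rw [Subgroup.commutator_def] at hw
  have hgenN : ∀ g ∈ {g | ∃ g₁ ∈ Subgroup.closure s, ∃ g₂ ∈ Subgroup.closure s, ⁅g₁, g₂⁆ = g},
      g ∈ ⁅N, N⁆ := by
    rintro g ⟨g₁, h1, g₂, h2, rfl⟩
    exact Subgroup.commutator_mem_commutator (hXN h1) (hXN h2)
  have hclN : Subgroup.closure
      {g | ∃ g₁ ∈ Subgroup.closure s, ∃ g₂ ∈ Subgroup.closure s, ⁅g₁, g₂⁆ = g} ≤ ⁅N, N⁆ :=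
    (Subgroup.closure_le _).mpr hgenN
  have hNN : ⁅N, N⁆ ≤ N := by
    rw [Subgroup.commutator_le]
    exact fun x hx y hy => hcN x hx y hy
  induction hw using Subgroup.closure_induction with
  | mem g hg =>
    obtain ⟨g₁, h1, g₂, h2, rfl⟩ := hg
    rw [pow_two]; exact step2 g₁ h1 g₂ h2
  | one => simp
  | mul w w' hw hw' ihw ihw' =>
    have h1 : Commute w w' :=
      (Subgroup.mem_centralizer_iff.mp (hZ (hclN hw)) w' (hNN (hclN hw'))).symm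
    rw [h1.mul_pow, ihw, ihw', one_mul]
  | inv w hw ihw => rw [inv_pow, ihw, inv_one]

variable {A B : Subgroup G} {u : G}

theorem cc_B'_le_B : ⁅B, B⁆ ≤ B := by
  rw [Subgroup.commutator_le]
  exact fun x hx y hy => B.mul_mem (B.mul_mem (B.mul_mem hx hy) (B.inv_mem hx)) (B.inv_mem hy)

theorem cc_A_le (hc : ⁅⁅B, B⁆, A⁆ = ⊥) :
    A ≤ Subgroup.centralizer ((⁅B, B⁆ : Subgroup G) : Set G) := by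
  have h := Subgroup.commutator_eq_bot_iff_le_centralizer.mp hc
  intro a ha
  refine Subgroup.mem_centralizer_iff.mpr ?_
  intro d hd
  exact (Subgroup.mem_centralizer_iff.mp (h hd) a ha).symm

/-- `B` normalizes the centralizer of its derived subgroup -/
theorem cc_conj_mem_C' {y b : G} (hy : y ∈ Subgroup.centralizer ((⁅B, B⁆ : Subgroup G) : Set G))
    (hb : b ∈ B) : b * y * b⁻¹ ∈ Subgroup.centralizer ((⁅B, B⁆ : Subgroup G) : Set G) := by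
  refine Subgroup.mem_centralizer_iff.mpr ?_
  intro d hd
  have hd' : b⁻¹ * d * b ∈ ⁅B, B⁆ := by
    have e : b⁻¹ * d * b = ⁅b⁻¹, d⁆ * d := by simp [commutatorElement_def]
    rw [e]
    exact Subgroup.mul_mem _
      (Subgroup.commutator_mem_commutator (B.inv_mem hb) (cc_B'_le_B hd)) hd
  have h1 : (b⁻¹ * d * b) * y = y * (b⁻¹ * d * b) := Subgroup.mem_centralizer_iff.mp hy _ hd'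
  calc d * (b * y * b⁻¹) = b * ((b⁻¹ * d * b) * y) * b⁻¹ := by group
    _ = b * (y * (b⁻¹ * d * b)) * b⁻¹ := by rw [h1]
    _ = b * y * b⁻¹ * d := by group

theorem cc_N_le_C' (hc : ⁅⁅B, B⁆, A⁆ = ⊥) :
    ⁅B, A⁆ ≤ Subgroup.centralizer ((⁅B, B⁆ : Subgroup G) : Set G) := by
  rw [Subgroup.commutator_le]
  intro b hb a ha
  exact Subgroup.mul_mem _ (cc_conj_mem_C' (cc_A_le hc ha) hb)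
    (Subgroup.inv_mem _ (cc_A_le hc ha))

theorem cc_N_le_B (hAB : A ≤ Subgroup.normalizer (B : Set G)) : ⁅B, A⁆ ≤ B := by
  rw [Subgroup.commutator_le]
  intro b hb a ha
  have h1 : a * b⁻¹ * a⁻¹ ∈ B := (Subgroup.mem_normalizer_iff.mp (hAB ha) b⁻¹).mp (B.inv_mem hb)
  have e : ⁅b, a⁆ = b * (a * b⁻¹ * a⁻¹) := by simp [commutatorElement_def, mul_assoc]
  rw [e]
  exact B.mul_mem hb h1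

/-- first part of the statement: `[B, A]' ≤ Z(B)` -/
theorem cc_part1 (hAB : A ≤ Subgroup.normalizer (B : Set G)) (hc : ⁅⁅B, B⁆, A⁆ = ⊥) :
    ⁅⁅B, A⁆, ⁅B, A⁆⁆ ≤ B ⊓ Subgroup.centralizer (B : Set G) := by
  have hNB := cc_N_le_B hAB
  have hNC := cc_N_le_C' hc
  have hB'N : ⁅⁅B, B⁆, ⁅B, A⁆⁆ = ⊥ := by
    rw [Subgroup.commutator_eq_bot_iff_le_centralizer]
    intro d hd
    refine Subgroup.mem_centralizer_iff.mpr ?_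
    intro n hn
    exact (Subgroup.mem_centralizer_iff.mp (hNC hn) d hd).symm
  apply le_inf
  · exact (Subgroup.commutator_mono hNB hNB).trans cc_B'_le_B
  · rw [← Subgroup.commutator_eq_bot_iff_le_centralizer]
    apply Subgroup.commutator_commutator_eq_bot_of_rotate
    · exact le_bot_iff.mp ((Subgroup.commutator_mono (Subgroup.commutator_mono hNB le_rfl)
        le_rfl).trans (le_of_eq hB'N))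
    · exact le_bot_iff.mp ((Subgroup.commutator_mono (Subgroup.commutator_mono le_rfl hNB)
        le_rfl).trans (le_of_eq hB'N))

theorem cc_comm {d y : G} (hd : d ∈ ⁅B, B⁆)
    (hy : y ∈ Subgroup.centralizer ((⁅B, B⁆ : Subgroup G) : Set G)) : y * d * y⁻¹ = d := by
  rw [← Subgroup.mem_centralizer_iff.mp hy d hd, mul_inv_cancel_right]

theorem cc_c_mem_N (hu : u ∈ B) {a : G} (ha : a ∈ A) : ⁅a, u⁆ ∈ ⁅B, A⁆ := by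
  rw [← commutatorElement_inv]
  exact Subgroup.inv_mem _ (Subgroup.commutator_mem_commutator hu ha)

theorem cc_dc_mem_C' (hc : ⁅⁅B, B⁆, A⁆ = ⊥) (hu : u ∈ B) {d d' : G} (hd : d ∈ A) (hd' : d' ∈ A) :
    ⁅d, ⁅d', u⁆⁆ ∈ Subgroup.centralizer ((⁅B, B⁆ : Subgroup G) : Set G) := by
  have h1 := cc_A_le hc hd
  have h2 := cc_N_le_C' hc (cc_c_mem_N hu hd')
  exact Subgroup.mul_mem _ (Subgroup.mul_mem _ (Subgroup.mul_mem _ h1 h2) (Subgroup.inv_mem _ h1))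
    (Subgroup.inv_mem _ h2)

theorem cc_h_mem_B' (hAB : A ≤ Subgroup.normalizer (B : Set G)) (hu : u ∈ B) {d : G}
    (hd : d ∈ A) : ⁅u, ⁅d, u⁆⁆ ∈ ⁅B, B⁆ :=
  Subgroup.commutator_mem_commutator hu (cc_N_le_B hAB (cc_c_mem_N hu hd))

theorem cc_h_mem_C' (hc : ⁅⁅B, B⁆, A⁆ = ⊥) (hu : u ∈ B) {d : G} (hd : d ∈ A) :
    ⁅u, ⁅d, u⁆⁆ ∈ Subgroup.centralizer ((⁅B, B⁆ : Subgroup G) : Set G) := by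
  have h2 := cc_N_le_C' hc (cc_c_mem_N hu hd)
  exact Subgroup.mul_mem _ (cc_conj_mem_C' h2 hu) (Subgroup.inv_mem _ h2)

theorem cc_I1 (hAB : A ≤ Subgroup.normalizer (B : Set G)) (hc : ⁅⁅B, B⁆, A⁆ = ⊥) (hu : u ∈ B)
    {a a' : G} (ha : a ∈ A) (ha' : a' ∈ A) :
    ⁅u, ⁅a⁻¹ * a', u⁆⁆ = ⁅u, ⁅a', u⁆⁆ * ⁅⁅a, u⁆, ⁅a', u⁆⁆ * ⁅u, ⁅a, u⁆⁆⁻¹ := by
  have key : ⁅a * u * a⁻¹, a' * u * a'⁻¹⁆ = a * ⁅u, ⁅a⁻¹ * a', u⁆⁆ * a⁻¹ := by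
    simp only [commutatorElement_def]; group
  have key2 : ⁅a * u * a⁻¹, a' * u * a'⁻¹⁆ = (⁅a, u⁆ * ⁅u, ⁅a', u⁆⁆ * ⁅a, u⁆⁻¹) *
      ⁅⁅a, u⁆, ⁅a', u⁆⁆ * (⁅a', u⁆ * ⁅u, ⁅a, u⁆⁆⁻¹ * ⁅a', u⁆⁻¹) := by
    simp only [commutatorElement_def]; group
  have hd1 : ⁅u, ⁅a⁻¹ * a', u⁆⁆ ∈ ⁅B, B⁆ := cc_h_mem_B' hAB hu (A.mul_mem (A.inv_mem ha) ha')
  have hd2 : ⁅u, ⁅a', u⁆⁆ ∈ ⁅B, B⁆ := cc_h_mem_B' hAB hu ha'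
  have hd3 : ⁅u, ⁅a, u⁆⁆⁻¹ ∈ ⁅B, B⁆ := Subgroup.inv_mem _ (cc_h_mem_B' hAB hu ha)
  rw [cc_comm hd1 (cc_A_le hc ha)] at key
  rw [cc_comm hd2 (cc_N_le_C' hc (cc_c_mem_N hu ha)),
    cc_comm hd3 (cc_N_le_C' hc (cc_c_mem_N hu ha'))] at key2
  rw [← key, key2]

theorem cc_I3 (hAB : A ≤ Subgroup.normalizer (B : Set G)) (hc : ⁅⁅B, B⁆, A⁆ = ⊥) (hu : u ∈ B)
    {d d' : G} (hd : d ∈ A) (hd' : d' ∈ A) :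
    ⁅u, ⁅d * d', u⁆⁆ = ⁅u, ⁅d, ⁅d', u⁆⁆⁆ * ⁅u, ⁅d', u⁆⁆ * ⁅u, ⁅d, u⁆⁆ := by
  have key : ⁅u, ⁅d * d', u⁆⁆ = ⁅u, ⁅d, ⁅d', u⁆⁆⁆ *
      (⁅d, ⁅d', u⁆⁆ * ⁅u, ⁅d', u⁆⁆ * ⁅d, ⁅d', u⁆⁆⁻¹) *
      ((⁅d, ⁅d', u⁆⁆ * ⁅d', u⁆) * ⁅u, ⁅d, u⁆⁆ * (⁅d, ⁅d', u⁆⁆ * ⁅d', u⁆)⁻¹) := by
    simp only [commutatorElement_def]; group
  have hx := cc_dc_mem_C' hc hu hd hd'
  have hd2 : ⁅u, ⁅d', u⁆⁆ ∈ ⁅B, B⁆ := cc_h_mem_B' hAB hu hd'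
  have hd3 : ⁅u, ⁅d, u⁆⁆ ∈ ⁅B, B⁆ := cc_h_mem_B' hAB hu hd
  rw [cc_comm hd2 hx,
    cc_comm hd3 (Subgroup.mul_mem _ hx (cc_N_le_C' hc (cc_c_mem_N hu hd')))] at key
  exact key

theorem cc_T_symm (hAc : ∀ x ∈ A, ∀ y ∈ A, x * y = y * x)
    (hAB : A ≤ Subgroup.normalizer (B : Set G)) (hc : ⁅⁅B, B⁆, A⁆ = ⊥) (hu : u ∈ B)
    {d d' : G} (hd : d ∈ A) (hd' : d' ∈ A) :
    ⁅u, ⁅d, ⁅d', u⁆⁆⁆ = ⁅u, ⁅d', ⁅d, u⁆⁆⁆ := by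
  have h1 := cc_I3 hAB hc hu hd hd'
  have h2 := cc_I3 hAB hc hu hd' hd
  rw [hAc d hd d' hd'] at h1
  rw [h1] at h2
  have hcm : ⁅u, ⁅d, u⁆⁆ * ⁅u, ⁅d', u⁆⁆ = ⁅u, ⁅d', u⁆⁆ * ⁅u, ⁅d, u⁆⁆ :=
    Subgroup.mem_centralizer_iff.mp (cc_h_mem_C' hc hu hd') _ (cc_h_mem_B' hAB hu hd)
  have h3 : ⁅u, ⁅d, ⁅d', u⁆⁆⁆ * (⁅u, ⁅d', u⁆⁆ * ⁅u, ⁅d, u⁆⁆) =
      ⁅u, ⁅d', ⁅d, u⁆⁆⁆ * (⁅u, ⁅d', u⁆⁆ * ⁅u, ⁅d, u⁆⁆) := by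
    rw [← mul_assoc, h2, mul_assoc, hcm]
  exact mul_right_cancel h3

theorem cc_f_eq_T (hAB : A ≤ Subgroup.normalizer (B : Set G)) (hc : ⁅⁅B, B⁆, A⁆ = ⊥)
    (hu : u ∈ B) {a a' : G} (ha : a ∈ A) (ha' : a' ∈ A) :
    ⁅⁅a, u⁆, ⁅a', u⁆⁆ = ⁅u, ⁅a⁻¹, ⁅a', u⁆⁆⁆ := by
  have hI2 : ⁅u, ⁅a⁻¹, u⁆⁆ = ⁅u, ⁅a, u⁆⁆⁻¹ := by
    have h := cc_I1 hAB hc hu ha A.one_mem
    rw [mul_one, commutatorElement_one_left, commutatorElement_one_right,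
      commutatorElement_one_right, one_mul, one_mul] at h
    exact h
  have h1 := cc_I1 hAB hc hu ha ha'
  have h3 := cc_I3 hAB hc hu (A.inv_mem ha) ha'
  rw [hI2, h1] at h3
  have h4 := mul_right_cancel h3
  have hf : ⁅⁅a, u⁆, ⁅a', u⁆⁆ ∈ ⁅B, B⁆ :=
    Subgroup.commutator_mem_commutator (cc_N_le_B hAB (cc_c_mem_N hu ha))
      (cc_N_le_B hAB (cc_c_mem_N hu ha'))
  have hcm : ⁅⁅a, u⁆, ⁅a', u⁆⁆ * ⁅u, ⁅a', u⁆⁆ = ⁅u, ⁅a', u⁆⁆ * ⁅⁅a, u⁆, ⁅a', u⁆⁆ :=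
    Subgroup.mem_centralizer_iff.mp (cc_h_mem_C' hc hu ha') _ hf
  rw [← hcm] at h4
  exact mul_right_cancel h4

theorem cc_w_mem_N (hAB : A ≤ Subgroup.normalizer (B : Set G)) (hu : u ∈ B) {a a' : G}
    (ha : a ∈ A) (ha' : a' ∈ A) : ⁅⁅a, u⁆, a'⁆ ∈ ⁅B, A⁆ := by
  have e : ⁅⁅a, u⁆, a'⁆ = ⁅a, u⁆ * ⁅a' * u * a'⁻¹, a' * a * a'⁻¹⁆ := by
    simp only [commutatorElement_def]; group
  rw [e]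
  have h1 : a' * u * a'⁻¹ ∈ B := (Subgroup.mem_normalizer_iff.mp (hAB ha') u).mp hu
  have h2 : a' * a * a'⁻¹ ∈ A := A.mul_mem (A.mul_mem ha' ha) (A.inv_mem ha')
  exact Subgroup.mul_mem _ (cc_c_mem_N hu ha) (Subgroup.commutator_mem_commutator h1 h2)

theorem cc_L6 (hAc : ∀ x ∈ A, ∀ y ∈ A, x * y = y * x)
    (hAB : A ≤ Subgroup.normalizer (B : Set G)) (hc : ⁅⁅B, B⁆, A⁆ = ⊥) (hu : u ∈ B)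
    (hq : ∀ a ∈ A, ∀ a' ∈ A, ∀ a'' ∈ A, ⁅⁅a, u⁆, a'⁆ * a'' = a'' * ⁅⁅a, u⁆, a'⁆)
    {a a' : G} (ha : a ∈ A) (ha' : a' ∈ A) :
    ⁅u, ⁅a', ⁅a⁻¹, u⁆⁆⁆ = ⁅u, ⁅a'⁻¹, ⁅a, u⁆⁆⁆ := by
  have hZ := cc_part1 hAB hc
  have hk : ⁅⁅a, u⁆⁻¹, ⁅⁅a, u⁆, a'⁆⁆ ∈ ⁅⁅B, A⁆, ⁅B, A⁆⁆ :=
    Subgroup.commutator_mem_commutator (Subgroup.inv_mem _ (cc_c_mem_N hu ha))
      (cc_w_mem_N hAB hu ha ha')
  have hkB' : ⁅⁅a, u⁆⁻¹, ⁅⁅a, u⁆, a'⁆⁆ ∈ ⁅B, B⁆ :=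
    Subgroup.commutator_mono (cc_N_le_B hAB) (cc_N_le_B hAB) hk
  have hkZ := (hZ hk).2
  have e1 : ⁅a', ⁅a⁻¹, u⁆⁆ = a⁻¹ * (⁅⁅a, u⁆⁻¹, ⁅⁅a, u⁆, a * a' * a⁻¹⁆⁆ *
      ⁅⁅a, u⁆, a * a' * a⁻¹⁆) * a⁻¹⁻¹ := by
    simp only [commutatorElement_def]; group
  have e3 : a * a' * a⁻¹ = a' := by rw [hAc a ha a' ha', mul_inv_cancel_right]
  have e2 : ⁅a'⁻¹, ⁅a, u⁆⁆ = a'⁻¹ * ⁅⁅a, u⁆, a'⁆ * a'⁻¹⁻¹ := by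
    simp only [commutatorElement_def]; group
  have e4 : a'⁻¹ * ⁅⁅a, u⁆, a'⁆ * a'⁻¹⁻¹ = ⁅⁅a, u⁆, a'⁆ := by
    rw [← hq a ha a' ha' a'⁻¹ (A.inv_mem ha'), mul_inv_cancel_right]
  have e5 : a⁻¹ * (⁅⁅a, u⁆⁻¹, ⁅⁅a, u⁆, a'⁆⁆ * ⁅⁅a, u⁆, a'⁆) * a⁻¹⁻¹ =
      ⁅⁅a, u⁆⁻¹, ⁅⁅a, u⁆, a'⁆⁆ * ⁅⁅a, u⁆, a'⁆ := by
    have h1 : a⁻¹ * ⁅⁅a, u⁆⁻¹, ⁅⁅a, u⁆, a'⁆⁆ * a⁻¹⁻¹ = ⁅⁅a, u⁆⁻¹, ⁅⁅a, u⁆, a'⁆⁆ :=
      cc_comm hkB' (cc_A_le hc (A.inv_mem ha))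
    have h2 : a⁻¹ * ⁅⁅a, u⁆, a'⁆ * a⁻¹⁻¹ = ⁅⁅a, u⁆, a'⁆ := by
      rw [← hq a ha a' ha' a⁻¹ (A.inv_mem ha), mul_inv_cancel_right]
    calc a⁻¹ * (⁅⁅a, u⁆⁻¹, ⁅⁅a, u⁆, a'⁆⁆ * ⁅⁅a, u⁆, a'⁆) * a⁻¹⁻¹
        = (a⁻¹ * ⁅⁅a, u⁆⁻¹, ⁅⁅a, u⁆, a'⁆⁆ * a⁻¹⁻¹) * (a⁻¹ * ⁅⁅a, u⁆, a'⁆ * a⁻¹⁻¹) := by group
      _ = ⁅⁅a, u⁆⁻¹, ⁅⁅a, u⁆, a'⁆⁆ * ⁅⁅a, u⁆, a'⁆ := by rw [h1, h2]
  rw [e1, e3, e5, e2, e4]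
  have e6 : ⁅u, ⁅⁅a, u⁆⁻¹, ⁅⁅a, u⁆, a'⁆⁆ * ⁅⁅a, u⁆, a'⁆⁆ =
      ⁅u, ⁅⁅a, u⁆⁻¹, ⁅⁅a, u⁆, a'⁆⁆⁆ * (⁅⁅a, u⁆⁻¹, ⁅⁅a, u⁆, a'⁆⁆ * ⁅u, ⁅⁅a, u⁆, a'⁆⁆ *
        ⁅⁅a, u⁆⁻¹, ⁅⁅a, u⁆, a'⁆⁆⁻¹) := by
    simp only [commutatorElement_def]; group
  have h7 : ⁅u, ⁅⁅a, u⁆⁻¹, ⁅⁅a, u⁆, a'⁆⁆⁆ = 1 := by
    rw [commutatorElement_eq_one_iff_mul_comm]
    exact (Subgroup.mem_centralizer_iff.mp hkZ u hu)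
  have h8 : ⁅u, ⁅⁅a, u⁆, a'⁆⁆ ∈ B :=
    cc_B'_le_B (Subgroup.commutator_mem_commutator hu (cc_N_le_B hAB (cc_w_mem_N hAB hu ha ha')))
  have h9 : ⁅⁅a, u⁆⁻¹, ⁅⁅a, u⁆, a'⁆⁆ * ⁅u, ⁅⁅a, u⁆, a'⁆⁆ * ⁅⁅a, u⁆⁻¹, ⁅⁅a, u⁆, a'⁆⁆⁻¹ =
      ⁅u, ⁅⁅a, u⁆, a'⁆⁆ := by
    rw [← Subgroup.mem_centralizer_iff.mp hkZ _ h8, mul_inv_cancel_right]
  rw [e6, h7, h9, one_mul]

theorem cc_f_sq (hAc : ∀ x ∈ A, ∀ y ∈ A, x * y = y * x)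
    (hAB : A ≤ Subgroup.normalizer (B : Set G)) (hc : ⁅⁅B, B⁆, A⁆ = ⊥) (hu : u ∈ B)
    (hq : ∀ a ∈ A, ∀ a' ∈ A, ∀ a'' ∈ A, ⁅⁅a, u⁆, a'⁆ * a'' = a'' * ⁅⁅a, u⁆, a'⁆)
    {a a' : G} (ha : a ∈ A) (ha' : a' ∈ A) :
    ⁅⁅a, u⁆, ⁅a', u⁆⁆ * ⁅⁅a, u⁆, ⁅a', u⁆⁆ = 1 := by
  have h1 := cc_f_eq_T hAB hc hu ha ha'
  have h2 := cc_T_symm hAc hAB hc hu (A.inv_mem ha) ha'
  have h3 := cc_L6 hAc hAB hc hu hq ha ha'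
  have h4 := cc_f_eq_T hAB hc hu ha' ha
  have h5 : ⁅⁅a, u⁆, ⁅a', u⁆⁆ = ⁅⁅a', u⁆, ⁅a, u⁆⁆ := by rw [h1, h2, h3, h4]
  have h6 : ⁅⁅a', u⁆, ⁅a, u⁆⁆ = ⁅⁅a, u⁆, ⁅a', u⁆⁆⁻¹ := (commutatorElement_inv _ _).symm
  rw [h6] at h5
  calc ⁅⁅a, u⁆, ⁅a', u⁆⁆ * ⁅⁅a, u⁆, ⁅a', u⁆⁆ = ⁅⁅a, u⁆, ⁅a', u⁆⁆ * ⁅⁅a, u⁆, ⁅a', u⁆⁆⁻¹ := by
        rw [← h5]
    _ = 1 := mul_inv_cancel _

/-- second part of the statement -/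
theorem cc_part2 (hAc : ∀ x ∈ A, ∀ y ∈ A, x * y = y * x)
    (hAB : A ≤ Subgroup.normalizer (B : Set G)) (hc : ⁅⁅B, B⁆, A⁆ = ⊥) (hu : u ∈ B)
    (hq : ⁅⁅Subgroup.closure {g : G | ∃ a ∈ A, g = ⁅u, a⁆}, A⁆, A⁆ = ⊥) :
    ∀ w ∈ ⁅Subgroup.closure {g : G | ∃ a ∈ A, g = ⁅u, a⁆},
      Subgroup.closure {g : G | ∃ a ∈ A, g = ⁅u, a⁆}⁆, w ^ 2 = 1 := by
  have hZ := cc_part1 hAB hc
  have hNB := cc_N_le_B hAB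
  have hq' : ∀ a ∈ A, ∀ a' ∈ A, ∀ a'' ∈ A, ⁅⁅a, u⁆, a'⁆ * a'' = a'' * ⁅⁅a, u⁆, a'⁆ := by
    intro a ha a' ha' a'' ha''
    have h1 : ⁅a, u⁆ ∈ Subgroup.closure {g : G | ∃ a ∈ A, g = ⁅u, a⁆} := by
      rw [← commutatorElement_inv]
      exact Subgroup.inv_mem _ (Subgroup.subset_closure ⟨a, ha, rfl⟩)
    have h2 := Subgroup.commutator_eq_bot_iff_le_centralizer.mp hq
      (Subgroup.commutator_mem_commutator h1 ha')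
    exact (Subgroup.mem_centralizer_iff.mp h2 a'' ha'').symm
  apply class2_commutator_sq (N := ⁅B, A⁆)
  · exact (hZ.trans inf_le_right).trans (Subgroup.centralizer_le hNB)
  · rintro _ ⟨a, ha, rfl⟩
    exact Subgroup.commutator_mem_commutator hu ha
  · rintro _ ⟨a, ha, rfl⟩ _ ⟨a', ha', rfl⟩
    have hf := cc_f_sq hAc hAB hc hu hq' ha ha'
    have hfZ : ⁅⁅a, u⁆, ⁅a', u⁆⁆ ∈ Subgroup.centralizer (B : Set G) :=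
      (hZ (Subgroup.commutator_mem_commutator (cc_c_mem_N hu ha) (cc_c_mem_N hu ha'))).2
    have e : ⁅⁅u, a⁆, ⁅u, a'⁆⁆ = (⁅a', u⁆ * ⁅a, u⁆)⁻¹ * ⁅⁅a, u⁆, ⁅a', u⁆⁆ * (⁅a', u⁆ * ⁅a, u⁆)⁻¹⁻¹ := by
      simp only [commutatorElement_def]; group
    have hyx : (⁅a', u⁆ * ⁅a, u⁆)⁻¹ ∈ B :=
      B.inv_mem (B.mul_mem (hNB (cc_c_mem_N hu ha')) (hNB (cc_c_mem_N hu ha)))
    have e2 : (⁅a', u⁆ * ⁅a, u⁆)⁻¹ * ⁅⁅a, u⁆, ⁅a', u⁆⁆ * (⁅a', u⁆ * ⁅a, u⁆)⁻¹⁻¹ =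
        ⁅⁅a, u⁆, ⁅a', u⁆⁆ := by
      rw [Subgroup.mem_centralizer_iff.mp hfZ _ hyx, mul_inv_cancel_right]
    rw [e, e2]
    exact hf

end CC

end Cfsg.Agent.Lib.Helper3
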