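import Mathlib
import Cfsg.Agent.Lib.Helper9.Zipper

set_option autoImplicit false

namespace Cfsg.Agent.Lib.Helper3

open Subgroup

universe u

theorem card_ne_one_le {G : Type u} [Group G] [Finite G] (A : Subgroup G) :
    Nat.card {a : G // a ∈ A ∧ a ≠ 1} + 1 ≤ Nat.card A := by
  rw [← Finite.card_option]
  let f : Option {a : G // a ∈ A ∧ a ≠ 1} → A := fun o =>
    match o with
    | none => 1
    | some a => ⟨a.1, a.2.1⟩
  apply Nat.card_le_card_of_injective f
  intro o1 o2 h12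
  match o1, o2, h12 with
  | none, none, _ => rfl
  | none, some a, h => exact absurd (congrArg Subtype.val h).symm a.2.2
  | some a, none, h => exact absurd (congrArg Subtype.val h) a.2.2
  | some a, some b, h =>
    have h1 : (a : G) = (b : G) := congrArg (fun z : A => (z : G)) h
    exact congrArg some (Subtype.ext h1)

/-- If every element of a finite group is conjugate into `A` or into `B`, then one of `A`, `B`
is self-normalizing. -/
theorem cover_two {G : Type u} [Group G] [Finite G] (A B : Subgroup G)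
    (hcov : ∀ x : G, (∃ g : G, g⁻¹ * x * g ∈ A) ∨ (∃ g : G, g⁻¹ * x * g ∈ B)) :
    normalizer (A : Set G) = A ∨ normalizer (B : Set G) = B := by
  by_contra hcon
  push Not at hcon
  obtain ⟨hA, hB⟩ := hcon
  have hAlt : A < normalizer (A : Set G) := lt_of_le_of_ne le_normalizer (Ne.symm hA)
  have hBlt : B < normalizer (B : Set G) := lt_of_le_of_ne le_normalizer (Ne.symm hB)
  obtain ⟨NA, hNA⟩ : ∃ NA : Subgroup G, NA = normalizer (A : Set G) := ⟨_, rfl⟩
  obtain ⟨NB, hNB⟩ : ∃ NB : Subgroup G, NB = normalizer (B : Set G) := ⟨_, rfl⟩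
  rw [← hNA] at hAlt
  rw [← hNB] at hBlt
  let F : Option (((G ⧸ NA) × {a : G // a ∈ A ∧ a ≠ 1}) ⊕
      ((G ⧸ NB) × {b : G // b ∈ B ∧ b ≠ 1})) → G :=
    fun o => match o with
      | none => 1
      | some (Sum.inl t) => t.1.out * t.2.1 * t.1.out⁻¹
      | some (Sum.inr t) => t.1.out * t.2.1 * t.1.out⁻¹
  have key : ∀ (D ND : Subgroup G), ND = normalizer (D : Set G) → ∀ x g : G, x ≠ 1 →
      g⁻¹ * x * g ∈ D →
      ∃ t : (G ⧸ ND) × {a : G // a ∈ D ∧ a ≠ 1}, t.1.out * t.2.1 * t.1.out⁻¹ = x := by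
    intro D ND hND x g hx hg
    obtain ⟨h, hh⟩ := QuotientGroup.mk_out_eq_mul ND g
    have hhN : (h : G)⁻¹ ∈ normalizer (D : Set G) := by rw [← hND]; exact inv_mem h.2
    have h1 : (h : G)⁻¹ * (g⁻¹ * x * g) * (h : G)⁻¹⁻¹ ∈ D := (mem_normalizer_iff.mp hhN _).mp hg
    rw [inv_inv] at h1
    refine ⟨((g : G ⧸ ND), ⟨(h : G)⁻¹ * (g⁻¹ * x * g) * (h : G), h1, ?_⟩), ?_⟩
    · intro h2
      apply hx
      have h3 : x = g * (h : G) * ((h : G)⁻¹ * (g⁻¹ * x * g) * (h : G)) * (h : G)⁻¹ * g⁻¹ := by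
        group
      rw [h3, h2]; group
    · show (QuotientGroup.mk g : G ⧸ ND).out * ((h : G)⁻¹ * (g⁻¹ * x * g) * (h : G))
        * (QuotientGroup.mk g : G ⧸ ND).out⁻¹ = x
      rw [hh]; group
  have hsurj : Function.Surjective F := by
    intro x
    by_cases hx : x = 1
    · exact ⟨none, hx.symm⟩
    · rcases hcov x with ⟨g, hg⟩ | ⟨g, hg⟩
      · obtain ⟨t, ht⟩ := key A NA hNA x g hx hg
        exact ⟨some (Sum.inl t), ht⟩
      · obtain ⟨t, ht⟩ := key B NB hNB x g hx hg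
        exact ⟨some (Sum.inr t), ht⟩
  have hcard := Nat.card_le_card_of_surjective F hsurj
  rw [Finite.card_option, Nat.card_sum, Nat.card_prod, Nat.card_prod] at hcard
  have hcA := card_ne_one_le A
  have hcB := card_ne_one_le B
  have hiA : Nat.card NA * Nat.card (G ⧸ NA) = Nat.card G := NA.card_mul_index
  have hiB : Nat.card NB * Nat.card (G ⧸ NB) = Nat.card G := NB.card_mul_index
  have hi : 1 ≤ Nat.card (G ⧸ NA) := Nat.card_pos
  have hj : 1 ≤ Nat.card (G ⧸ NB) := Nat.card_pos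
  have two : ∀ (D ND : Subgroup G), D < ND → 2 * Nat.card D ≤ Nat.card ND := by
    intro D ND hlt
    obtain ⟨t, ht⟩ := Subgroup.card_dvd_of_le hlt.le
    have hlt' := Cfsg.Agent.Lib.Helper9.card_lt_card_of_lt_sub hlt
    rw [ht] at hlt' ⊢
    have h2 : 2 ≤ t := by
      by_contra h2
      push Not at h2
      have h3 : Nat.card D * t ≤ Nat.card D * 1 := Nat.mul_le_mul_left _ (by omega)
      omega
    nlinarith
  have h2A := two A NA hAlt
  have h2B := two B NB hBlt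
  have h1 : 2 * ((Nat.card {a : G // a ∈ A ∧ a ≠ 1} + 1) * Nat.card (G ⧸ NA)) ≤ Nat.card G := by
    calc 2 * ((Nat.card {a : G // a ∈ A ∧ a ≠ 1} + 1) * Nat.card (G ⧸ NA))
        ≤ 2 * (Nat.card A * Nat.card (G ⧸ NA)) :=
          Nat.mul_le_mul_left _ (Nat.mul_le_mul_right _ hcA)
      _ = (2 * Nat.card A) * Nat.card (G ⧸ NA) := by ring
      _ ≤ Nat.card NA * Nat.card (G ⧸ NA) := Nat.mul_le_mul_right _ h2A
      _ = Nat.card G := hiA
  have h2 : 2 * ((Nat.card {b : G // b ∈ B ∧ b ≠ 1} + 1) * Nat.card (G ⧸ NB)) ≤ Nat.card G := by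
    calc 2 * ((Nat.card {b : G // b ∈ B ∧ b ≠ 1} + 1) * Nat.card (G ⧸ NB))
        ≤ 2 * (Nat.card B * Nat.card (G ⧸ NB)) :=
          Nat.mul_le_mul_left _ (Nat.mul_le_mul_right _ hcB)
      _ = (2 * Nat.card B) * Nat.card (G ⧸ NB) := by ring
      _ ≤ Nat.card NB * Nat.card (G ⧸ NB) := Nat.mul_le_mul_right _ h2B
      _ = Nat.card G := hiB
  nlinarith

end Cfsg.Agent.Lib.Helper3
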