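import Mathlib
import Cfsg.Agent.S0090
import Cfsg.Agent.Lib.Helper3.ZJ
import Cfsg.Agent.Lib.Helper2.Focal

set_option autoImplicit false

namespace Cfsg.Agent.Lib.Helper3

open scoped Pointwise commutatorElement

universe u

/-- In a finite cyclic group, an element killed by `p` lies in the subgroup generated by any
element of order `p`. -/
theorem cyc_mem_zpowers {C : Type u} [Group C] [Finite C] [IsCyclic C] {p : ℕ} (hp : 0 < p)
    {y f : C} (hy : orderOf y = p) (hf : f ^ p = 1) : f ∈ Subgroup.zpowers y := by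
  classical
  have := Fintype.ofFinite C
  have h1 : (Finset.univ.filter (fun a : C => a ^ p = 1)).card ≤ p := by
    convert IsCyclic.card_pow_eq_one_le (α := C) hp
  have hsub : (Finset.univ.filter (fun a : C => a ∈ Subgroup.zpowers y)) ⊆
      (Finset.univ.filter (fun a : C => a ^ p = 1)) := by
    intro a ha
    rw [Finset.mem_filter] at ha ⊢
    refine ⟨Finset.mem_univ _, ?_⟩
    obtain ⟨k, rfl⟩ := Subgroup.mem_zpowers_iff.mp ha.2
    rw [← zpow_natCast, ← zpow_mul, mul_comm, zpow_mul, zpow_natCast, ← hy, pow_orderOf_eq_one,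
      one_zpow]
  have hcard : (Finset.univ.filter (fun a : C => a ∈ Subgroup.zpowers y)).card = p := by
    rw [← Fintype.card_subtype, ← Nat.card_eq_fintype_card, ← hy]
    exact Nat.card_zpowers y
  have heq := Finset.eq_of_subset_of_card_le hsub (by rw [hcard]; exact h1)
  have hmem : f ∈ Finset.univ.filter (fun a : C => a ^ p = 1) := by
    rw [Finset.mem_filter]; exact ⟨Finset.mem_univ _, hf⟩
  rw [← heq] at hmem
  exact (Finset.mem_filter.mp hmem).2

/-- The same inside a finite cyclic subgroup. -/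
theorem cyc_sub_mem_zpowers {G : Type u} [Group G] (Pc : Subgroup G) [Finite Pc]
    (hc : IsCyclic ↥Pc) {p : ℕ} (hp : 0 < p) {y f : G} (hyP : y ∈ Pc) (hfP : f ∈ Pc)
    (hy : orderOf y = p) (hf : f ^ p = 1) : f ∈ Subgroup.zpowers y := by
  have h := cyc_mem_zpowers (C := ↥Pc) hp (y := ⟨y, hyP⟩) (f := ⟨f, hfP⟩)
    (by rw [Subgroup.orderOf_mk]; exact hy) (Subtype.ext (by simpa using hf))
  obtain ⟨k, hk⟩ := Subgroup.mem_zpowers_iff.mp h
  exact Subgroup.mem_zpowers_iff.mpr ⟨k, by simpa using congrArg Subtype.val hk⟩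

/-- Every `p`-subgroup is conjugate into a given Sylow `p`-subgroup. -/
theorem sylow_conj_mem {G : Type u} [Group G] [Finite G] {p : ℕ} [Fact p.Prime] (P : Sylow p G)
    (D : Subgroup G) (hD : IsPGroup p D) : ∃ g : G, ∀ d ∈ D, g⁻¹ * d * g ∈ (P : Subgroup G) := by
  obtain ⟨Q, hQ⟩ := hD.exists_le_sylow
  obtain ⟨g, hg⟩ := MulAction.exists_smul_eq G P Q
  refine ⟨g, fun d hd => ?_⟩
  have hmem : d ∈ ((g • P : Sylow p G) : Subgroup G) := by rw [hg]; exact hQ hd
  exact mem_sylow_smul_iff.mp hmem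

theorem exists_order_p_of_ne_bot {G : Type u} [Group G] [Finite G] {p : ℕ} [Fact p.Prime]
    (B : Subgroup G) (hB : IsPGroup p B) (hne : B ≠ ⊥) : ∃ b ∈ B, orderOf b = p := by
  obtain ⟨k, hk⟩ := IsPGroup.iff_card.mp hB
  have hk0 : k ≠ 0 := by
    rintro rfl
    rw [pow_zero] at hk
    exact hne (Subgroup.eq_bot_of_card_eq B hk)
  have hdvd : p ∣ Nat.card B := by rw [hk]; exact dvd_pow_self p hk0
  obtain ⟨x, hx⟩ := exists_prime_orderOf_dvd_card' p hdvd
  exact ⟨x.1, x.2, by rw [← hx, Subgroup.orderOf_coe]⟩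

/-- A cyclic Sylow `p`-subgroup either lies in the commutator subgroup, or the group has a
normal `p`-complement (given here as a `p'`-subgroup containing the commutator subgroup). -/
theorem cyc_sylow_dichotomy {X : Type u} [Group X] [Finite X] {p : ℕ} [hp : Fact p.Prime]
    (P : Sylow p X) (hc : IsCyclic ↥(P : Subgroup X)) :
    (∃ M : Subgroup X, commutator X ≤ M ∧ ¬ p ∣ Nat.card M) ∨
      (P : Subgroup X) ≤ commutator X := by
  classical
  have hPN : (P : Subgroup X) ≤ Subgroup.normalizer ((P : Subgroup X) : Set X) :=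
    Subgroup.le_normalizer
  have hAn : ((P : Subgroup X).subgroupOf
      (Subgroup.normalizer ((P : Subgroup X) : Set X))).Normal := Subgroup.normal_in_normalizer
  have hAc : IsCyclic ↥((P : Subgroup X).subgroupOf
      (Subgroup.normalizer ((P : Subgroup X) : Set X))) :=
    isCyclic_of_surjective (Subgroup.subgroupOfEquivOfLe hPN).symm
      (MulEquiv.surjective _)
  have hAcomm : IsMulCommutative ↥((P : Subgroup X).subgroupOf
      (Subgroup.normalizer ((P : Subgroup X) : Set X))) := inferInstance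
  have hAp : IsPGroup p ↥((P : Subgroup X).subgroupOf
      (Subgroup.normalizer ((P : Subgroup X) : Set X))) := P.2.comap_subtype
  have hHall : Nat.Coprime (Nat.card ((P : Subgroup X).subgroupOf
      (Subgroup.normalizer ((P : Subgroup X) : Set X))))
      ((P : Subgroup X).subgroupOf (Subgroup.normalizer ((P : Subgroup X) : Set X))).index := by
    obtain ⟨k, hk⟩ := IsPGroup.iff_card.mp hAp
    rw [hk]
    apply Nat.Coprime.pow_left
    rw [Nat.Prime.coprime_iff_not_dvd hp.out]
    intro hdvd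
    exact P.not_dvd_index (hdvd.trans (Subgroup.relIndex_dvd_index_of_le hPN))
  obtain ⟨-, h2, h3⟩ := Cfsg.Agent.S0090.result ((P : Subgroup X).subgroupOf
      (Subgroup.normalizer ((P : Subgroup X) : Set X))) hAcomm hHall
  have hdich : commutator ↥(Subgroup.normalizer ((P : Subgroup X) : Set X)) ⊓
      (P : Subgroup X).subgroupOf (Subgroup.normalizer ((P : Subgroup X) : Set X)) = ⊥ ∨
      Subgroup.center ↥(Subgroup.normalizer ((P : Subgroup X) : Set X)) ⊓
      (P : Subgroup X).subgroupOf (Subgroup.normalizer ((P : Subgroup X) : Set X)) = ⊥ := by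
    by_contra hcon
    push Not at hcon
    obtain ⟨y1, hy1, hy1o⟩ := exists_order_p_of_ne_bot _ (hAp.to_le inf_le_right) hcon.1
    obtain ⟨y2, hy2, hy2o⟩ := exists_order_p_of_ne_bot _ (hAp.to_le inf_le_right) hcon.2
    have hy2p : y2 ^ p = 1 := by
      have h0 := pow_orderOf_eq_one y2
      rwa [hy2o] at h0
    have hmem := cyc_sub_mem_zpowers _ hAc hp.out.pos hy1.2 hy2.2 hy1o hy2p
    have hy2' : y2 ∈ commutator ↥(Subgroup.normalizer ((P : Subgroup X) : Set X)) ⊓
        (P : Subgroup X).subgroupOf (Subgroup.normalizer ((P : Subgroup X) : Set X)) :=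
      (Subgroup.zpowers_le.mpr hy1) hmem
    have hbot : y2 ∈ (⊥ : Subgroup ↥(Subgroup.normalizer ((P : Subgroup X) : Set X))) := by
      rw [← h2]; exact ⟨hy2', hy2⟩
    rw [Subgroup.mem_bot] at hbot
    rw [hbot, orderOf_one] at hy2o
    exact hp.out.one_lt.ne hy2o
  rcases hdich with hB1 | hB2
  · -- P is central in its normalizer: Burnside
    left
    rw [hB1, bot_sup_eq] at h3
    have hcent : Subgroup.normalizer ((P : Subgroup X) : Set X) ≤
        Subgroup.centralizer ((P : Subgroup X) : Set X) := by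
      intro n hn
      rw [Subgroup.mem_centralizer_iff]
      intro x hx
      have hxA : (⟨x, hPN hx⟩ : ↥(Subgroup.normalizer ((P : Subgroup X) : Set X))) ∈
          (P : Subgroup X).subgroupOf (Subgroup.normalizer ((P : Subgroup X) : Set X)) :=
        Subgroup.mem_subgroupOf.mpr hx
      rw [← h3] at hxA
      have hcen := Subgroup.mem_center_iff.mp hxA.1 ⟨n, hn⟩
      have := congrArg Subtype.val hcen
      simpa using this.symm
    refine ⟨(MonoidHom.transferSylow P hcent).ker, ?_,
      MonoidHom.not_dvd_card_ker_transferSylow P hcent⟩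
    rw [commutator_def, Subgroup.commutator_le]
    intro a _ b _
    rw [MonoidHom.mem_ker, map_commutatorElement, commutatorElement_eq_one_iff_commute]
    exact (inferInstance : IsMulCommutative ↥(P : Subgroup X)).is_comm.comm _ _
  · right
    rw [hB2, sup_bot_eq] at h3
    intro x hx
    have hxA : (⟨x, hPN hx⟩ : ↥(Subgroup.normalizer ((P : Subgroup X) : Set X))) ∈
        (P : Subgroup X).subgroupOf (Subgroup.normalizer ((P : Subgroup X) : Set X)) :=
      Subgroup.mem_subgroupOf.mpr hx
    rw [← h3] at hxA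
    have hmap : (commutator ↥(Subgroup.normalizer ((P : Subgroup X) : Set X))).map
        (Subgroup.normalizer ((P : Subgroup X) : Set X)).subtype ≤ commutator X := by
      rw [commutator_def, Subgroup.map_commutator, commutator_def]
      exact Subgroup.commutator_mono le_top le_top
    exact hmap ⟨_, hxA.1, rfl⟩

/-- A cyclic Sylow `p`-subgroup lies in every perfect normal subgroup of order divisible by
`p`. -/
theorem cyc_sylow_le_of_perfect_normal {K : Type u} [Group K] [Finite K] {p : ℕ}
    [hp : Fact p.Prime] (P : Sylow p K) (hc : IsCyclic ↥(P : Subgroup K)) (L : Subgroup K)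
    (hLn : L.Normal) (hLperf : ⁅L, L⁆ = L) (hLp : p ∣ Nat.card L) : (P : Subgroup K) ≤ L := by
  classical
  obtain ⟨K₁, hK₁⟩ : ∃ K₁ : Subgroup K, K₁ = L ⊔ (P : Subgroup K) := ⟨_, rfl⟩
  have hLK : L ≤ K₁ := hK₁ ▸ le_sup_left
  have hPK : (P : Subgroup K) ≤ K₁ := hK₁ ▸ le_sup_right
  have hc₁ : IsCyclic ↥((P.subtype hPK : Sylow p ↥K₁) : Subgroup ↥K₁) :=
    isCyclic_of_surjective (Subgroup.subgroupOfEquivOfLe hPK).symm (MulEquiv.surjective _)
  have hcommK : ∀ M : Subgroup ↥K₁, commutator ↥K₁ ≤ M → L ≤ M.map K₁.subtype := by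
    intro M hM
    have h1 : (commutator ↥K₁).map K₁.subtype = ⁅K₁, K₁⁆ := by
      rw [commutator_def, Subgroup.map_commutator, ← MonoidHom.range_eq_map,
        Subgroup.range_subtype]
    calc L = ⁅L, L⁆ := hLperf.symm
      _ ≤ ⁅K₁, K₁⁆ := Subgroup.commutator_mono hLK hLK
      _ = (commutator ↥K₁).map K₁.subtype := h1.symm
      _ ≤ M.map K₁.subtype := Subgroup.map_mono hM
  rcases cyc_sylow_dichotomy (P.subtype hPK) hc₁ with ⟨M, hM1, hM2⟩ | hle
  · exfalso
    apply hM2
    have h2 := Subgroup.card_dvd_of_le (hcommK M hM1)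
    rw [Subgroup.card_map_of_injective K₁.subtype_injective] at h2
    exact hLp.trans h2
  · have hnorm : (L.subgroupOf K₁).Normal := inferInstance
    have hsup : L.subgroupOf K₁ ⊔ (P : Subgroup K).subgroupOf K₁ = ⊤ := by
      rw [← Subgroup.subgroupOf_sup hLK hPK, ← hK₁, Subgroup.subgroupOf_self]
    have hPP : ⁅(P : Subgroup K).subgroupOf K₁, (P : Subgroup K).subgroupOf K₁⁆ ≤
        L.subgroupOf K₁ := by
      rw [Subgroup.commutator_le]
      intro a ha b hb
      have hab : ⁅a, b⁆ = 1 := by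
        rw [commutatorElement_eq_one_iff_commute]
        apply Subtype.ext
        exact setLike_mul_comm (Subgroup.mem_subgroupOf.mp ha) (Subgroup.mem_subgroupOf.mp hb)
      rw [hab]; exact Subgroup.one_mem _
    have hcomm := Cfsg.Agent.Lib.Helper2.commutator_le_of_sup_eq_top (L.subgroupOf K₁)
      ((P : Subgroup K).subgroupOf K₁) hsup hPP
    intro x hx
    have hx1 : (⟨x, hPK hx⟩ : ↥K₁) ∈ ((P.subtype hPK : Sylow p ↥K₁) : Subgroup ↥K₁) :=
      Subgroup.mem_subgroupOf.mpr hx
    exact Subgroup.mem_subgroupOf.mp (hcomm (hle hx1))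

/-- A normal, cyclic, self-centralizing Sylow `p`-subgroup has cyclic quotient of order
dividing `p - 1`. -/
theorem cyc_normal_self_centralizing {K : Type u} [Group K] [Finite K] {p : ℕ}
    [hp : Fact p.Prime] (P : Sylow p K) (hc : IsCyclic ↥(P : Subgroup K))
    (hn : (P : Subgroup K).Normal)
    (hcent : Subgroup.centralizer ((P : Subgroup K) : Set K) = (P : Subgroup K)) :
    IsCyclic (K ⧸ (P : Subgroup K)) ∧ (P : Subgroup K).index ∣ p - 1 := by
  classical
  obtain ⟨φ, hφdef⟩ : ∃ φ : K →* MulAut ↥(P : Subgroup K),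
      ∀ (g : K) (h : ↥(P : Subgroup K)), ((φ g h : ↥(P : Subgroup K)) : K) = g * h * g⁻¹ :=
    ⟨MulAut.conjNormal, MulAut.conjNormal_apply⟩
  have hφ : ∀ x ∈ (P : Subgroup K), φ x = 1 := by
    intro x hx
    apply MulEquiv.ext
    intro h
    apply Subtype.ext
    rw [hφdef, MulAut.one_apply, setLike_mul_comm hx h.2, mul_inv_cancel_right]
  have hφ' : (P : Subgroup K) ≤ φ.ker := fun x hx => MonoidHom.mem_ker.mpr (hφ x hx)
  have hψ : Function.Injective (QuotientGroup.lift (P : Subgroup K) φ hφ') := by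
    rw [injective_iff_map_eq_one]
    intro q hq
    obtain ⟨k, rfl⟩ := QuotientGroup.mk_surjective q
    rw [QuotientGroup.lift_mk] at hq
    have hk : k ∈ Subgroup.centralizer ((P : Subgroup K) : Set K) := by
      rw [Subgroup.mem_centralizer_iff]
      intro h hh
      have h1 : h = k * h * k⁻¹ := by
        have h0 := hφdef k ⟨h, hh⟩
        rw [hq, MulAut.one_apply] at h0
        exact h0
      have h2 : h * k = k * h * k⁻¹ * k := congrArg (· * k) h1
      rw [inv_mul_cancel_right] at h2
      exact h2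
    rw [hcent] at hk
    exact (QuotientGroup.eq_one_iff k).mpr hk
  obtain ⟨n, hn'⟩ := IsPGroup.iff_card.mp P.2
  have hdvd : (P : Subgroup K).index ∣ Nat.card (MulAut ↥(P : Subgroup K)) :=
    Subgroup.card_dvd_of_injective _ hψ
  rw [IsCyclic.card_mulAut, hn'] at hdvd
  have hidx : (P : Subgroup K).index ∣ p - 1 := by
    rcases Nat.eq_zero_or_pos n with h0 | h0
    · rw [h0, pow_zero, Nat.totient_one] at hdvd
      rw [Nat.dvd_one.mp hdvd]; exact one_dvd _
    · rw [Nat.totient_prime_pow hp.out h0] at hdvd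
      have hcop : Nat.Coprime (P : Subgroup K).index (p ^ (n - 1)) :=
        ((Nat.Prime.coprime_iff_not_dvd hp.out).mpr P.not_dvd_index).symm.pow_right _
      exact hcop.dvd_of_dvd_mul_left hdvd
  refine ⟨?_, hidx⟩
  by_cases hp2 : p = 2
  · have h1 : (P : Subgroup K).index = 1 := by
      have h21 : p - 1 = 1 := by rw [hp2]
      rw [h21] at hidx
      exact Nat.dvd_one.mp hidx
    have hsub : Subsingleton (K ⧸ (P : Subgroup K)) :=
      (Nat.card_eq_one_iff_unique.mp h1).1
    exact isCyclic_of_subsingleton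
  · have hcyc1 : IsCyclic (ZMod (Nat.card ↥(P : Subgroup K)))ˣ := by
      rw [hn']; exact ZMod.isCyclic_units_of_prime_pow p hp.out hp2 n
    have hcyc2 : IsCyclic (MulAut ↥(P : Subgroup K)) :=
      isCyclic_of_injective (IsCyclic.mulAutMulEquiv ↥(P : Subgroup K)).toMonoidHom
        (MulEquiv.injective _)
    exact isCyclic_of_injective _ hψ

end Cfsg.Agent.Lib.Helper3
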