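import Cfsg.Agent.Lib.Helper3.ZJ3
import Cfsg.Agent.Lib.Helper3.Replacement
import Cfsg.Prelude.Def_DStar

set_option autoImplicit false

namespace Cfsg.Agent.Lib.Helper3

open Cfsg
open scoped commutatorElement

section DS

variable {S : Type*} [Group S]

theorem ds_sup_eq_closure (A : Subgroup S) (x : S) :
    A ⊔ Subgroup.zpowers x = Subgroup.closure ((A : Set S) ∪ {x}) := by
  rw [Subgroup.closure_union, Subgroup.closure_eq, Subgroup.zpowers_eq_closure]

/-- a criterion for `⟨A, x⟩` to have class at most two -/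
theorem ds_class2 (A K : Subgroup S) (x : S) (hA : ∀ a ∈ A, ∀ b ∈ A, a * b = b * a)
    (hAN : A ≤ Subgroup.normalizer (K : Set S)) (hxN : x ∈ Subgroup.normalizer (K : Set S))
    (hc : ∀ a ∈ A, ⁅a, x⁆ ∈ K)
    (hAK : A ≤ Subgroup.centralizer (K : Set S)) (hxK : x ∈ Subgroup.centralizer (K : Set S)) :
    ⁅⁅A ⊔ Subgroup.zpowers x, A ⊔ Subgroup.zpowers x⁆, A ⊔ Subgroup.zpowers x⁆ = ⊥ := by
  have hsub : ((A : Set S) ∪ {x}) ⊆ Subgroup.normalizer (K : Set S) := by
    rintro y (hy | hy)
    · exact hAN hy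
    · rw [Set.mem_singleton_iff.mp hy]; exact hxN
  have h1 : ⁅A ⊔ Subgroup.zpowers x, A ⊔ Subgroup.zpowers x⁆ ≤ K := by
    rw [ds_sup_eq_closure]
    apply commutator_closure_le K _ _ hsub hsub
    rintro y (hy | hy) z (hz | hz)
    · rw [commutatorElement_eq_one_iff_mul_comm.mpr (hA y hy z hz)]; exact K.one_mem
    · rw [Set.mem_singleton_iff.mp hz]; exact hc y hy
    · rw [Set.mem_singleton_iff.mp hy, ← commutatorElement_inv]; exact K.inv_mem (hc z hz)
    · rw [Set.mem_singleton_iff.mp hy, Set.mem_singleton_iff.mp hz, commutatorElement_self]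
      exact K.one_mem
  have h2 : A ⊔ Subgroup.zpowers x ≤ Subgroup.centralizer (K : Set S) :=
    sup_le hAK ((Subgroup.zpowers_le).mpr hxK)
  rw [Subgroup.commutator_eq_bot_iff_le_centralizer]
  exact h1.trans (Subgroup.le_centralizer_iff.mp h2)

theorem ds_quad_of_class2 (A : Subgroup S) (x : S)
    (h : ⁅⁅A ⊔ Subgroup.zpowers x, A ⊔ Subgroup.zpowers x⁆, A ⊔ Subgroup.zpowers x⁆ = ⊥) :
    ⁅⁅A, Subgroup.zpowers x⁆, Subgroup.zpowers x⁆ = ⊥ := by
  rw [eq_bot_iff, ← h]
  exact Subgroup.commutator_mono (Subgroup.commutator_mono le_sup_left le_sup_right) le_sup_right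

theorem mem_normalizer_inf' {H K : Subgroup S} {g : S}
    (hH : g ∈ Subgroup.normalizer (H : Set S)) (hK : g ∈ Subgroup.normalizer (K : Set S)) :
    g ∈ Subgroup.normalizer ((H ⊓ K : Subgroup S) : Set S) := by
  rw [Subgroup.mem_normalizer_iff] at hH hK ⊢
  intro h
  rw [Subgroup.mem_inf, Subgroup.mem_inf, hH h, hK h]

/-- members of the `D*`-family centralize every abelian normal subgroup -/
theorem ds_le_centralizer [Group.IsNilpotent S] (M : Subgroup S) [hMn : M.Normal]
    (hM : ∀ a ∈ M, ∀ b ∈ M, a * b = b * a) {A : Subgroup S} (hA : A ∈ dStarFamily S) :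
    A ≤ Subgroup.centralizer (M : Set S) := by
  have key : ∀ n : ℕ, M ⊓ Subgroup.upperCentralSeries S n ≤ Subgroup.centralizer (A : Set S) := by
    intro n
    induction n with
    | zero => rw [Subgroup.upperCentralSeries_zero, inf_bot_eq]; exact bot_le
    | succ n ih =>
      rintro x ⟨hxM, hxZ⟩
      have hcomm := comm_of_isMulCommutative hA.1
      have hcl := ds_class2 A (M ⊓ Subgroup.upperCentralSeries S n) x hcomm
        (le_normalizer_of_normal A _) (le_normalizer_of_normal ⊤ _ (Subgroup.mem_top x)) ?_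
        (Subgroup.le_centralizer_iff.mp ih) ?_
      · refine Subgroup.mem_centralizer_iff.mpr (fun a ha => ?_)
        exact hA.2 x hcl a ha
      · intro a ha
        refine ⟨?_, ?_⟩
        · rw [commutatorElement_def]
          exact M.mul_mem (hMn.conj_mem x hxM a) (M.inv_mem hxM)
        · have h := (Subgroup.mem_upperCentralSeries_succ_iff).mp hxZ a
          rw [← commutatorElement_inv]
          exact Subgroup.inv_mem _ h
      · refine Subgroup.mem_centralizer_iff.mpr (fun k hk => ?_)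
        exact hM k hk.1 x hxM
  obtain ⟨n, hn⟩ := Group.IsNilpotent.nilpotent' (G := S)
  have := key n
  rw [hn, inf_top_eq] at this
  exact Subgroup.le_centralizer_iff.mp this

/-- a maximal abelian normal subgroup of a nilpotent group is self-centralizing -/
theorem ds_centralizer_le_of_max [Group.IsNilpotent S] (M : Subgroup S) [hMn : M.Normal]
    (hM : ∀ a ∈ M, ∀ b ∈ M, a * b = b * a)
    (hmax : ∀ B : Subgroup S, B.Normal → (∀ a ∈ B, ∀ b ∈ B, a * b = b * a) → M ≤ B → B = M) :
    Subgroup.centralizer (M : Set S) ≤ M := by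
  have key : ∀ n : ℕ, Subgroup.centralizer (M : Set S) ⊓ Subgroup.upperCentralSeries S n ≤ M := by
    intro n
    induction n with
    | zero => rw [Subgroup.upperCentralSeries_zero, inf_bot_eq]; exact bot_le
    | succ n ih =>
      rintro x ⟨hxC, hxZ⟩
      have hCn : (Subgroup.centralizer (M : Set S)).Normal := inferInstance
      have hgx : ∀ g : S, g * x * g⁻¹ * x⁻¹ ∈ M := by
        intro g
        apply ih
        refine ⟨?_, ?_⟩
        · exact Subgroup.mul_mem _ (hCn.conj_mem x hxC g) (Subgroup.inv_mem _ hxC)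
        · have h := (Subgroup.mem_upperCentralSeries_succ_iff).mp hxZ g
          have h2 : g * x * g⁻¹ * x⁻¹ = ⁅x, g⁆⁻¹ := by simp only [commutatorElement_def]; group
          rw [h2]
          exact Subgroup.inv_mem _ h
      have hnorm : (M ⊔ Subgroup.zpowers x).Normal := by
        constructor
        intro y hy g
        have h1 : (M ⊔ Subgroup.zpowers x).map (MulAut.conj g).toMonoidHom ≤
            M ⊔ Subgroup.zpowers x := by
          rw [Subgroup.map_sup, MonoidHom.map_zpowers]
          refine sup_le ?_ ?_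
          · rintro _ ⟨m, hm, rfl⟩
            exact (le_sup_left : M ≤ M ⊔ Subgroup.zpowers x) (hMn.conj_mem m hm g)
          · rw [Subgroup.zpowers_le]
            have h2 : (MulAut.conj g).toMonoidHom x = (g * x * g⁻¹ * x⁻¹) * x := by
              show g * x * g⁻¹ = (g * x * g⁻¹ * x⁻¹) * x
              group
            rw [h2]
            exact Subgroup.mul_mem _ ((le_sup_left : M ≤ M ⊔ Subgroup.zpowers x) (hgx g))
              ((le_sup_right : Subgroup.zpowers x ≤ M ⊔ Subgroup.zpowers x)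
                (Subgroup.mem_zpowers x))
        exact h1 ⟨y, hy, rfl⟩
      have hcomm : ∀ a ∈ M ⊔ Subgroup.zpowers x, ∀ b ∈ M ⊔ Subgroup.zpowers x, a * b = b * a := by
        have : IsMulCommutative ↥(Subgroup.closure ((M : Set S) ∪ {x})) :=
          Subgroup.isMulCommutative_closure (by
            intro y hy z hz
            rcases hy with hy | hy <;> rcases hz with hz | hz
            · exact hM y hy z hz
            · rw [Set.mem_singleton_iff] at hz; rw [hz]
              exact Subgroup.mem_centralizer_iff.mp hxC y hy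
            · rw [Set.mem_singleton_iff] at hy; rw [hy]
              exact (Subgroup.mem_centralizer_iff.mp hxC z hz).symm
            · rw [Set.mem_singleton_iff] at hy hz; rw [hy, hz])
        rw [ds_sup_eq_closure]
        exact comm_of_isMulCommutative this
      have hB := hmax (M ⊔ Subgroup.zpowers x) hnorm hcomm le_sup_left
      rw [← hB]
      exact (le_sup_right : Subgroup.zpowers x ≤ M ⊔ Subgroup.zpowers x) (Subgroup.mem_zpowers x)
  obtain ⟨n, hn⟩ := Group.IsNilpotent.nilpotent' (G := S)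
  have := key n
  rw [hn, inf_top_eq] at this
  exact this

theorem ds_exists_max [Finite S] (M0 : Subgroup S) (h0 : M0.Normal)
    (h0c : ∀ a ∈ M0, ∀ b ∈ M0, a * b = b * a) :
    ∃ M : Subgroup S, M.Normal ∧ (∀ a ∈ M, ∀ b ∈ M, a * b = b * a) ∧ M0 ≤ M ∧
      ∀ B : Subgroup S, B.Normal → (∀ a ∈ B, ∀ b ∈ B, a * b = b * a) → M ≤ B → B = M := by
  have hne : {M : Subgroup S | M.Normal ∧ (∀ a ∈ M, ∀ b ∈ M, a * b = b * a) ∧ M0 ≤ M}.Nonempty :=
    ⟨M0, h0, h0c, le_rfl⟩
  obtain ⟨M, hM, hmax⟩ := Set.exists_max_image _ (fun A : Subgroup S => Nat.card A)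
    (Set.toFinite _) hne
  refine ⟨M, hM.1, hM.2.1, hM.2.2, fun B hBn hBc hMB => ?_⟩
  exact (Subgroup.eq_of_le_of_card_ge hMB (hmax B ⟨hBn, hBc, hM.2.2.trans hMB⟩)).symm

theorem ds_dStar_le [Group.IsNilpotent S] (M : Subgroup S) [hMn : M.Normal]
    (hM : ∀ a ∈ M, ∀ b ∈ M, a * b = b * a)
    (hmax : ∀ B : Subgroup S, B.Normal → (∀ a ∈ B, ∀ b ∈ B, a * b = b * a) → M ≤ B → B = M) :
    dStar S ≤ M :=
  sSup_le (fun _ hA => (ds_le_centralizer M hM hA).trans (ds_centralizer_le_of_max M hM hmax))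

theorem ds_dStar_comm [Finite S] [Group.IsNilpotent S] :
    ∀ a ∈ dStar S, ∀ b ∈ dStar S, a * b = b * a := by
  obtain ⟨M, hMn, hMc, -, hmax⟩ := ds_exists_max (⊥ : Subgroup S) inferInstance
    (by intro a ha b hb; rw [Subgroup.mem_bot] at ha hb; rw [ha, hb])
  haveI := hMn
  have h := ds_dStar_le M hMc hmax
  exact fun a ha b hb => hMc a (h ha) b (h hb)

/-- `D*(S)` is a member of its own defining family -/
theorem ds_dStar_mem [Finite S] [Group.IsNilpotent S] : dStar S ∈ dStarFamily S := by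
  refine ⟨isMulCommutative_of_comm ds_dStar_comm, fun x hx => ?_⟩
  have h1 : dStar S ≤ Subgroup.centralizer ({x} : Set S) := by
    refine sSup_le (fun A hA => ?_)
    intro a ha
    refine Subgroup.mem_centralizer_iff.mpr (fun h hh => ?_)
    rw [Set.mem_singleton_iff.mp hh]
    refine (hA.2 x ?_ a ha).symm
    rw [eq_bot_iff, ← hx]
    have hle : A ⊔ Subgroup.zpowers x ≤ dStar S ⊔ Subgroup.zpowers x :=
      sup_le_sup_right (le_sSup hA) _
    exact Subgroup.commutator_mono (Subgroup.commutator_mono hle hle) hle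
  intro a ha
  exact ((Subgroup.mem_centralizer_iff.mp (h1 ha)) x rfl).symm

theorem ds_center_mem : Subgroup.center S ∈ dStarFamily S := by
  refine ⟨isMulCommutative_of_comm (fun a ha b _ => (Subgroup.mem_center_iff.mp ha b).symm),
    fun x _ a ha => ?_⟩
  exact (Subgroup.mem_center_iff.mp ha x).symm

theorem ds_family_map {S' : Type*} [Group S'] (e : S ≃* S') {A : Subgroup S}
    (hA : A ∈ dStarFamily S) : A.map e.toMonoidHom ∈ dStarFamily S' := by
  refine ⟨?_, fun x' => ?_⟩
  · apply isMulCommutative_of_comm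
    rintro _ ⟨a, ha, rfl⟩ _ ⟨b, hb, rfl⟩
    rw [← map_mul, ← map_mul, comm_of_isMulCommutative hA.1 a ha b hb]
  · obtain ⟨x, rfl⟩ := e.surjective x'
    intro hx'
    rintro _ ⟨a, ha, rfl⟩
    have h1 : ⁅⁅A ⊔ Subgroup.zpowers x, A ⊔ Subgroup.zpowers x⁆, A ⊔ Subgroup.zpowers x⁆ = ⊥ := by
      have h2 : (⁅⁅A ⊔ Subgroup.zpowers x, A ⊔ Subgroup.zpowers x⁆,
          A ⊔ Subgroup.zpowers x⁆).map e.toMonoidHom = ⊥ := by
        rw [Subgroup.map_commutator, Subgroup.map_commutator, Subgroup.map_sup,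
          MonoidHom.map_zpowers]
        exact hx'
      exact (Subgroup.map_eq_bot_iff_of_injective _ e.injective).mp h2
    have := hA.2 x h1 a ha
    show e a * e x = e x * e a
    rw [← map_mul, ← map_mul, this]

theorem ds_dStar_map_le {S' : Type*} [Group S'] (e : S ≃* S') :
    (dStar S).map e.toMonoidHom ≤ dStar S' :=
  Subgroup.map_le_iff_le_comap.mpr
    (sSup_le fun _ hA => Subgroup.map_le_iff_le_comap.mp (le_sSup (ds_family_map e hA)))

theorem ds_dStar_normal : (dStar S).Normal := by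
  constructor
  intro y hy g
  exact ds_dStar_map_le (MulAut.conj g) ⟨y, hy, rfl⟩

theorem ds_exists_maxAb [Finite S] : ∃ B : Subgroup S, B ∈ maxAbelianSubgroups S := by
  have hne : {A : Subgroup S | IsMulCommutative A}.Nonempty :=
    ⟨⊥, isMulCommutative_of_comm
      (by intro a ha b hb; rw [Subgroup.mem_bot] at ha hb; rw [ha, hb])⟩
  obtain ⟨B, hB, hmax⟩ := Set.exists_max_image _ (fun A : Subgroup S => Nat.card A)
    (Set.toFinite _) hne
  exact ⟨B, hB, fun B' hB' => hmax B' hB'⟩

/-- `D*(S)` lies in every abelian subgroup of largest order -/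
theorem ds_dStar_le_maxAb [Finite S] {p : ℕ} [Fact p.Prime] (hS : IsPGroup p S) {B0 : Subgroup S}
    (hB0 : B0 ∈ maxAbelianSubgroups S) : dStar S ≤ B0 := by
  classical
  haveI : Group.IsNilpotent S := hS.isNilpotent
  by_contra hcon
  have hne : {B : Subgroup S | B ∈ maxAbelianSubgroups S ∧ ¬ dStar S ≤ B}.Nonempty :=
    ⟨B0, hB0, hcon⟩
  obtain ⟨B, ⟨hB, hnle⟩, hmax⟩ := Set.exists_max_image _
    (fun B : Subgroup S => Nat.card ↥(B ⊓ dStar S)) (Set.toFinite _) hne
  haveI hDn : (dStar S).Normal := ds_dStar_normal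
  have hDc := ds_dStar_comm (S := S)
  have hBc := comm_of_isMulCommutative hB.1
  have hDD : ⁅dStar S, dStar S⁆ ≤ B := by
    have : ⁅dStar S, dStar S⁆ = ⊥ := by
      rw [Subgroup.commutator_eq_bot_iff_le_centralizer]
      intro a ha
      exact Subgroup.mem_centralizer_iff.mpr (fun b hb => hDc b hb a ha)
    rw [this]; exact bot_le
  have hDN : dStar S ≤ Subgroup.normalizer (B : Set S) := by
    by_contra hnot
    obtain ⟨b, hb, hbN, hbA⟩ := Cfsg.Agent.S0649.result hS (dStar S)
      (fun _ => isMulCommutative_of_comm hDc) B hB.1 hDD hnot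
    obtain ⟨h1, h2, -, h4, h5, -⟩ := gr_main hS (fun _ => hDc) hBc hDD hb hbN hbA
    have hstar : grStar B b ∈ maxAbelianSubgroups S := ⟨h2, fun B' hB' => h1 ▸ hB.2 B' hB'⟩
    have hn : ¬ dStar S ≤ grStar B b := fun h => (ne_of_lt h5) (inf_eq_right.mpr h)
    have hle := hmax (grStar B b) ⟨hstar, hn⟩
    exact absurd (card_lt_of_lt h4) (not_lt.mpr hle)
  have hBD : B ≤ Subgroup.centralizer (dStar S : Set S) := by
    intro x hx
    have hmem := ds_dStar_mem (S := S)
    have hcl := ds_class2 (dStar S) (dStar S ⊓ B) x hDc ?_ ?_ ?_ ?_ ?_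
    · exact Subgroup.mem_centralizer_iff.mpr (fun d hd => hmem.2 x hcl d hd)
    · intro d hd
      exact mem_normalizer_inf' (Subgroup.le_normalizer hd) (hDN hd)
    · exact mem_normalizer_inf' (le_normalizer_of_normal ⊤ _ (Subgroup.mem_top x))
        (Subgroup.le_normalizer hx)
    · intro d hd
      refine ⟨?_, ?_⟩
      · have h2 : ⁅d, x⁆ = d * (x * d⁻¹ * x⁻¹) := by simp only [commutatorElement_def]; group
        rw [h2]
        exact Subgroup.mul_mem _ hd (hDn.conj_mem _ (Subgroup.inv_mem _ hd) x)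
      · rw [commutatorElement_def]
        exact B.mul_mem ((Subgroup.mem_normalizer_iff.mp (hDN hd) x).mp hx) (B.inv_mem hx)
    · intro d hd
      exact Subgroup.mem_centralizer_iff.mpr (fun k hk => hDc k hk.1 d hd)
    · exact Subgroup.mem_centralizer_iff.mpr (fun k hk => hBc k hk.2 x hx)
  have hcomm : IsMulCommutative ↥(Subgroup.closure ((B : Set S) ∪ (dStar S : Set S))) :=
    Subgroup.isMulCommutative_closure (by
      intro y hy z hz
      rcases hy with hy | hy <;> rcases hz with hz | hz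
      · exact hBc y hy z hz
      · exact (Subgroup.mem_centralizer_iff.mp (hBD hy) z hz).symm
      · exact Subgroup.mem_centralizer_iff.mp (hBD hz) y hy
      · exact hDc y hy z hz)
  have heq : B ⊔ dStar S = Subgroup.closure ((B : Set S) ∪ (dStar S : Set S)) := by
    rw [Subgroup.closure_union, Subgroup.closure_eq, Subgroup.closure_eq]
  rw [← heq] at hcomm
  have hcard := hB.2 (B ⊔ dStar S) hcomm
  have hBeq := Subgroup.eq_of_le_of_card_ge (le_sup_left : B ≤ B ⊔ dStar S) hcard
  exact hnle (hBeq ▸ le_sup_right)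

end DS

end Cfsg.Agent.Lib.Helper3
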