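import Cfsg.Agent.Lib.Helper3.DStar
import Cfsg.Agent.Lib.Helper3.ZJ2

set_option autoImplicit false

namespace Cfsg.Agent.Lib.Helper3

open Cfsg
open scoped commutatorElement

section DSG

variable {G : Type*} [Group G]

/-- the `D*`-family of a subgroup `T`, expressed inside the ambient group -/
def dFam (T : Subgroup G) : Set (Subgroup G) :=
  {A | A ≤ T ∧ (∀ a ∈ A, ∀ b ∈ A, a * b = b * a) ∧ ∀ x ∈ T,
    ⁅⁅A ⊔ Subgroup.zpowers x, A ⊔ Subgroup.zpowers x⁆, A ⊔ Subgroup.zpowers x⁆ = ⊥ →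
      ∀ a ∈ A, a * x = x * a}

theorem ds_map_class (T : Subgroup G) (A0 : Subgroup ↥T) (x : ↥T) :
    ⁅⁅A0 ⊔ Subgroup.zpowers x, A0 ⊔ Subgroup.zpowers x⁆, A0 ⊔ Subgroup.zpowers x⁆ = ⊥ ↔
    ⁅⁅A0.map T.subtype ⊔ Subgroup.zpowers (x : G), A0.map T.subtype ⊔ Subgroup.zpowers (x : G)⁆,
      A0.map T.subtype ⊔ Subgroup.zpowers (x : G)⁆ = ⊥ := by
  rw [← Subgroup.map_eq_bot_iff_of_injective _ T.subtype_injective, Subgroup.map_commutator,
    Subgroup.map_commutator, Subgroup.map_sup, MonoidHom.map_zpowers]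
  rfl

theorem ds_mem_dFam_of_mem (T : Subgroup G) {A0 : Subgroup ↥T} (hA : A0 ∈ dStarFamily ↥T) :
    A0.map T.subtype ∈ dFam T := by
  refine ⟨Subgroup.map_subtype_le A0, comm_map_subtype hA.1, fun x hx hcl => ?_⟩
  rintro _ ⟨a, ha, rfl⟩
  have := hA.2 ⟨x, hx⟩ ((ds_map_class T A0 ⟨x, hx⟩).mpr hcl) a ha
  exact congrArg Subtype.val this

theorem ds_mem_of_mem_dFam (T : Subgroup G) {A : Subgroup G} (hA : A ∈ dFam T) :
    A.subgroupOf T ∈ dStarFamily ↥T := by
  have hmap : (A.subgroupOf T).map T.subtype = A := Subgroup.map_subgroupOf_eq_of_le hA.1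
  refine ⟨isMulCommutative_subgroupOf T hA.2.1, fun x hcl a ha => ?_⟩
  rw [ds_map_class, hmap] at hcl
  apply Subtype.ext
  exact hA.2.2 x x.2 hcl a (Subgroup.mem_subgroupOf.mp ha)

theorem ds_dStarOf_eq (T : Subgroup G) : dStarOf T = sSup (dFam T) := by
  apply le_antisymm
  · unfold dStarOf dStar
    refine Subgroup.map_le_iff_le_comap.mpr (sSup_le fun A0 hA0 => ?_)
    exact Subgroup.map_le_iff_le_comap.mp (le_sSup (ds_mem_dFam_of_mem T hA0))
  · refine sSup_le (fun A hA => ?_)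
    have h1 := ds_mem_of_mem_dFam T hA
    have h2 : A.subgroupOf T ≤ dStar ↥T := le_sSup h1
    have h3 := Subgroup.map_mono (f := T.subtype) h2
    rwa [Subgroup.map_subgroupOf_eq_of_le hA.1] at h3

theorem ds_dStarOf_mem [Finite G] {p : ℕ} [Fact p.Prime] {T : Subgroup G} (hT : IsPGroup p T) :
    dStarOf T ∈ dFam T := by
  haveI : Group.IsNilpotent ↥T := hT.isNilpotent
  exact ds_mem_dFam_of_mem T (ds_dStar_mem (S := ↥T))

theorem ds_dFam_mono_mem {X Y : Subgroup G} (hYX : Y ≤ X) {A : Subgroup G} (hA : A ∈ dFam X)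
    (hAY : A ≤ Y) : A ∈ dFam Y :=
  ⟨hAY, hA.2.1, fun x hx => hA.2.2 x (hYX hx)⟩

theorem ds_dStarOf_le_of_le [Finite G] {p : ℕ} [Fact p.Prime] {X Y : Subgroup G}
    (hX : IsPGroup p X) (hYX : Y ≤ X) (h : dStarOf X ≤ Y) : dStarOf X ≤ dStarOf Y := by
  rw [ds_dStarOf_eq Y]
  exact le_sSup (ds_dFam_mono_mem hYX (ds_dStarOf_mem hX) h)

theorem ds_dFam_map (e : G ≃* G) {T A : Subgroup G} (hA : A ∈ dFam T) :
    A.map e.toMonoidHom ∈ dFam (T.map e.toMonoidHom) := by
  refine ⟨Subgroup.map_mono hA.1, commP_map e A hA.2.1, ?_⟩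
  rintro _ ⟨x, hx, rfl⟩ hcl _ ⟨a, ha, rfl⟩
  have h1 : ⁅⁅A ⊔ Subgroup.zpowers x, A ⊔ Subgroup.zpowers x⁆, A ⊔ Subgroup.zpowers x⁆ = ⊥ := by
    have h2 : (⁅⁅A ⊔ Subgroup.zpowers x, A ⊔ Subgroup.zpowers x⁆,
        A ⊔ Subgroup.zpowers x⁆).map e.toMonoidHom = ⊥ := by
      rw [Subgroup.map_commutator, Subgroup.map_commutator, Subgroup.map_sup,
        MonoidHom.map_zpowers]
      exact hcl
    exact (Subgroup.map_eq_bot_iff_of_injective _ e.injective).mp h2
  have := hA.2.2 x hx h1 a ha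
  show e a * e x = e x * e a
  rw [← map_mul, ← map_mul, this]

theorem ds_dStarOf_map_le (e : G ≃* G) (T : Subgroup G) :
    (dStarOf T).map e.toMonoidHom ≤ dStarOf (T.map e.toMonoidHom) := by
  rw [ds_dStarOf_eq, ds_dStarOf_eq]
  exact Subgroup.map_le_iff_le_comap.mpr
    (sSup_le fun A hA => Subgroup.map_le_iff_le_comap.mp (le_sSup (ds_dFam_map e hA)))

theorem ds_normalizer_le [Finite G] (T : Subgroup G) :
    Subgroup.normalizer (T : Set G) ≤ Subgroup.normalizer ((dStarOf T : Subgroup G) : Set G) := by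
  intro g hg
  apply fin_mem_normalizer
  intro y hy
  have h1 : T.map (MulAut.conj g).toMonoidHom = T :=
    Subgroup.mem_normalizer_iff_map_conj_eq.mp hg
  have h2 := ds_dStarOf_map_le (MulAut.conj g) T
  rw [h1] at h2
  exact h2 ⟨y, hy, rfl⟩

theorem ds_dStarOf_le (T : Subgroup G) : dStarOf T ≤ T := Subgroup.map_subtype_le _

/-- abelian subgroups normalized by a Sylow `p`-subgroup act quadratically on normal
`p`-subgroups, hence lie in `stabL` -/
theorem ds_le_stabL [Finite G] {p : ℕ} [Fact p.Prime] (S : Sylow p G) (A : Subgroup G)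
    [hAn : A.Normal] (hAp : IsPGroup p A) (hst : IsPStableOn p A) (X : Subgroup G)
    (hX : ∀ a ∈ X, ∀ b ∈ X, a * b = b * a)
    (hSX : (S : Subgroup G) ≤ Subgroup.normalizer (X : Set G)) : X ≤ stabL p A := by
  intro a ha
  apply mem_stabL_of_quad hst
  have hAS : A ≤ (S : Subgroup G) := hAp.le_sylow_of_normal S
  have hza : Subgroup.zpowers a ≤ X := (Subgroup.zpowers_le).mpr ha
  have h1 : ⁅A, Subgroup.zpowers a⁆ ≤ X := by
    rw [Subgroup.commutator_le]
    intro α hα z hz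
    rw [commutatorElement_def]
    exact X.mul_mem ((Subgroup.mem_normalizer_iff.mp (hSX (hAS hα)) z).mp (hza hz))
      (X.inv_mem (hza hz))
  have h2 : ⁅X, Subgroup.zpowers a⁆ = ⊥ := by
    rw [Subgroup.commutator_eq_bot_iff_le_centralizer]
    intro x hx
    exact Subgroup.mem_centralizer_iff.mpr (fun z hz => hX z (hza hz) x hx)
  rw [eq_bot_iff, ← h2]
  exact Subgroup.commutator_mono h1 le_rfl

theorem ds_centralizer_le_stabL (p : ℕ) (A : Subgroup G) [A.Normal] :
    Subgroup.centralizer (A : Set G) ≤ stabL p A := by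
  intro g hg
  show (QuotientGroup.mk' (Subgroup.centralizer (A : Set G)) g) ∈
    pCore p (G ⧸ Subgroup.centralizer (A : Set G))
  have : (QuotientGroup.mk' (Subgroup.centralizer (A : Set G)) g) = 1 :=
    (QuotientGroup.eq_one_iff g).mpr hg
  rw [this]
  exact Subgroup.one_mem _

theorem ds_stabL_anti (p : ℕ) {A A' : Subgroup G} [A.Normal] [A'.Normal] (h : A' ≤ A) :
    stabL p A ≤ stabL p A' := by
  have hC : Subgroup.centralizer (A : Set G) ≤ Subgroup.centralizer (A' : Set G) :=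
    Subgroup.centralizer_le h
  let φ : G ⧸ Subgroup.centralizer (A : Set G) →* G ⧸ Subgroup.centralizer (A' : Set G) :=
    QuotientGroup.map _ _ (MonoidHom.id G) hC
  have hφ : Function.Surjective φ := by
    intro y
    obtain ⟨g, rfl⟩ := QuotientGroup.mk_surjective y
    exact ⟨QuotientGroup.mk g, rfl⟩
  haveI := pCore_normal' p (G ⧸ Subgroup.centralizer (A : Set G))
  have h1 : (pCore p (G ⧸ Subgroup.centralizer (A : Set G))).map φ ≤
      pCore p (G ⧸ Subgroup.centralizer (A' : Set G)) :=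
    le_pCore' (Subgroup.Normal.map inferInstance φ hφ) ((pCore_isPGroup' p _).map φ)
  intro g hg
  exact h1 ⟨_, hg, rfl⟩

variable [Finite G] {p : ℕ} [Fact p.Prime]

omit [Finite G] [Fact p.Prime] in
theorem ds_T_isPGroup (S : Sylow p G) (L : Subgroup G) : IsPGroup p ↥((S : Subgroup G) ⊓ L) :=
  S.isPGroup'.to_le inf_le_left

omit [Finite G] [Fact p.Prime] in
theorem ds_sylow_le_normalizer_T (S : Sylow p G) (L : Subgroup G) [L.Normal] :
    (S : Subgroup G) ≤ Subgroup.normalizer (((S : Subgroup G) ⊓ L : Subgroup G) : Set G) :=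
  fun _ hs => mem_normalizer_inf' (Subgroup.le_normalizer hs)
    (le_normalizer_of_normal ⊤ _ (Subgroup.mem_top _))

/-- if `D*(S ∩ L(A)) ≤ A` then it is normal in `G` -/
theorem ds_phi_normal (S : Sylow p G) (A : Subgroup G) [hAn : A.Normal]
    (h : dStarOf ((S : Subgroup G) ⊓ stabL p A) ≤ A) :
    (dStarOf ((S : Subgroup G) ⊓ stabL p A)).Normal := by
  haveI hLn : (stabL p A).Normal := stabL_normal p A
  rw [← Subgroup.normalizer_eq_top_iff, eq_top_iff]
  intro g _
  obtain ⟨l, hl, hlg⟩ := sylow_inf_conj (stabL p A) (g • S) S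
  -- `l * g` normalizes `T`
  have h1 : ((S : Subgroup G) ⊓ stabL p A).map (MulAut.conj (l * g)).toMonoidHom =
      (S : Subgroup G) ⊓ stabL p A := by
    rw [Subgroup.map_inf _ _ _ (MulAut.conj (l * g)).injective]
    have h2 : (stabL p A).map (MulAut.conj (l * g)).toMonoidHom = stabL p A :=
      Subgroup.mem_normalizer_iff_map_conj_eq.mp
        (le_normalizer_of_normal ⊤ _ (Subgroup.mem_top (l * g)))
    rw [h2, ← sylow_smul_coe, mul_smul]
    exact hlg
  have h3 : l * g ∈ Subgroup.normalizer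
      ((dStarOf ((S : Subgroup G) ⊓ stabL p A) : Subgroup G) : Set G) :=
    ds_normalizer_le _ (Subgroup.mem_normalizer_iff_map_conj_eq.mpr h1)
  -- `l` normalizes `D*(T)`
  obtain ⟨x, hx, hxl⟩ := stabL_decomp S hl
  have hxL : x ∈ stabL p A := by
    have : x = l * (x⁻¹ * l)⁻¹ := by group
    rw [this]
    exact Subgroup.mul_mem _ hl (Subgroup.inv_mem _ (ds_centralizer_le_stabL p A hxl))
  have h4 : x ∈ Subgroup.normalizer
      ((dStarOf ((S : Subgroup G) ⊓ stabL p A) : Subgroup G) : Set G) :=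
    ds_normalizer_le _ (Subgroup.le_normalizer ⟨hx, hxL⟩)
  have h5 : x⁻¹ * l ∈ Subgroup.normalizer
      ((dStarOf ((S : Subgroup G) ⊓ stabL p A) : Subgroup G) : Set G) :=
    Subgroup.centralizer_le_normalizer _ (Subgroup.centralizer_le h hxl)
  have h6 : l ∈ Subgroup.normalizer
      ((dStarOf ((S : Subgroup G) ⊓ stabL p A) : Subgroup G) : Set G) := by
    have : l = x * (x⁻¹ * l) := by group
    rw [this]
    exact Subgroup.mul_mem _ h4 h5
  have : g = l⁻¹ * (l * g) := by group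
  rw [this]
  exact Subgroup.mul_mem _ (Subgroup.inv_mem _ h6) h3

theorem ds_phi_mono (S : Sylow p G) (A A' : Subgroup G) [hAn : A.Normal] [hA'n : A'.Normal]
    (hAp : IsPGroup p A) (hst : IsPStableOn p A) (hle : A' ≤ A) :
    dStarOf ((S : Subgroup G) ⊓ stabL p A') ≤ dStarOf ((S : Subgroup G) ⊓ stabL p A) := by
  haveI hLn : (stabL p A').Normal := stabL_normal p A'
  have hT : (S : Subgroup G) ⊓ stabL p A ≤ (S : Subgroup G) ⊓ stabL p A' :=
    inf_le_inf_left _ (ds_stabL_anti p hle)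
  have hXc := (ds_dStarOf_mem (ds_T_isPGroup S (stabL p A'))).2.1
  have hSX : (S : Subgroup G) ≤ Subgroup.normalizer
      ((dStarOf ((S : Subgroup G) ⊓ stabL p A') : Subgroup G) : Set G) :=
    (ds_sylow_le_normalizer_T S (stabL p A')).trans (ds_normalizer_le _)
  have hXL := ds_le_stabL S A hAp hst _ hXc hSX
  exact ds_dStarOf_le_of_le (ds_T_isPGroup S _) hT
    (le_inf ((ds_dStarOf_le _).trans inf_le_left) hXL)

theorem ds_le_phi (S : Sylow p G) (A : Subgroup G) [hAn : A.Normal]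
    (hAp : IsPGroup p A) (hst : IsPStableOn p A) :
    dStarOf (S : Subgroup G) ≤ dStarOf ((S : Subgroup G) ⊓ stabL p A) := by
  have hXc := (ds_dStarOf_mem S.isPGroup').2.1
  have hSX : (S : Subgroup G) ≤ Subgroup.normalizer
      ((dStarOf (S : Subgroup G) : Subgroup G) : Set G) :=
    Subgroup.le_normalizer.trans (ds_normalizer_le _)
  have hXL := ds_le_stabL S A hAp hst _ hXc hSX
  exact ds_dStarOf_le_of_le S.isPGroup' inf_le_left (le_inf (ds_dStarOf_le _) hXL)

/-- the `D*`-theorem of Glauberman and Solomon -/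
theorem ds_normal
    (hc : Subgroup.centralizer (pCore p G : Set G) ≤ pCore p G)
    (hst : ∀ (P : Subgroup G) [P.Normal], IsPGroup p P → IsPStableOn p P) (S : Sylow p G) :
    (dStarOf (S : Subgroup G)).Normal := by
  classical
  haveI hPn := pCore_normal' p G
  have hPp := pCore_isPGroup' p G
  have hne : {A : Subgroup G | ∃ h : A.Normal, IsPGroup p A ∧
      dStarOf ((S : Subgroup G) ⊓ @stabL G _ p A h) ≤ A}.Nonempty := by
    refine ⟨pCore p G, hPn, hPp, ?_⟩
    refine (ds_dStarOf_le _).trans (inf_le_right.trans ?_)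
    exact le_pCore' (stabL_normal p _) (stabL_isPGroup hPp hc)
  obtain ⟨A, ⟨hAn, hAp, hA⟩, hmin⟩ := Set.exists_min_image _
    (fun A : Subgroup G => Nat.card A) (Set.toFinite _) hne
  haveI := hAn
  have hstA := hst A hAp
  -- `Φ(A) = A`
  have hΦn : (dStarOf ((S : Subgroup G) ⊓ stabL p A)).Normal := ds_phi_normal S A hA
  have hΦp : IsPGroup p ↥(dStarOf ((S : Subgroup G) ⊓ stabL p A)) := hAp.to_le hA
  have hΦΦ : dStarOf ((S : Subgroup G) ⊓ @stabL G _ p (dStarOf ((S : Subgroup G) ⊓ stabL p A)) hΦn)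
      ≤ dStarOf ((S : Subgroup G) ⊓ stabL p A) :=
    @ds_phi_mono G _ _ p _ S A _ hAn hΦn hAp hstA hA
  have hcard := hmin _ ⟨hΦn, hΦp, hΦΦ⟩
  have hEq : dStarOf ((S : Subgroup G) ⊓ stabL p A) = A := Subgroup.eq_of_le_of_card_ge hA hcard
  -- `A` is a member of the family of `S`
  have hmemT := ds_dStarOf_mem (ds_T_isPGroup S (stabL p A))
  rw [hEq] at hmemT
  have hAS : A ≤ (S : Subgroup G) := hAp.le_sylow_of_normal S
  have hmemS : A ∈ dFam (S : Subgroup G) := by
    refine ⟨hAS, hmemT.2.1, fun x hx hcl => ?_⟩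
    have hxL : x ∈ stabL p A := mem_stabL_of_quad hstA (ds_quad_of_class2 A x hcl)
    exact hmemT.2.2 x ⟨hx, hxL⟩ hcl
  have h1 : A ≤ dStarOf (S : Subgroup G) := by
    rw [ds_dStarOf_eq]; exact le_sSup hmemS
  have h2 : dStarOf (S : Subgroup G) ≤ A := by
    have := ds_le_phi S A hAp hstA
    rwa [hEq] at this
  rw [le_antisymm h2 h1]
  exact hAn

end DSG

end Cfsg.Agent.Lib.Helper3
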