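import Cfsg.Agent.Lib.Helper3.GT9

set_option autoImplicit false
set_option linter.style.haveILetI false

namespace Cfsg.Agent.Lib.Helper3

open Cfsg
open scoped commutatorElement

universe u

section Gen

variable {Q : Type*} [Group Q]

theorem split_props {Kb : Subgroup Q} [hKn : Kb.Normal] (hKc : commP Kb) {a x : Q}
    (ha : a * a = 1) (hx : x ∈ Kb) :
    x * (a * x * a⁻¹) ∈ Kb ∧ x * (a * x * a⁻¹)⁻¹ ∈ Kb ∧
    a * (x * (a * x * a⁻¹)) * a⁻¹ = x * (a * x * a⁻¹) ∧
    a * (x * (a * x * a⁻¹)⁻¹) * a⁻¹ = (x * (a * x * a⁻¹)⁻¹)⁻¹ ∧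
    (x * (a * x * a⁻¹)) * (x * (a * x * a⁻¹)⁻¹) = x * x := by
  have hxa : a * x * a⁻¹ ∈ Kb := hKn.conj_mem x hx a
  have hc : x * (a * x * a⁻¹) = (a * x * a⁻¹) * x := hKc x hx _ hxa
  have e : a * (a * x * a⁻¹) * a⁻¹ = x := by
    calc a * (a * x * a⁻¹) * a⁻¹ = (a * a) * x * (a * a)⁻¹ := by group
      _ = x := by rw [ha]; group
  obtain ⟨y, hy⟩ : ∃ y, y = a * x * a⁻¹ := ⟨_, rfl⟩
  rw [← hy] at hxa hc e ⊢
  refine ⟨Kb.mul_mem hx hxa, Kb.mul_mem hx (Kb.inv_mem hxa), ?_, ?_, ?_⟩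
  · calc a * (x * y) * a⁻¹ = (a * x * a⁻¹) * (a * y * a⁻¹) := by group
      _ = y * x := by rw [e, ← hy]
      _ = x * y := hc.symm
  · calc a * (x * y⁻¹) * a⁻¹ = (a * x * a⁻¹) * (a * y * a⁻¹)⁻¹ := by group
      _ = y * x⁻¹ := by rw [e, ← hy]
      _ = (x * y⁻¹)⁻¹ := by group
  · calc (x * y) * (x * y⁻¹) = x * (y * x) * y⁻¹ := by group
      _ = x * (x * y) * y⁻¹ := by rw [hc]
      _ = x * x := by group

theorem split_conj {a d : Q} (hda : d * a = a * d) (x : Q) :
    d * (a * x * a⁻¹) * d⁻¹ = a * (d * x * d⁻¹) * a⁻¹ := by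
  have h2 : a⁻¹ * d⁻¹ = d⁻¹ * a⁻¹ := by rw [← mul_inv_rev, ← mul_inv_rev, hda]
  calc d * (a * x * a⁻¹) * d⁻¹ = (d * a) * x * (a⁻¹ * d⁻¹) := by group
    _ = (a * d) * x * (d⁻¹ * a⁻¹) := by rw [hda, h2]
    _ = a * (d * x * d⁻¹) * a⁻¹ := by group

theorem split_fix {a d x : Q} (hda : d * a = a * d) (hdx : d * x * d⁻¹ = x) :
    d * (x * (a * x * a⁻¹)) * d⁻¹ = x * (a * x * a⁻¹) ∧
    d * (x * (a * x * a⁻¹)⁻¹) * d⁻¹ = x * (a * x * a⁻¹)⁻¹ := by
  have e := split_conj hda x
  rw [hdx] at e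
  constructor
  · calc d * (x * (a * x * a⁻¹)) * d⁻¹ = (d * x * d⁻¹) * (d * (a * x * a⁻¹) * d⁻¹) := by group
      _ = x * (a * x * a⁻¹) := by rw [hdx, e]
  · calc d * (x * (a * x * a⁻¹)⁻¹) * d⁻¹
        = (d * x * d⁻¹) * (d * (a * x * a⁻¹) * d⁻¹)⁻¹ := by group
      _ = x * (a * x * a⁻¹)⁻¹ := by rw [hdx, e]

theorem split_inv {a d x : Q} (hda : d * a = a * d) (hdx : d * x * d⁻¹ = x⁻¹)
    (hc : x * (a * x * a⁻¹) = (a * x * a⁻¹) * x) :
    d * (x * (a * x * a⁻¹)⁻¹) * d⁻¹ = (x * (a * x * a⁻¹)⁻¹)⁻¹ := by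
  have e := split_conj hda x
  rw [hdx] at e
  have e' : a * x⁻¹ * a⁻¹ = (a * x * a⁻¹)⁻¹ := by group
  rw [e'] at e
  obtain ⟨y, hy⟩ : ∃ y, y = a * x * a⁻¹ := ⟨_, rfl⟩
  rw [← hy] at e hc ⊢
  calc d * (x * y⁻¹) * d⁻¹ = (d * x * d⁻¹) * (d * y * d⁻¹)⁻¹ := by group
    _ = x⁻¹ * y := by rw [hdx, e, inv_inv]
    _ = y * x⁻¹ := (Commute.inv_left (show Commute x y from hc)).eq
    _ = (x * y⁻¹)⁻¹ := by group

/-- coprime generation: an abelian group of odd order acted on by an elementary abelian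
`2`-group is generated by the centralizers of the subgroups of index at most `2`. -/
theorem gen_of_hyperplanes [Finite Q] (Kb Bb Nb : Subgroup Q) [hKn : Kb.Normal]
    (hKc : commP Kb) (hKodd : ∀ x ∈ Kb, Odd (orderOf x)) (hB : ∀ x ∈ Bb, x * x = 1)
    (hN : ∀ D : Subgroup Q, D ≤ Bb → Nat.card Bb ≤ 2 * Nat.card D →
      Kb ⊓ Subgroup.centralizer (D : Set Q) ≤ Nb) : Kb ≤ Nb := by
  have hinv : ∀ z ∈ Bb, z⁻¹ = z := fun z hz => inv_eq_of_mul_eq_one_right (hB z hz)
  have hBc : ∀ x ∈ Bb, ∀ y ∈ Bb, x * y = y * x := by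
    intro x hx y hy
    calc x * y = (x * y)⁻¹ := (hinv _ (Bb.mul_mem hx hy)).symm
      _ = y⁻¹ * x⁻¹ := mul_inv_rev _ _
      _ = y * x := by rw [hinv y hy, hinv x hx]
  have hmemC : ∀ (D : Subgroup Q) (e y : Q), (∀ d ∈ D, d * y * d⁻¹ = y) → e * y * e⁻¹ = y →
      y ∈ Subgroup.centralizer ((D ⊔ Subgroup.zpowers e : Subgroup Q) : Set Q) := by
    intro D e y hD he
    have h1 : D ⊔ Subgroup.zpowers e ≤ Subgroup.centralizer ({y} : Set Q) := by
      apply sup_le
      · intro d hd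
        rw [Subgroup.mem_centralizer_singleton_iff]
        exact mul_inv_eq_iff_eq_mul.mp (hD d hd)
      · rw [Subgroup.zpowers_le, Subgroup.mem_centralizer_singleton_iff]
        exact mul_inv_eq_iff_eq_mul.mp he
    refine Subgroup.mem_centralizer_iff.mpr ?_
    intro g hg
    exact Subgroup.mem_centralizer_singleton_iff.mp (h1 hg)
  have key : ∀ n : ℕ, ∀ D : Subgroup Q, D ≤ Bb → Nat.card Bb - Nat.card D = n →
      Kb ⊓ Subgroup.centralizer (D : Set Q) ≤ Nb := by
    intro n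
    induction n using Nat.strong_induction_on with
    | _ n ih =>
      intro D hD hn
      by_cases hc : Nat.card Bb ≤ 2 * Nat.card D
      · exact hN D hD hc
      · push Not at hc
        have hDpos : 0 < Nat.card D := Nat.card_pos
        have hcardle : Nat.card D ≤ Nat.card Bb := Subgroup.card_le_of_le hD
        have IH' : ∀ e ∈ Bb, e ∉ D →
            Kb ⊓ Subgroup.centralizer ((D ⊔ Subgroup.zpowers e : Subgroup Q) : Set Q) ≤ Nb := by
          intro e he heD
          have hlt : D < D ⊔ Subgroup.zpowers e := by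
            refine lt_of_le_of_ne le_sup_left ?_
            intro h
            apply heD
            rw [h]
            exact Subgroup.mem_sup_right (Subgroup.mem_zpowers e)
          have hle : D ⊔ Subgroup.zpowers e ≤ Bb := sup_le hD (Subgroup.zpowers_le.mpr he)
          have h1 := card_lt_of_lt hlt
          have h2 := Subgroup.card_le_of_le hle
          exact ih (Nat.card Bb - Nat.card ↥(D ⊔ Subgroup.zpowers e)) (by omega) _ hle rfl
        have hDne : D ≠ Bb := by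
          intro h; rw [h] at hc; omega
        obtain ⟨a, haB, haD⟩ := SetLike.exists_of_lt (lt_of_le_of_ne hD hDne)
        have hD₁card : Nat.card ↥(D ⊔ Subgroup.zpowers a) ≤ 2 * Nat.card D := by
          have hnorm : D ≤ Subgroup.normalizer ((Subgroup.zpowers a : Subgroup Q) : Set Q) := by
            refine le_trans ?_ (Subgroup.centralizer_le_normalizer _)
            apply Subgroup.le_centralizer_iff.mp
            rw [Subgroup.zpowers_le]
            refine Subgroup.mem_centralizer_iff.mpr ?_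
            intro d hd
            exact hBc d (hD hd) a haB
          have h1 := card_sup_mul_card_inf D (Subgroup.zpowers a) hnorm
          have h2 : Nat.card (Subgroup.zpowers a) ≤ 2 := by
            rw [Nat.card_zpowers]
            apply Nat.le_of_dvd (by norm_num)
            apply orderOf_dvd_of_pow_eq_one
            rw [pow_two]; exact hB a haB
          have h3 : 0 < Nat.card ↥(D ⊓ Subgroup.zpowers a) := Nat.card_pos
          calc Nat.card ↥(D ⊔ Subgroup.zpowers a)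
              ≤ Nat.card ↥(D ⊔ Subgroup.zpowers a) * Nat.card ↥(D ⊓ Subgroup.zpowers a) :=
                Nat.le_mul_of_pos_right _ h3
            _ = Nat.card D * Nat.card (Subgroup.zpowers a) := h1
            _ ≤ Nat.card D * 2 := Nat.mul_le_mul_left _ h2
            _ = 2 * Nat.card D := Nat.mul_comm _ _
        have hD₁le : D ⊔ Subgroup.zpowers a ≤ Bb := sup_le hD (Subgroup.zpowers_le.mpr haB)
        have hD₁ne : D ⊔ Subgroup.zpowers a ≠ Bb := by
          intro h; rw [h] at hD₁card; omega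
        obtain ⟨b, hbB, hbD₁⟩ := SetLike.exists_of_lt (lt_of_le_of_ne hD₁le hD₁ne)
        have hbD : b ∉ D := fun h => hbD₁ (Subgroup.mem_sup_left h)
        have habB : a * b ∈ Bb := Bb.mul_mem haB hbB
        have habD : a * b ∉ D := by
          intro h
          apply hbD₁
          have h1 : b = a⁻¹ * (a * b) := by group
          rw [h1]
          exact Subgroup.mul_mem _
            (Subgroup.inv_mem _ (Subgroup.mem_sup_right (Subgroup.mem_zpowers a)))
            (Subgroup.mem_sup_left h)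
        have hab : a * b = b * a := hBc a haB b hbB
        rintro x ⟨hxK, hxC⟩
        have hxD : ∀ d ∈ D, d * x * d⁻¹ = x := by
          intro d hd
          have h0 := Subgroup.mem_centralizer_iff.mp hxC d hd
          rw [h0, mul_inv_cancel_right]
        obtain ⟨hxpK, hxmK, hxpa, hxma, hxpm⟩ := split_props hKc (hB a haB) hxK
        obtain ⟨xp, hxp⟩ : ∃ xp, xp = x * (a * x * a⁻¹) := ⟨_, rfl⟩
        obtain ⟨xm, hxm⟩ : ∃ xm, xm = x * (a * x * a⁻¹)⁻¹ := ⟨_, rfl⟩
        rw [← hxp] at hxpK hxpa hxpm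
        rw [← hxm] at hxmK hxma hxpm
        have hxpD : ∀ d ∈ D, d * xp * d⁻¹ = xp := by
          intro d hd
          rw [hxp]
          exact (split_fix (hBc d (hD hd) a haB) (hxD d hd)).1
        have hxmD : ∀ d ∈ D, d * xm * d⁻¹ = xm := by
          intro d hd
          rw [hxm]
          exact (split_fix (hBc d (hD hd) a haB) (hxD d hd)).2
        obtain ⟨h1K, h2K, h1b, h2b, h12⟩ := split_props hKc (hB b hbB) hxpK
        obtain ⟨h3K, h4K, h3b, h4b, h34⟩ := split_props hKc (hB b hbB) hxmK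
        have hy1 : xp * (b * xp * b⁻¹) ∈ Nb := by
          apply IH' b hbB hbD
          exact ⟨h1K, hmemC D b _
            (fun d hd => (split_fix (hBc d (hD hd) b hbB) (hxpD d hd)).1) h1b⟩
        have hy2 : xp * (b * xp * b⁻¹)⁻¹ ∈ Nb := by
          apply IH' a haB haD
          exact ⟨h2K, hmemC D a _
            (fun d hd => (split_fix (hBc d (hD hd) b hbB) (hxpD d hd)).2)
            (split_fix hab hxpa).2⟩
        have hy3 : xm * (b * xm * b⁻¹) ∈ Nb := by
          apply IH' b hbB hbD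
          exact ⟨h3K, hmemC D b _
            (fun d hd => (split_fix (hBc d (hD hd) b hbB) (hxmD d hd)).1) h3b⟩
        have hy4 : xm * (b * xm * b⁻¹)⁻¹ ∈ Nb := by
          apply IH' (a * b) habB habD
          refine ⟨h4K, hmemC D (a * b) _
            (fun d hd => (split_fix (hBc d (hD hd) b hbB) (hxmD d hd)).2) ?_⟩
          have hc4 : xm * (b * xm * b⁻¹) = (b * xm * b⁻¹) * xm :=
            hKc xm hxmK _ (hKn.conj_mem xm hxmK b)
          have ha4 := split_inv hab hxma hc4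
          calc (a * b) * (xm * (b * xm * b⁻¹)⁻¹) * (a * b)⁻¹
              = a * (b * (xm * (b * xm * b⁻¹)⁻¹) * b⁻¹) * a⁻¹ := by group
            _ = a * (xm * (b * xm * b⁻¹)⁻¹)⁻¹ * a⁻¹ := by rw [h4b]
            _ = (a * (xm * (b * xm * b⁻¹)⁻¹) * a⁻¹)⁻¹ := by group
            _ = xm * (b * xm * b⁻¹)⁻¹ := by rw [ha4, inv_inv]
        have hx4 : x ^ 4 ∈ Nb := by
          have hcomm : xp * xm = xm * xp := hKc xp hxpK xm hxmK
          have e : x ^ 4 = (xp * (b * xp * b⁻¹)) * (xp * (b * xp * b⁻¹)⁻¹) *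
              ((xm * (b * xm * b⁻¹)) * (xm * (b * xm * b⁻¹)⁻¹)) := by
            rw [h12, h34]
            calc x ^ 4 = (x * x) * (x * x) := by
                  rw [show (4 : ℕ) = 2 + 2 from rfl, pow_add, pow_two]
              _ = (xp * xm) * (xp * xm) := by rw [hxpm]
              _ = xp * (xm * xp) * xm := by group
              _ = xp * (xp * xm) * xm := by rw [hcomm]
              _ = xp * xp * (xm * xm) := by group
          rw [e]
          exact Nb.mul_mem (Nb.mul_mem hy1 hy2) (Nb.mul_mem hy3 hy4)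
        have hcop : Nat.Coprime 4 (orderOf x) := by
          have h2 : Nat.Coprime 2 (orderOf x) := Nat.coprime_two_left.mpr (hKodd x hxK)
          have h4 : Nat.Coprime (2 ^ 2) (orderOf x) := Nat.Coprime.pow_left 2 h2
          exact h4
        obtain ⟨m, hm⟩ := exists_pow_eq_self_of_coprime hcop
        rw [← hm]
        exact Nb.pow_mem hx4 m
  intro x hx
  apply key _ ⊥ bot_le rfl
  refine ⟨hx, Subgroup.mem_centralizer_iff.mpr ?_⟩
  intro h hh
  have hh' : h = 1 := Subgroup.mem_bot.mp hh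
  rw [hh', one_mul, mul_one]

end Gen

section Chain

variable {G : Type*} [Group G]

/-- the stabilizer of the chain `1 ≤ U ≤ V` (acting trivially on `U` and on `V/U`) -/
def chainStab (U V : Subgroup G) [hV : V.Normal] : Subgroup G where
  carrier := {g | (∀ u ∈ U, g * u * g⁻¹ = u) ∧ ∀ v ∈ V, g * v * g⁻¹ * v⁻¹ ∈ U}
  mul_mem' := by
    rintro g g' ⟨h1, h2⟩ ⟨h1', h2'⟩
    refine ⟨fun u hu => ?_, fun v hv => ?_⟩
    · calc g * g' * u * (g * g')⁻¹ = g * (g' * u * g'⁻¹) * g⁻¹ := by group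
        _ = u := by rw [h1' u hu, h1 u hu]
    · have e : g * g' * v * (g * g')⁻¹ * v⁻¹ =
          (g * (g' * v * g'⁻¹ * v⁻¹) * g⁻¹) * (g * v * g⁻¹ * v⁻¹) := by group
      rw [e, h1 _ (h2' v hv)]
      exact U.mul_mem (h2' v hv) (h2 v hv)
  one_mem' := ⟨fun u _ => by group, fun v _ => by
    have e : (1 : G) * v * 1⁻¹ * v⁻¹ = 1 := by group
    rw [e]; exact U.one_mem⟩
  inv_mem' := by
    rintro g ⟨h1, h2⟩
    refine ⟨fun u hu => ?_, fun v hv => ?_⟩
    · calc g⁻¹ * u * g⁻¹⁻¹ = g⁻¹ * (g * u * g⁻¹) * g := by rw [h1 u hu, inv_inv]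
        _ = u := by group
    · have hv' : g⁻¹ * v * g ∈ V := by
        have h0 := hV.conj_mem v hv g⁻¹
        rwa [inv_inv] at h0
      have h3 := h2 _ hv'
      have e : g⁻¹ * v * g⁻¹⁻¹ * v⁻¹ =
          (g * (g⁻¹ * v * g) * g⁻¹ * (g⁻¹ * v * g)⁻¹)⁻¹ := by group
      rw [e]
      exact U.inv_mem h3

theorem mem_chainStab {U V : Subgroup G} [hV : V.Normal] {g : G} :
    g ∈ chainStab U V ↔ (∀ u ∈ U, g * u * g⁻¹ = u) ∧ ∀ v ∈ V, g * v * g⁻¹ * v⁻¹ ∈ U :=
  Iff.rfl

theorem chainStab_conj {U V : Subgroup G} [hV : V.Normal] {k s : G}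
    (hk : k ∈ Subgroup.normalizer (U : Set G)) (hs : s ∈ chainStab U V) :
    k * s * k⁻¹ ∈ chainStab U V := by
  obtain ⟨h1, h2⟩ := mem_chainStab.mp hs
  refine mem_chainStab.mpr ⟨fun u hu => ?_, fun v hv => ?_⟩
  · have hu' : k⁻¹ * u * k ∈ U := (Subgroup.mem_normalizer_iff''.mp hk u).mp hu
    calc k * s * k⁻¹ * u * (k * s * k⁻¹)⁻¹ = k * (s * (k⁻¹ * u * k) * s⁻¹) * k⁻¹ := by group
      _ = u := by rw [h1 _ hu']; group
  · have hv' : k⁻¹ * v * k ∈ V := by
      have h0 := hV.conj_mem v hv k⁻¹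
      rwa [inv_inv] at h0
    have h3 := h2 _ hv'
    have e : k * s * k⁻¹ * v * (k * s * k⁻¹)⁻¹ * v⁻¹ =
        k * (s * (k⁻¹ * v * k) * s⁻¹ * (k⁻¹ * v * k)⁻¹) * k⁻¹ := by group
    rw [e]
    exact (Subgroup.mem_normalizer_iff.mp hk _).mp h3

theorem chainStab_sq {U V : Subgroup G} [hV : V.Normal] (hVexp : ∀ v ∈ V, v * v = 1)
    (hUV : U ≤ V) {s : G} (hs : s ∈ chainStab U V) :
    s * s ∈ Subgroup.centralizer (V : Set G) := by
  obtain ⟨h1, h2⟩ := mem_chainStab.mp hs
  refine Subgroup.mem_centralizer_iff.mpr ?_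
  intro v hv
  obtain ⟨c, hc⟩ : ∃ c, c = s * v * s⁻¹ * v⁻¹ := ⟨_, rfl⟩
  have hcU : c ∈ U := by rw [hc]; exact h2 v hv
  have hsc : s * c * s⁻¹ = c := h1 c hcU
  have hcc : c * c = 1 := hVexp c (hUV hcU)
  have e1 : s * v * s⁻¹ = c * v := by rw [hc]; group
  have e2 : (s * s) * v * (s * s)⁻¹ = v := by
    calc (s * s) * v * (s * s)⁻¹ = s * (s * v * s⁻¹) * s⁻¹ := by group
      _ = s * (c * v) * s⁻¹ := by rw [e1]
      _ = (s * c * s⁻¹) * (s * v * s⁻¹) := by group
      _ = c * (c * v) := by rw [hsc, e1]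
      _ = (c * c) * v := by group
      _ = v := by rw [hcc, one_mul]
  exact (mul_inv_eq_iff_eq_mul.mp e2).symm

theorem mem_of_sq_of_odd_pow (H : Subgroup G) {m : ℕ} (hm : m.Coprime 2) {c : G}
    (h2 : c * c ∈ H) (hcm : c ^ m ∈ H) : c ∈ H := by
  obtain ⟨j, hj⟩ := Nat.coprime_two_right.mp hm
  have e : c = ((c * c) ^ j)⁻¹ * c ^ m := by
    rw [hj, pow_succ, pow_mul, pow_two]; group
  rw [e]
  exact H.mul_mem (H.inv_mem (H.pow_mem h2 j)) hcm

end Chain

section Transvection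

variable {G : Type u} [Group G] [Finite G]

/-- in the final configuration for `p = 2`, a minimal quadratic offender has order `2`
modulo `O_2(G)`: there is a "transvection" `a` on `V₁`. -/
theorem th_transvection (P : Sylow 2 G) (V₁ K B : Subgroup G) [hV₁n : V₁.Normal]
    [hKn : K.Normal] (hV₁EA : IsElementaryAbelian 2 V₁)
    (hHC₁ : pCore 2 G ≤ Subgroup.centralizer (V₁ : Set G))
    (hC₁H : Subgroup.centralizer (V₁ : Set G) ≤ pCore 2 G)
    (hKi : ∃ a : ℕ, K.index = 2 ^ a) (hKK : ⁅K, K⁆ ≤ pCore 2 G)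
    (hKm : ∃ m : ℕ, m.Coprime 2 ∧ ∀ k ∈ K, k ^ m ∈ pCore 2 G)
    (hHB : pCore 2 G ≤ B) (hBP : B ≤ (P : Subgroup G)) (hBH : ¬ B ≤ pCore 2 G)
    (hquad : ∀ v ∈ V₁, ∀ b ∈ B, ∀ b' ∈ B,
      b' * (b * v * b⁻¹ * v⁻¹) * b'⁻¹ = b * v * b⁻¹ * v⁻¹)
    (hoff : Nat.card V₁ * Nat.card ↥(pCore 2 G) ≤
      Nat.card B * Nat.card ↥(V₁ ⊓ Subgroup.centralizer (B : Set G))) :
    ∃ a ∈ (P : Subgroup G), a ∉ pCore 2 G ∧ a * a ∈ pCore 2 G ∧
      Nat.card V₁ ≤ 2 * Nat.card ↥(V₁ ⊓ Subgroup.centralizer ({a} : Set G)) := by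
  classical
  haveI hHn : (pCore 2 G).Normal := pCore_normal' 2 G
  have hVexp : ∀ v ∈ V₁, v * v = 1 := fun v hv => by
    have h0 := (isEA_iff.mp hV₁EA).2 v hv
    rwa [pow_two] at h0
  have hsq : ∀ B' : Subgroup G, (∀ v ∈ V₁, ∀ b ∈ B', ∀ b' ∈ B',
      b' * (b * v * b⁻¹ * v⁻¹) * b'⁻¹ = b * v * b⁻¹ * v⁻¹) → ∀ b ∈ B', b * b ∈ pCore 2 G := by
    intro B' hq b hb
    apply hC₁H
    refine Subgroup.mem_centralizer_iff.mpr ?_
    intro v hv
    obtain ⟨c, hc⟩ : ∃ c, c = b * v * b⁻¹ * v⁻¹ := ⟨_, rfl⟩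
    have hcV : c ∈ V₁ := by
      rw [hc]; exact V₁.mul_mem (hV₁n.conj_mem v hv b) (V₁.inv_mem hv)
    have hbc : b * c * b⁻¹ = c := by rw [hc]; exact hq v hv b hb b hb
    have hcc := hVexp c hcV
    have e1 : b * v * b⁻¹ = c * v := by rw [hc]; group
    have e2 : (b * b) * v * (b * b)⁻¹ = v := by
      calc (b * b) * v * (b * b)⁻¹ = b * (b * v * b⁻¹) * b⁻¹ := by group
        _ = b * (c * v) * b⁻¹ := by rw [e1]
        _ = (b * c * b⁻¹) * (b * v * b⁻¹) := by group
        _ = c * (c * v) := by rw [hbc, e1]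
        _ = (c * c) * v := by group
        _ = v := by rw [hcc, one_mul]
    exact (mul_inv_eq_iff_eq_mul.mp e2).symm
  obtain ⟨B₀, hB₀mem, hmin⟩ := Set.exists_min_image
    {B' : Subgroup G | pCore 2 G ≤ B' ∧ B' ≤ (P : Subgroup G) ∧ ¬ B' ≤ pCore 2 G ∧
      (∀ v ∈ V₁, ∀ b ∈ B', ∀ b' ∈ B',
        b' * (b * v * b⁻¹ * v⁻¹) * b'⁻¹ = b * v * b⁻¹ * v⁻¹) ∧
      Nat.card V₁ * Nat.card ↥(pCore 2 G) ≤
        Nat.card B' * Nat.card ↥(V₁ ⊓ Subgroup.centralizer (B' : Set G))}
    (fun B' => Nat.card B') (Set.toFinite _) ⟨B, hHB, hBP, hBH, hquad, hoff⟩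
  obtain ⟨hHB₀, hB₀P, hB₀H, hq₀, hoff₀⟩ := hB₀mem
  have hHpos : 0 < Nat.card ↥(pCore 2 G) := Nat.card_pos
  by_cases hcase : Nat.card B₀ ≤ 2 * Nat.card ↥(pCore 2 G)
  · obtain ⟨a, haB, haH⟩ := SetLike.not_le_iff_exists.mp hB₀H
    refine ⟨a, hB₀P haB, haH, hsq B₀ hq₀ a haB, ?_⟩
    have h1 : Nat.card ↥(V₁ ⊓ Subgroup.centralizer (B₀ : Set G)) ≤
        Nat.card ↥(V₁ ⊓ Subgroup.centralizer ({a} : Set G)) := by
      apply Subgroup.card_le_of_le
      exact inf_le_inf_left _ (Subgroup.centralizer_le (Set.singleton_subset_iff.mpr haB))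
    have h2 : Nat.card V₁ * Nat.card ↥(pCore 2 G) ≤
        (2 * Nat.card ↥(V₁ ⊓ Subgroup.centralizer ({a} : Set G))) * Nat.card ↥(pCore 2 G) := by
      calc Nat.card V₁ * Nat.card ↥(pCore 2 G)
          ≤ Nat.card B₀ * Nat.card ↥(V₁ ⊓ Subgroup.centralizer (B₀ : Set G)) := hoff₀
        _ ≤ (2 * Nat.card ↥(pCore 2 G)) *
              Nat.card ↥(V₁ ⊓ Subgroup.centralizer ({a} : Set G)) := Nat.mul_le_mul hcase h1
        _ = (2 * Nat.card ↥(V₁ ⊓ Subgroup.centralizer ({a} : Set G))) *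
              Nat.card ↥(pCore 2 G) := by ring
    exact Nat.le_of_mul_le_mul_right h2 hHpos
  · exfalso
    push Not at hcase
    obtain ⟨U, hUdef⟩ : ∃ U : Subgroup G, U = V₁ ⊓ Subgroup.centralizer (B₀ : Set G) :=
      ⟨_, rfl⟩
    rw [← hUdef] at hoff₀
    have hUV : U ≤ V₁ := by rw [hUdef]; exact inf_le_left
    have hUmem : ∀ u ∈ U, ∀ b ∈ B₀, b * u * b⁻¹ = u := by
      intro u hu b hb
      rw [hUdef] at hu
      have h0 := Subgroup.mem_centralizer_iff.mp hu.2 b hb
      rw [h0, mul_inv_cancel_right]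
    have hM3 : ∀ B' : Subgroup G, pCore 2 G ≤ B' → B' ≤ B₀ →
        Nat.card B₀ ≤ 2 * Nat.card B' → V₁ ⊓ Subgroup.centralizer (B' : Set G) = U := by
      intro B' hHB' hB'B hcard
      have hUle : U ≤ V₁ ⊓ Subgroup.centralizer (B' : Set G) := by
        rw [hUdef]
        exact inf_le_inf_left _ (Subgroup.centralizer_le (SetLike.coe_subset_coe.mpr hB'B))
      by_cases heq : Nat.card B' = Nat.card B₀
      · have h0 : B' = B₀ := Subgroup.eq_of_le_of_card_ge hB'B (le_of_eq heq.symm)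
        rw [h0, hUdef]
      · have hlt : Nat.card B' < Nat.card B₀ :=
          lt_of_le_of_ne (Subgroup.card_le_of_le hB'B) heq
        have hnot : Nat.card B' * Nat.card ↥(V₁ ⊓ Subgroup.centralizer (B' : Set G)) <
            Nat.card V₁ * Nat.card ↥(pCore 2 G) := by
          by_contra hoff'
          push Not at hoff'
          have hB'H : ¬ B' ≤ pCore 2 G := by
            intro h
            have h0 := Subgroup.card_le_of_le h
            omega
          have h0 := hmin B' ⟨hHB', hB'B.trans hB₀P, hB'H,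
            fun v hv b hb b' hb' => hq₀ v hv b (hB'B hb) b' (hB'B hb'), hoff'⟩
          omega
        have hdvd : Nat.card U ∣ Nat.card ↥(V₁ ⊓ Subgroup.centralizer (B' : Set G)) :=
          Subgroup.card_dvd_of_le hUle
        have hUpos : 0 < Nat.card U := Nat.card_pos
        have hc'pos : 0 < Nat.card ↥(V₁ ⊓ Subgroup.centralizer (B' : Set G)) := Nat.card_pos
        have hlt2 : Nat.card ↥(V₁ ⊓ Subgroup.centralizer (B' : Set G)) < 2 * Nat.card U := by
          have h1 : Nat.card B₀ * Nat.card ↥(V₁ ⊓ Subgroup.centralizer (B' : Set G)) <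
              Nat.card B₀ * (2 * Nat.card U) := by
            calc Nat.card B₀ * Nat.card ↥(V₁ ⊓ Subgroup.centralizer (B' : Set G))
                ≤ (2 * Nat.card B') * Nat.card ↥(V₁ ⊓ Subgroup.centralizer (B' : Set G)) :=
                  Nat.mul_le_mul_right _ hcard
              _ = 2 * (Nat.card B' * Nat.card ↥(V₁ ⊓ Subgroup.centralizer (B' : Set G))) := by
                  ring
              _ < 2 * (Nat.card V₁ * Nat.card ↥(pCore 2 G)) := by linarith
              _ ≤ 2 * (Nat.card B₀ * Nat.card U) := by linarith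
              _ = Nat.card B₀ * (2 * Nat.card U) := by ring
          exact lt_of_mul_lt_mul_left h1 (Nat.zero_le _)
        obtain ⟨j, hj⟩ := hdvd
        have hj0 : j ≠ 0 := by
          rintro rfl
          rw [mul_zero] at hj
          omega
        have hj2 : j < 2 := by
          by_contra h
          push Not at h
          have h0 := Nat.mul_le_mul_left (Nat.card U) h
          omega
        have hj1 : j = 1 := by omega
        rw [hj1, mul_one] at hj
        exact (Subgroup.eq_of_le_of_card_ge hUle (le_of_eq hj)).symm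
    have hKN : K ≤ Subgroup.normalizer (U : Set G) := by
      obtain ⟨m, hm, hKm'⟩ := hKm
      haveI hKbn : (K.map (QuotientGroup.mk' (pCore 2 G))).Normal :=
        Subgroup.Normal.map hKn _ (QuotientGroup.mk'_surjective _)
      have hKbc : commP (K.map (QuotientGroup.mk' (pCore 2 G))) := by
        rintro _ ⟨k, hk, rfl⟩ _ ⟨k', hk', rfl⟩
        have h1 : ⁅k, k'⁆ ∈ pCore 2 G := hKK (Subgroup.commutator_mem_commutator hk hk')
        have h2 : QuotientGroup.mk' (pCore 2 G) ⁅k, k'⁆ = 1 :=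
          (QuotientGroup.eq_one_iff _).mpr h1
        rw [map_commutatorElement, commutatorElement_eq_one_iff_mul_comm] at h2
        exact h2
      have hKbodd : ∀ x ∈ K.map (QuotientGroup.mk' (pCore 2 G)), Odd (orderOf x) := by
        rintro _ ⟨k, hk, rfl⟩
        have h1 : (QuotientGroup.mk' (pCore 2 G) k) ^ m = 1 := by
          rw [← map_pow]; exact (QuotientGroup.eq_one_iff _).mpr (hKm' k hk)
        exact (Nat.coprime_two_right.mp hm).of_dvd_nat (orderOf_dvd_of_pow_eq_one h1)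
      have hBb : ∀ x ∈ B₀.map (QuotientGroup.mk' (pCore 2 G)), x * x = 1 := by
        rintro _ ⟨b, hb, rfl⟩
        rw [← map_mul]; exact (QuotientGroup.eq_one_iff _).mpr (hsq B₀ hq₀ b hb)
      have hgen := gen_of_hyperplanes (K.map (QuotientGroup.mk' (pCore 2 G)))
        (B₀.map (QuotientGroup.mk' (pCore 2 G)))
        ((Subgroup.normalizer (U : Set G)).map (QuotientGroup.mk' (pCore 2 G)))
        hKbc hKbodd hBb ?_
      · intro k hk
        obtain ⟨n, hn, hnk⟩ := hgen (Subgroup.mem_map_of_mem _ hk)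
        have h1 : n⁻¹ * k ∈ pCore 2 G := QuotientGroup.eq.mp hnk
        have h2 : n⁻¹ * k ∈ Subgroup.normalizer (U : Set G) := by
          apply fin_mem_normalizer
          intro u hu
          have h0 := Subgroup.mem_centralizer_iff.mp (hHC₁ h1) u (hUV hu)
          rw [← h0, mul_inv_cancel_right]; exact hu
        have h3 : k = n * (n⁻¹ * k) := by group
        rw [h3]; exact Subgroup.mul_mem _ hn h2
      · intro D hD hcardD
        have hB'B : D.comap (QuotientGroup.mk' (pCore 2 G)) ≤ B₀ := by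
          intro g hg
          obtain ⟨b, hb, hbg⟩ := hD (Subgroup.mem_comap.mp hg)
          have h1 : b⁻¹ * g ∈ pCore 2 G := QuotientGroup.eq.mp hbg
          have h2 : g = b * (b⁻¹ * g) := by group
          rw [h2]; exact B₀.mul_mem hb (hHB₀ h1)
        have hHB' : pCore 2 G ≤ D.comap (QuotientGroup.mk' (pCore 2 G)) := by
          intro h hh
          have h1 : QuotientGroup.mk' (pCore 2 G) h = 1 := (QuotientGroup.eq_one_iff h).mpr hh
          rw [Subgroup.mem_comap, h1]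
          exact D.one_mem
        have hcB' : Nat.card ↥(D.comap (QuotientGroup.mk' (pCore 2 G))) =
            Nat.card D * Nat.card ↥(pCore 2 G) := card_comap_mk' _ D
        have hcB₀ : Nat.card B₀ = Nat.card ↥(B₀.map (QuotientGroup.mk' (pCore 2 G))) *
            Nat.card ↥(pCore 2 G) := by
          rw [← card_comap_mk' (pCore 2 G) (B₀.map (QuotientGroup.mk' (pCore 2 G))),
            Subgroup.comap_map_eq_self (by rw [QuotientGroup.ker_mk']; exact hHB₀)]
        have hcard' : Nat.card B₀ ≤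
            2 * Nat.card ↥(D.comap (QuotientGroup.mk' (pCore 2 G))) := by
          rw [hcB₀, hcB']
          calc Nat.card ↥(B₀.map (QuotientGroup.mk' (pCore 2 G))) * Nat.card ↥(pCore 2 G)
              ≤ (2 * Nat.card D) * Nat.card ↥(pCore 2 G) := Nat.mul_le_mul_right _ hcardD
            _ = 2 * (Nat.card D * Nat.card ↥(pCore 2 G)) := by ring
        have hUeq := hM3 _ hHB' hB'B hcard'
        rintro _ ⟨⟨k, hk, rfl⟩, hxC⟩
        refine Subgroup.mem_map_of_mem _ ?_
        apply fin_mem_normalizer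
        intro u hu
        have huV : u ∈ V₁ := hUV hu
        have hgoal : k * u * k⁻¹ ∈ V₁ ⊓ Subgroup.centralizer
            ((D.comap (QuotientGroup.mk' (pCore 2 G)) : Subgroup G) : Set G) := by
          refine ⟨hV₁n.conj_mem u huV k, Subgroup.mem_centralizer_iff.mpr ?_⟩
          intro b hb
          have h1 := Subgroup.mem_centralizer_iff.mp hxC _ (Subgroup.mem_comap.mp hb)
          have h2' : QuotientGroup.mk' (pCore 2 G) (k * b) =
              QuotientGroup.mk' (pCore 2 G) (b * k) := by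
            rw [map_mul, map_mul]; exact h1.symm
          have h2 : (k * b)⁻¹ * (b * k) ∈ pCore 2 G := QuotientGroup.eq.mp h2'
          obtain ⟨h, hh⟩ : ∃ h, h = (k * b)⁻¹ * (b * k) := ⟨_, rfl⟩
          rw [← hh] at h2
          have hhu : h * u * h⁻¹ = u := by
            have h0 := Subgroup.mem_centralizer_iff.mp (hHC₁ h2) u huV
            rw [← h0, mul_inv_cancel_right]
          have hbu : b * u * b⁻¹ = u := by
            have hu' : u ∈ V₁ ⊓ Subgroup.centralizer
                ((D.comap (QuotientGroup.mk' (pCore 2 G)) : Subgroup G) : Set G) := by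
              rw [hUeq]; exact hu
            have h0 := Subgroup.mem_centralizer_iff.mp hu'.2 b hb
            rw [h0, mul_inv_cancel_right]
          have e : b * (k * u * k⁻¹) * b⁻¹ = k * (b * (h * u * h⁻¹) * b⁻¹) * k⁻¹ := by
            rw [hh]; group
          rw [hhu, hbu] at e
          exact mul_inv_eq_iff_eq_mul.mp e
        rw [hUeq] at hgoal
        exact hgoal
    have hB₀S : B₀ ≤ chainStab U V₁ := by
      intro b hb
      refine mem_chainStab.mpr ⟨fun u hu => hUmem u hu b hb, fun v hv => ?_⟩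
      rw [hUdef]
      refine ⟨V₁.mul_mem (hV₁n.conj_mem v hv b) (V₁.inv_mem hv),
        Subgroup.mem_centralizer_iff.mpr ?_⟩
      intro b' hb'
      exact mul_inv_eq_iff_eq_mul.mp (hq₀ v hv b hb b' hb')
    have hcomm : ∀ b ∈ B₀, ∀ k ∈ K, b * k * b⁻¹ * k⁻¹ ∈ pCore 2 G := by
      intro b hb k hk
      obtain ⟨m, hm, hKm'⟩ := hKm
      have hbS : b ∈ chainStab U V₁ := hB₀S hb
      have hkbS : k * b⁻¹ * k⁻¹ ∈ chainStab U V₁ :=
        chainStab_conj (hKN hk) (Subgroup.inv_mem _ hbS)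
      have hcS : b * (k * b⁻¹ * k⁻¹) ∈ chainStab U V₁ := Subgroup.mul_mem _ hbS hkbS
      have hcK : b * (k * b⁻¹ * k⁻¹) ∈ K := by
        have h1 : b * (k * b⁻¹ * k⁻¹) = (b * k * b⁻¹) * k⁻¹ := by group
        rw [h1]; exact K.mul_mem (hKn.conj_mem k hk b) (K.inv_mem hk)
      have hc2 : (b * (k * b⁻¹ * k⁻¹)) * (b * (k * b⁻¹ * k⁻¹)) ∈ pCore 2 G :=
        hC₁H (chainStab_sq hVexp hUV hcS)
      have hcm := hKm' _ hcK
      have e : b * k * b⁻¹ * k⁻¹ = b * (k * b⁻¹ * k⁻¹) := by group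
      rw [e]
      exact mem_of_sq_of_odd_pow (pCore 2 G) hm hc2 hcm
    apply hB₀H
    intro b hb
    obtain ⟨a, hKi'⟩ := hKi
    obtain ⟨j, hj⟩ := (P.isPGroup'.to_le hB₀P) ⟨b, hb⟩
    have hbj : b ^ (2 ^ j) = 1 := congrArg Subtype.val hj
    exact mem_pCore_of_comm K hKi' b hbj (hcomm b hb)

end Transvection

end Cfsg.Agent.Lib.Helper3
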