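import Cfsg.Agent.Lib.Helper3.GT10
import Cfsg.Prelude.Def_LocalEven
import Mathlib.GroupTheory.GroupAction.Quotient
import Mathlib.Data.Finite.Perm

set_option autoImplicit false
set_option linter.style.haveILetI false

namespace Cfsg.Agent.Lib.Helper3

open Cfsg
open scoped commutatorElement

universe u v

section Involves

variable {H : Type u} [Group H] {G : Type v} [Group G]

theorem involves_of_surj (K : Subgroup G) (f : ↥K →* H) (hf : Function.Surjective f) :
    Involves H G := by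
  have hR : (f.ker.map K.subtype).subgroupOf K = f.ker :=
    Subgroup.comap_map_eq_self_of_injective K.subtype_injective _
  haveI hn : ((f.ker.map K.subtype).subgroupOf K).Normal := by rw [hR]; infer_instance
  exact ⟨K, f.ker.map K.subtype, hn,
    ⟨(QuotientGroup.quotientMulEquivOfEq hR).trans
      (QuotientGroup.quotientKerEquivOfSurjective f hf)⟩⟩

theorem exists_surj_of_involves (h : Involves H G) :
    ∃ (K : Subgroup G) (f : ↥K →* H), Function.Surjective f := by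
  obtain ⟨K, R, hn, ⟨e⟩⟩ := h
  haveI := hn
  refine ⟨K, e.toMonoidHom.comp (QuotientGroup.mk' (R.subgroupOf K)), ?_⟩
  exact e.surjective.comp (QuotientGroup.mk'_surjective _)

theorem involves_of_subgroup (M : Subgroup G) (h : Involves H ↥M) : Involves H G := by
  obtain ⟨K', f', hf'⟩ := exists_surj_of_involves h
  let φ : ↥K' ≃* ↥(K'.map M.subtype) := K'.equivMapOfInjective M.subtype M.subtype_injective
  exact involves_of_surj (K'.map M.subtype) (f'.comp φ.symm.toMonoidHom)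
    (hf'.comp φ.symm.surjective)

theorem involves_of_quotient (L : Subgroup G) [L.Normal] (h : Involves H (G ⧸ L)) :
    Involves H G := by
  obtain ⟨K', f', hf'⟩ := exists_surj_of_involves h
  exact involves_of_surj (K'.comap (QuotientGroup.mk' L))
    (f'.comp ((QuotientGroup.mk' L).subgroupComap K'))
    (hf'.comp (MonoidHom.subgroupComap_surjective_of_surjective _ _
      (QuotientGroup.mk'_surjective L)))

end Involves

section S4

variable {G : Type u} [Group G] [Finite G]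

/-- recognition of a section isomorphic to the symmetric group of degree 4 -/
theorem involves_S4_of_config (W S : Subgroup G) (t b : G)
    (hW4 : Nat.card W = 4) (hSW : S ≤ Subgroup.normalizer (W : Set G)) (hWS : S ⊓ W = ⊥)
    (ht : t ∈ S) (hb : b ∈ S) (ht3 : t ^ 3 = 1)
    (htf : ∀ w ∈ W, t * w * t⁻¹ = w → w = 1)
    (hb2 : b * b ∈ Subgroup.centralizer (W : Set G))
    (hbW : ∃ w ∈ W, b * w * b⁻¹ ≠ w) :
    Involves (Equiv.Perm (Fin 4)) G := by
  classical
  obtain ⟨K₀, hK₀⟩ : ∃ K₀ : Subgroup G, K₀ = S ⊔ W := ⟨_, rfl⟩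
  have hSK : S ≤ K₀ := by rw [hK₀]; exact le_sup_left
  have hWK : W ≤ K₀ := by rw [hK₀]; exact le_sup_right
  -- every element of K₀ is `w * s`
  have hdecomp : ∀ g ∈ K₀, ∃ w ∈ W, ∃ s ∈ S, g = w * s := by
    intro g hg
    rw [hK₀] at hg
    have hg' : g ∈ ((S ⊔ W : Subgroup G) : Set G) := hg
    rw [Subgroup.coe_mul_of_left_le_normalizer_right _ _ hSW] at hg'
    obtain ⟨s, hs, w, hw, rfl⟩ := hg'
    refine ⟨s * w * s⁻¹, (Subgroup.mem_normalizer_iff.mp (hSW hs) w).mp hw, s, hs, ?_⟩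
    group
  -- a commutator criterion
  have hkey : ∀ x ∈ S, ∀ w ∈ W, w * x * w⁻¹ ∈ S → x * w * x⁻¹ = w := by
    intro x hx w hw h
    have h1 : w * x * w⁻¹ * x⁻¹ ∈ S := S.mul_mem h (S.inv_mem hx)
    have h2 : w * x * w⁻¹ * x⁻¹ ∈ W := by
      have h3 : w * x * w⁻¹ * x⁻¹ = w * (x * w⁻¹ * x⁻¹) := by group
      rw [h3]
      exact W.mul_mem hw ((Subgroup.mem_normalizer_iff.mp (hSW hx) w⁻¹).mp (W.inv_mem hw))
    have h4 : w * x * w⁻¹ * x⁻¹ ∈ S ⊓ W := ⟨h1, h2⟩
    rw [hWS, Subgroup.mem_bot] at h4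
    have h5 : x * w * x⁻¹ = (w * x * w⁻¹ * x⁻¹)⁻¹ * w := by group
    rw [h5, h4, inv_one, one_mul]
  -- the coset action
  let f : ↥K₀ →* Equiv.Perm (↥K₀ ⧸ S.subgroupOf K₀) :=
    MulAction.toPermHom ↥K₀ (↥K₀ ⧸ S.subgroupOf K₀)
  have hker : f.ker = (S.subgroupOf K₀).normalCore := (Subgroup.normalCore_eq_ker _).symm
  have hmemker : ∀ x : ↥K₀, x ∈ f.ker ↔ ∀ g : ↥K₀, (g : G) * (x : G) * (g : G)⁻¹ ∈ S := by
    intro x
    rw [hker]
    constructor
    · intro h g
      exact Subgroup.mem_subgroupOf.mp (h g)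
    · intro h g
      exact Subgroup.mem_subgroupOf.mpr (h g)
  -- index
  have hidx : (S.subgroupOf K₀).index = 4 := by
    have h1 := card_sup_mul_card_inf S W hSW
    rw [hWS, Subgroup.card_bot, mul_one, ← hK₀, hW4] at h1
    have h2 := card_eq_mul_relIndex hSK
    rw [h1] at h2
    have hpos : 0 < Nat.card S := Nat.card_pos
    exact (Nat.eq_of_mul_eq_mul_left hpos h2).symm
  have hcardQ : Nat.card (↥K₀ ⧸ S.subgroupOf K₀) = 4 := hidx
  -- the order of the image
  have hrange : Nat.card f.range = Nat.card ↥((S.subgroupOf K₀).map f) * 4 := by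
    have hle : f.ker ≤ S.subgroupOf K₀ := by rw [hker]; exact Subgroup.normalCore_le _
    rw [← Subgroup.index_ker, ← Subgroup.relIndex_mul_index hle, Subgroup.relIndex_ker, hidx]
  -- elements of order 3 and 2
  have ht' : (⟨t, hSK ht⟩ : ↥K₀) ∈ S.subgroupOf K₀ := Subgroup.mem_subgroupOf.mpr ht
  have hb' : (⟨b, hSK hb⟩ : ↥K₀) ∈ S.subgroupOf K₀ := Subgroup.mem_subgroupOf.mpr hb
  have hWne : ∃ w ∈ W, w ≠ 1 := by
    by_contra hcon
    push Not at hcon
    have : W = ⊥ := (Subgroup.eq_bot_iff_forall W).mpr hcon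
    rw [this, Subgroup.card_bot] at hW4
    omega
  have h3 : 3 ∣ Nat.card ↥((S.subgroupOf K₀).map f) := by
    have hne : f ⟨t, hSK ht⟩ ≠ 1 := by
      intro h
      have h1 : (⟨t, hSK ht⟩ : ↥K₀) ∈ f.ker := h
      rw [hmemker] at h1
      obtain ⟨w, hw, hw1⟩ := hWne
      have h2 := h1 ⟨w, hWK hw⟩
      exact hw1 (htf w hw (hkey t ht w hw h2))
    have hpow : (f ⟨t, hSK ht⟩) ^ 3 = 1 := by
      rw [← map_pow]
      have : (⟨t, hSK ht⟩ : ↥K₀) ^ 3 = 1 := Subtype.ext ht3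
      rw [this, map_one]
    haveI : Fact (Nat.Prime 3) := ⟨by norm_num⟩
    have hord : orderOf (f ⟨t, hSK ht⟩) = 3 := orderOf_eq_prime hpow hne
    have hmem : f ⟨t, hSK ht⟩ ∈ (S.subgroupOf K₀).map f := Subgroup.mem_map_of_mem f ht'
    have hdvd := orderOf_dvd_natCard (⟨f ⟨t, hSK ht⟩, hmem⟩ : ↥((S.subgroupOf K₀).map f))
    rw [Subgroup.orderOf_mk, hord] at hdvd
    exact hdvd
  have h2 : 2 ∣ Nat.card ↥((S.subgroupOf K₀).map f) := by
    have hne : f ⟨b, hSK hb⟩ ≠ 1 := by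
      intro h
      have h1 : (⟨b, hSK hb⟩ : ↥K₀) ∈ f.ker := h
      rw [hmemker] at h1
      obtain ⟨w, hw, hwb⟩ := hbW
      have h2 := h1 ⟨w, hWK hw⟩
      exact hwb (hkey b hb w hw h2)
    have hpow : (f ⟨b, hSK hb⟩) ^ 2 = 1 := by
      rw [← map_pow]
      have hmem : (⟨b, hSK hb⟩ : ↥K₀) ^ 2 ∈ f.ker := by
        rw [hmemker]
        intro g
        obtain ⟨w, hw, s, hs, hg⟩ := hdecomp (g : G) g.2
        have hbb : ((⟨b, hSK hb⟩ : ↥K₀) ^ 2 : ↥K₀) = (⟨b * b, K₀.mul_mem (hSK hb) (hSK hb)⟩ : ↥K₀) :=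
          Subtype.ext (pow_two b)
        rw [hbb]
        show (g : G) * (b * b) * (g : G)⁻¹ ∈ S
        rw [hg]
        have hc : s * (b * b) * s⁻¹ ∈ Subgroup.centralizer (W : Set G) := by
          refine Subgroup.mem_centralizer_iff.mpr ?_
          intro w' hw'
          have hw'' : s⁻¹ * w' * s ∈ W := (Subgroup.mem_normalizer_iff''.mp (hSW hs) w').mp hw'
          have h0 := Subgroup.mem_centralizer_iff.mp hb2 _ hw''
          calc w' * (s * (b * b) * s⁻¹) = s * ((s⁻¹ * w' * s) * (b * b)) * s⁻¹ := by group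
            _ = s * ((b * b) * (s⁻¹ * w' * s)) * s⁻¹ := by rw [h0]
            _ = s * (b * b) * s⁻¹ * w' := by group
        have h0 := Subgroup.mem_centralizer_iff.mp hc w hw
        have e : w * s * (b * b) * (w * s)⁻¹ = (w * (s * (b * b) * s⁻¹)) * w⁻¹ := by group
        rw [e, h0, mul_inv_cancel_right]
        exact S.mul_mem (S.mul_mem hs (S.mul_mem hb hb)) (S.inv_mem hs)
      exact hmem
    haveI : Fact (Nat.Prime 2) := ⟨by norm_num⟩
    have hord : orderOf (f ⟨b, hSK hb⟩) = 2 := orderOf_eq_prime hpow hne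
    have hmem : f ⟨b, hSK hb⟩ ∈ (S.subgroupOf K₀).map f := Subgroup.mem_map_of_mem f hb'
    have hdvd := orderOf_dvd_natCard (⟨f ⟨b, hSK hb⟩, hmem⟩ : ↥((S.subgroupOf K₀).map f))
    rw [Subgroup.orderOf_mk, hord] at hdvd
    exact hdvd
  have h6 : 6 ∣ Nat.card ↥((S.subgroupOf K₀).map f) :=
    Nat.Coprime.mul_dvd_of_dvd_of_dvd (by norm_num : Nat.Coprime 2 3) h2 h3
  have hperm : Nat.card (Equiv.Perm (↥K₀ ⧸ S.subgroupOf K₀)) = 24 := by
    rw [Nat.card_perm, hcardQ]; rfl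
  have hsurj : Function.Surjective f := by
    rw [← MonoidHom.range_eq_top]
    apply Subgroup.eq_top_of_card_eq
    rw [hperm]
    have hdvd : Nat.card f.range ∣ 24 := by
      rw [← hperm]; exact Subgroup.card_subgroup_dvd_card _
    obtain ⟨j, hj⟩ := h6
    rw [hrange, hj] at hdvd ⊢
    have hjpos : 0 < j := by
      rcases Nat.eq_zero_or_pos j with h | h
      · rw [h] at hdvd; simp at hdvd
      · exact h
    have := Nat.le_of_dvd (by norm_num) hdvd
    omega
  haveI : Fintype (↥K₀ ⧸ S.subgroupOf K₀) := Fintype.ofFinite _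
  have hcardQ' : Fintype.card (↥K₀ ⧸ S.subgroupOf K₀) = 4 := by
    rw [← Nat.card_eq_fintype_card]; exact hcardQ
  let e : Equiv.Perm (↥K₀ ⧸ S.subgroupOf K₀) ≃* Equiv.Perm (Fin 4) :=
    (Fintype.equivFinOfCardEq hcardQ').permCongrHom
  exact involves_of_surj K₀ (e.toMonoidHom.comp f) (e.surjective.comp hsurj)

end S4

end Cfsg.Agent.Lib.Helper3
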