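import Cfsg.Agent.Lib.Helper3.GT11

/-! Thompson's normal `p`-complement theorem for `J_a`, including `p = 2` for groups not
involving the symmetric group of degree 4: a transvection on `V₁` produces such a section. -/

namespace Cfsg.Agent.Lib.Helper3

open Cfsg
open scoped commutatorElement

universe u

section SylowIn

variable {G : Type*} [Group G]

theorem isPGroup_zpowers_of_pow {x : G} {p j : ℕ} (hx : x ^ (p ^ j) = 1) :
    IsPGroup p ↥(Subgroup.zpowers x) := by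
  rintro ⟨y, hy⟩
  obtain ⟨n, rfl⟩ := Subgroup.mem_zpowers_iff.mp hy
  refine ⟨j, Subtype.ext ?_⟩
  show (x ^ n) ^ (p ^ j) = 1
  rw [← zpow_natCast, ← zpow_mul, mul_comm, zpow_mul, zpow_natCast, hx, one_zpow]

/-- conjugacy of a `q`-subgroup into a `q`-subgroup of `q'`-index, inside a subgroup `M` -/
theorem exists_conj_of_sylow_in [Finite G] {q : ℕ} [Fact q.Prime] (M Q₁ Q₂ : Subgroup G)
    (h₁ : Q₁ ≤ M) (_h₂ : Q₂ ≤ M) (hq₁ : IsPGroup q Q₁) (hq₂ : IsPGroup q Q₂)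
    (hidx : ¬ q ∣ Q₂.relIndex M) : ∃ m ∈ M, ∀ x ∈ Q₁, m * x * m⁻¹ ∈ Q₂ := by
  have hq₂' : IsPGroup q ↥(Q₂.subgroupOf M) := hq₂.comap_subtype
  have hq₁' : IsPGroup q ↥(Q₁.subgroupOf M) := hq₁.comap_subtype
  obtain ⟨m, -, hm⟩ :=
    exists_conj_le_sylow_of_le (hq₂'.toSylow hidx) (M := ⊤) le_top le_top hq₁'
  refine ⟨m.1, m.2, fun x hx => ?_⟩
  have h3 := hm ⟨x, h₁ hx⟩ (Subgroup.mem_subgroupOf.mpr hx)
  exact Subgroup.mem_subgroupOf.mp h3

theorem comm_prod3 {x y z : G} (hxy : x * y = y * x) (hxz : x * z = z * x)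
    (hyz : y * z = z * y) : (y * x⁻¹) * (z * y⁻¹) * (x * z⁻¹) = 1 := by
  have h1 : x⁻¹ * z = z * x⁻¹ := (Commute.inv_left (show Commute x z from hxz)).eq
  have h2 : x⁻¹ * y⁻¹ = y⁻¹ * x⁻¹ := (Commute.inv_inv (show Commute x y from hxy)).eq
  calc (y * x⁻¹) * (z * y⁻¹) * (x * z⁻¹) = y * (x⁻¹ * z) * y⁻¹ * x * z⁻¹ := by group
    _ = y * z * (x⁻¹ * y⁻¹) * x * z⁻¹ := by rw [h1]; group
    _ = (y * z) * y⁻¹ * z⁻¹ := by rw [h2]; group
    _ = 1 := by rw [hyz]; group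

theorem quot_inv_calc {α κ : G} (hαα : α * α = 1) :
    α * (α * κ * α⁻¹ * κ⁻¹) * α⁻¹ = (α * κ * α⁻¹ * κ⁻¹)⁻¹ := by
  have hαinv : α⁻¹ = α := inv_eq_of_mul_eq_one_left hαα
  calc α * (α * κ * α⁻¹ * κ⁻¹) * α⁻¹ = (α * α) * κ * α⁻¹ * κ⁻¹ * α⁻¹ := by group
    _ = κ * α⁻¹ * κ⁻¹ * α⁻¹ := by rw [hαα, one_mul]
    _ = κ * α * κ⁻¹ * α⁻¹ := by rw [hαinv]
    _ = (α * κ * α⁻¹ * κ⁻¹)⁻¹ := by group

end SylowIn

section S4

variable {G : Type u} [Group G] [Finite G]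

/-- a transvection on `V₁` in the final configuration of Thompson's argument for `p = 2`
produces a section isomorphic to the symmetric group of degree 4 -/
theorem th_S4_of_transvection (P : Sylow 2 G) (V₁ K : Subgroup G) [hV₁n : V₁.Normal]
    [hKn : K.Normal] (hV₁EA : IsElementaryAbelian 2 V₁) (hV₁H : V₁ ≤ pCore 2 G)
    (hHC₁ : pCore 2 G ≤ Subgroup.centralizer (V₁ : Set G))
    (hC₁H : Subgroup.centralizer (V₁ : Set G) ≤ pCore 2 G)
    (hHK : pCore 2 G ≤ K)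
    (hKi : ∃ a : ℕ, K.index = 2 ^ a)
    (hKm : ∃ m : ℕ, m.Coprime 2 ∧ ∀ k ∈ K, k ^ m ∈ pCore 2 G)
    (a : G) (haP : a ∈ (P : Subgroup G)) (haH : a ∉ pCore 2 G) (haa : a * a ∈ pCore 2 G)
    (hatr : Nat.card V₁ ≤ 2 * Nat.card ↥(V₁ ⊓ Subgroup.centralizer ({a} : Set G))) :
    Involves (Equiv.Perm (Fin 4)) G := by
  classical
  have hHn : (pCore 2 G).Normal := pCore_normal' 2 G
  have hHp : IsPGroup 2 ↥(pCore 2 G) := pCore_isPGroup' 2 G
  obtain ⟨a₀, hKi⟩ := hKi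
  obtain ⟨m, hm, hKm⟩ := hKm
  have hVexp : ∀ v ∈ V₁, v * v = 1 := fun v hv => by
    have h0 := (isEA_iff.mp hV₁EA).2 v hv
    rwa [pow_two] at h0
  have hVcomm : ∀ v ∈ V₁, ∀ w ∈ V₁, v * w = w * v := (isEA_iff.mp hV₁EA).1
  have hcentH : ∀ g : G, (∀ v ∈ V₁, g * v * g⁻¹ = v) → g ∈ pCore 2 G := by
    intro g hg
    refine hC₁H (Subgroup.mem_centralizer_iff.mpr ?_)
    intro v hv
    have h0 := hg v hv
    calc v * g = (g * v * g⁻¹) * g := by rw [h0]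
      _ = g * v := by group
  have hK2 : ∀ x ∈ K, ∀ e : ℕ, x ^ (2 ^ e) ∈ pCore 2 G → x ∈ pCore 2 G := by
    intro x hx e hxe
    have h1 : ((x : G) : G ⧸ pCore 2 G) ^ m = 1 := by
      rw [← QuotientGroup.mk_pow]; exact (QuotientGroup.eq_one_iff _).mpr (hKm x hx)
    have h2 : ((x : G) : G ⧸ pCore 2 G) ^ (2 ^ e) = 1 := by
      rw [← QuotientGroup.mk_pow]; exact (QuotientGroup.eq_one_iff _).mpr hxe
    have h3 : orderOf ((x : G) : G ⧸ pCore 2 G) ∣ Nat.gcd m (2 ^ e) :=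
      Nat.dvd_gcd (orderOf_dvd_of_pow_eq_one h1) (orderOf_dvd_of_pow_eq_one h2)
    have h4 : Nat.gcd m (2 ^ e) = 1 := Nat.Coprime.pow_right e hm
    rw [h4, Nat.dvd_one, orderOf_eq_one_iff] at h3
    exact (QuotientGroup.eq_one_iff _).mp h3
  have hK2' : ∀ x ∈ K, x * x ∈ pCore 2 G → x ∈ pCore 2 G := by
    intro x hx h
    refine hK2 x hx 1 ?_
    have e : x ^ (2 ^ 1) = x * x := by rw [pow_one, pow_two]
    rw [e]; exact h
  have hHodd : ∀ x ∈ pCore 2 G, ∀ n : ℕ, Odd n → x ^ n = 1 → x = 1 := by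
    intro x hx n hn hxn
    obtain ⟨k, hk⟩ := hHp ⟨x, hx⟩
    have hk' : x ^ (2 ^ k) = 1 := by
      have := congrArg Subtype.val hk
      simpa using this
    have h3 : orderOf x ∣ Nat.gcd n (2 ^ k) :=
      Nat.dvd_gcd (orderOf_dvd_of_pow_eq_one hxn) (orderOf_dvd_of_pow_eq_one hk')
    have h4 : Nat.gcd n (2 ^ k) = 1 := Nat.Coprime.pow_right k (Nat.coprime_two_right.mpr hn)
    rw [h4, Nat.dvd_one, orderOf_eq_one_iff] at h3
    exact h3
  have haK : a ∉ K := fun haK => haH (hK2' a haK haa)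
  obtain ⟨j₀, hj₀⟩ : ∃ j : ℕ, a ^ (2 ^ j) = 1 := by
    obtain ⟨k, hk⟩ := P.isPGroup' ⟨a, haP⟩
    refine ⟨k, ?_⟩
    have := congrArg Subtype.val hk
    simpa using this
  obtain ⟨k, hkK, hck⟩ : ∃ k ∈ K, a * k * a⁻¹ * k⁻¹ ∉ pCore 2 G := by
    by_contra hcon
    push_neg at hcon
    exact haH (mem_pCore_of_comm K hKi a hj₀ hcon)
  obtain ⟨c, hc⟩ : ∃ c, c = a * k * a⁻¹ * k⁻¹ := ⟨_, rfl⟩
  have hcK : c ∈ K := by
    rw [hc]
    exact K.mul_mem (hKn.conj_mem k hkK a) (K.inv_mem hkK)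
  have hcH : c ∉ pCore 2 G := by rw [hc]; exact hck
  -- the fixed points
  obtain ⟨X, hX⟩ : ∃ X : Subgroup G, X = V₁ ⊓ Subgroup.centralizer ({a} : Set G) := ⟨_, rfl⟩
  obtain ⟨Y, hY⟩ : ∃ Y : Subgroup G,
    Y = V₁ ⊓ Subgroup.centralizer ({k * a * k⁻¹} : Set G) := ⟨_, rfl⟩
  have hconjXY : ∀ x ∈ X, k * x * k⁻¹ ∈ Y := by
    intro x hx
    rw [hX] at hx
    obtain ⟨hx1, hx2⟩ := Subgroup.mem_inf.mp hx
    have h0 : x * a = a * x := Subgroup.mem_centralizer_singleton_iff.mp hx2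
    rw [hY]
    refine Subgroup.mem_inf.mpr ⟨hV₁n.conj_mem _ hx1 k,
      Subgroup.mem_centralizer_singleton_iff.mpr ?_⟩
    calc k * x * k⁻¹ * (k * a * k⁻¹) = k * (x * a) * k⁻¹ := by group
      _ = k * (a * x) * k⁻¹ := by rw [h0]
      _ = k * a * k⁻¹ * (k * x * k⁻¹) := by group
  have hXY : Nat.card X ≤ Nat.card Y := by
    refine Nat.card_le_card_of_injective
      (fun x : ↥X => (⟨k * x.1 * k⁻¹, hconjXY x.1 x.2⟩ : ↥Y)) ?_
    intro x y hxy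
    have h1 : k * x.1 * k⁻¹ = k * y.1 * k⁻¹ := congrArg Subtype.val hxy
    exact Subtype.ext (mul_left_cancel (mul_right_cancel h1))
  have hVpos : 0 < Nat.card V₁ := Nat.card_pos
  have hXYle : X ⊔ Y ≤ V₁ := by
    rw [hX, hY]; exact sup_le inf_le_left inf_le_left
  have hXn : X ≤ Subgroup.normalizer (Y : Set G) := by
    intro x hx
    have hxV : x ∈ V₁ := by rw [hX] at hx; exact (Subgroup.mem_inf.mp hx).1
    refine fin_mem_normalizer Y x (fun y hy => ?_)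
    have hyV : y ∈ V₁ := by rw [hY] at hy; exact (Subgroup.mem_inf.mp hy).1
    have e : x * y * x⁻¹ = y := by rw [hVcomm x hxV y hyV]; group
    rw [e]; exact hy
  have hXYcard : Nat.card V₁ ≤ 4 * Nat.card ↥(X ⊓ Y) := by
    have h1 := card_sup_mul_card_inf X Y hXn
    have h2 : Nat.card ↥(X ⊔ Y) ≤ Nat.card V₁ :=
      Nat.le_of_dvd Nat.card_pos (Subgroup.card_dvd_of_le hXYle)
    have hatr' : Nat.card V₁ ≤ 2 * Nat.card X := by rw [hX]; exact hatr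
    have h4 : Nat.card V₁ * Nat.card V₁ ≤ Nat.card V₁ * (4 * Nat.card ↥(X ⊓ Y)) := by
      calc Nat.card V₁ * Nat.card V₁ ≤ (2 * Nat.card X) * (2 * Nat.card Y) :=
            Nat.mul_le_mul hatr' (hatr'.trans (Nat.mul_le_mul_left 2 hXY))
        _ = 4 * (Nat.card X * Nat.card Y) := by ring
        _ = 4 * (Nat.card ↥(X ⊔ Y) * Nat.card ↥(X ⊓ Y)) := by rw [h1]
        _ ≤ 4 * (Nat.card V₁ * Nat.card ↥(X ⊓ Y)) :=
            Nat.mul_le_mul_left 4 (Nat.mul_le_mul_right _ h2)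
        _ = Nat.card V₁ * (4 * Nat.card ↥(X ⊓ Y)) := by ring
    exact Nat.le_of_mul_le_mul_left h4 hVpos
  -- the element `t` of odd order
  have hc0 : orderOf c ≠ 0 := (orderOf_pos c).ne'
  obtain ⟨j, r, hr2, hjr⟩ := Nat.exists_eq_pow_mul_and_not_dvd hc0 2 (by norm_num)
  have hrodd : Odd r := Nat.odd_iff.mpr (by omega)
  obtain ⟨t, ht⟩ : ∃ t, t = c ^ (2 ^ j) := ⟨_, rfl⟩
  have htr : t ^ r = 1 := by
    rw [ht, ← pow_mul, ← hjr]; exact pow_orderOf_eq_one c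
  have htK : t ∈ K := by rw [ht]; exact K.pow_mem hcK _
  have htH : t ∉ pCore 2 G := by
    intro h
    rw [ht] at h
    exact hcH (hK2 c hcK j h)
  obtain ⟨Z, hZ⟩ : ∃ Z : Subgroup G, Z = V₁ ⊓ Subgroup.centralizer ({t} : Set G) := ⟨_, rfl⟩
  have hXYZ : X ⊓ Y ≤ Z := by
    intro x hx
    obtain ⟨hx1, hx2⟩ := Subgroup.mem_inf.mp hx
    rw [hX] at hx1
    rw [hY] at hx2
    obtain ⟨hxV, hxa⟩ := Subgroup.mem_inf.mp hx1
    obtain ⟨-, hxa'⟩ := Subgroup.mem_inf.mp hx2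
    have e1 : Commute x a := Subgroup.mem_centralizer_singleton_iff.mp hxa
    have e2 : Commute x (k * a * k⁻¹) := Subgroup.mem_centralizer_singleton_iff.mp hxa'
    have e3 : Commute x c := by
      have hc' : c = a * (k * a * k⁻¹)⁻¹ := by rw [hc]; group
      rw [hc']
      exact Commute.mul_right e1 (Commute.inv_right e2)
    have e4 : x * t = t * x := by
      rw [ht]
      exact (Commute.pow_right e3 _).eq
    rw [hZ]
    exact Subgroup.mem_inf.mpr ⟨hxV, Subgroup.mem_centralizer_singleton_iff.mpr e4⟩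
  have hZcard : Nat.card V₁ ≤ 4 * Nat.card Z :=
    hXYcard.trans (Nat.mul_le_mul_left 4
      (Nat.le_of_dvd Nat.card_pos (Subgroup.card_dvd_of_le hXYZ)))
  -- the commutator map
  have hδmem : ∀ v ∈ V₁, t * v * t⁻¹ * v⁻¹ ∈ V₁ := fun v hv =>
    V₁.mul_mem (hV₁n.conj_mem v hv t) (V₁.inv_mem hv)
  let δ : ↥V₁ →* ↥V₁ :=
    { toFun := fun v => ⟨t * v.1 * t⁻¹ * v.1⁻¹, hδmem v.1 v.2⟩
      map_one' := Subtype.ext (by show t * (1 : G) * t⁻¹ * (1 : G)⁻¹ = 1; group)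
      map_mul' := fun v w => Subtype.ext (by
        show t * (v.1 * w.1) * t⁻¹ * (v.1 * w.1)⁻¹ =
          (t * v.1 * t⁻¹ * v.1⁻¹) * (t * w.1 * t⁻¹ * w.1⁻¹)
        have h1 : v.1⁻¹ * (t * w.1 * t⁻¹) = (t * w.1 * t⁻¹) * v.1⁻¹ :=
          hVcomm _ (V₁.inv_mem v.2) _ (hV₁n.conj_mem _ w.2 t)
        have h2 : v.1⁻¹ * w.1⁻¹ = w.1⁻¹ * v.1⁻¹ :=
          hVcomm _ (V₁.inv_mem v.2) _ (V₁.inv_mem w.2)
        calc t * (v.1 * w.1) * t⁻¹ * (v.1 * w.1)⁻¹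
            = t * v.1 * t⁻¹ * (t * w.1 * t⁻¹) * (w.1⁻¹ * v.1⁻¹) := by group
          _ = t * v.1 * t⁻¹ * (t * w.1 * t⁻¹) * (v.1⁻¹ * w.1⁻¹) := by rw [h2]
          _ = t * v.1 * t⁻¹ * ((t * w.1 * t⁻¹) * v.1⁻¹) * w.1⁻¹ := by group
          _ = t * v.1 * t⁻¹ * (v.1⁻¹ * (t * w.1 * t⁻¹)) * w.1⁻¹ := by rw [h1]
          _ = (t * v.1 * t⁻¹ * v.1⁻¹) * (t * w.1 * t⁻¹ * w.1⁻¹) := by group) }
  obtain ⟨W, hW⟩ : ∃ W : Subgroup G, W = δ.range.map V₁.subtype := ⟨_, rfl⟩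
  have hWmem : ∀ w : G, w ∈ W ↔ ∃ v ∈ V₁, w = t * v * t⁻¹ * v⁻¹ := by
    intro w
    rw [hW]
    constructor
    · intro hw
      obtain ⟨y, hy, rfl⟩ := Subgroup.mem_map.mp hw
      obtain ⟨v, rfl⟩ := MonoidHom.mem_range.mp hy
      exact ⟨v.1, v.2, rfl⟩
    · rintro ⟨v, hv, rfl⟩
      exact Subgroup.mem_map.mpr ⟨δ ⟨v, hv⟩, MonoidHom.mem_range.mpr ⟨⟨v, hv⟩, rfl⟩, rfl⟩
  have hWV : W ≤ V₁ := by rw [hW]; exact Subgroup.map_subtype_le _
  have hWcard : Nat.card W ≤ 4 := by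
    have h1 : Nat.card W = Nat.card δ.range := by
      rw [hW]; exact Subgroup.card_map_of_injective V₁.subtype_injective
    have h2 : Nat.card δ.ker * δ.ker.index = Nat.card V₁ := Subgroup.card_mul_index δ.ker
    have h3 : δ.ker.index = Nat.card δ.range := Subgroup.index_ker δ
    have h4 : Nat.card Z ≤ Nat.card δ.ker := by
      have hZV : Z ≤ V₁ := by rw [hZ]; exact inf_le_left
      rw [← card_subgroupOf_of_le hZV]
      refine Nat.le_of_dvd Nat.card_pos (Subgroup.card_dvd_of_le ?_)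
      intro v hv
      have hv' : v.1 ∈ Z := Subgroup.mem_subgroupOf.mp hv
      rw [hZ] at hv'
      have e : v.1 * t = t * v.1 :=
        Subgroup.mem_centralizer_singleton_iff.mp (Subgroup.mem_inf.mp hv').2
      refine MonoidHom.mem_ker.mpr (Subtype.ext ?_)
      show t * v.1 * t⁻¹ * v.1⁻¹ = 1
      rw [← e]; group
    have hZpos : 0 < Nat.card Z := Nat.card_pos
    have h5 : Nat.card Z * Nat.card W ≤ Nat.card Z * 4 := by
      calc Nat.card Z * Nat.card W ≤ Nat.card δ.ker * Nat.card W := Nat.mul_le_mul_right _ h4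
        _ = Nat.card V₁ := by rw [h1, ← h3, h2]
        _ ≤ 4 * Nat.card Z := hZcard
        _ = Nat.card Z * 4 := by ring
    exact Nat.le_of_mul_le_mul_left h5 hZpos
  have hWt : ∀ w ∈ W, t * w * t⁻¹ ∈ W := by
    intro w hw
    obtain ⟨v, hv, rfl⟩ := (hWmem w).mp hw
    exact (hWmem _).mpr ⟨t * v * t⁻¹, hV₁n.conj_mem v hv t, by group⟩
  have hWt' : ∀ w ∈ W, t⁻¹ * w * t ∈ W := by
    intro w hw
    obtain ⟨v, hv, rfl⟩ := (hWmem w).mp hw
    have hv' : t⁻¹ * v * t ∈ V₁ := by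
      have h0 := hV₁n.conj_mem v hv t⁻¹
      rwa [inv_inv] at h0
    exact (hWmem _).mpr ⟨t⁻¹ * v * t, hv', by group⟩
  -- the permutation induced by `t` on `W` has order dividing 3
  let σ : Equiv.Perm ↥W :=
    { toFun := fun w => ⟨t * w.1 * t⁻¹, hWt w.1 w.2⟩
      invFun := fun w => ⟨t⁻¹ * w.1 * t, hWt' w.1 w.2⟩
      left_inv := fun w => Subtype.ext (by show t⁻¹ * (t * w.1 * t⁻¹) * t = w.1; group)
      right_inv := fun w => Subtype.ext (by show t * (t⁻¹ * w.1 * t) * t⁻¹ = w.1; group) }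
  have hσpow : ∀ (n : ℕ) (w : ↥W), ((σ ^ n) w).1 = t ^ n * w.1 * (t ^ n)⁻¹ := by
    intro n
    induction n with
    | zero => intro w; simp
    | succ n ih =>
      intro w
      rw [pow_succ, Equiv.Perm.mul_apply, ih]
      show t ^ n * (t * w.1 * t⁻¹) * (t ^ n)⁻¹ = t ^ (n + 1) * w.1 * (t ^ (n + 1))⁻¹
      rw [pow_succ]; group
  have hσr : σ ^ r = 1 := by
    refine Equiv.ext (fun w => Subtype.ext ?_)
    rw [hσpow r w, htr]
    simp
  have hσord : orderOf σ ∣ 3 := by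
    have h1 : orderOf σ ∣ r := orderOf_dvd_of_pow_eq_one hσr
    have h2 : orderOf σ ∣ Nat.card (Equiv.Perm ↥W) := orderOf_dvd_natCard σ
    rw [Nat.card_perm] at h2
    have h3 : (Nat.card ↥W).factorial ∣ Nat.factorial 4 := Nat.factorial_dvd_factorial hWcard
    have h4 : orderOf σ ∣ 2 ^ 3 * 3 := by
      have : Nat.factorial 4 = 2 ^ 3 * 3 := by decide
      rw [← this]; exact h2.trans h3
    have hodd : Odd (orderOf σ) := Odd.of_dvd_nat hrodd h1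
    have hcop : (orderOf σ).Coprime (2 ^ 3) :=
      Nat.Coprime.pow_right 3 (Nat.coprime_two_right.mpr hodd)
    exact Nat.Coprime.dvd_of_dvd_mul_left hcop h4
  have ht3W : ∀ w ∈ W, t ^ 3 * w * (t ^ 3)⁻¹ = w := by
    intro w hw
    have h1 : σ ^ 3 = 1 := orderOf_dvd_iff_pow_eq_one.mp hσord
    have h2 := hσpow 3 ⟨w, hw⟩
    rw [h1] at h2
    exact h2.symm
  have ht3K : t ^ 3 ∈ K := K.pow_mem htK 3
  have ht3cs : t ^ 3 ∈ chainStab W V₁ := by
    refine mem_chainStab.mpr ⟨ht3W, fun v hv => ?_⟩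
    have hv1 : t * v * t⁻¹ ∈ V₁ := hV₁n.conj_mem v hv t
    have hv2 : t * (t * v * t⁻¹) * t⁻¹ ∈ V₁ := hV₁n.conj_mem _ hv1 t
    have e : t ^ 3 * v * (t ^ 3)⁻¹ * v⁻¹ =
        (t * (t * (t * v * t⁻¹) * t⁻¹) * t⁻¹ * (t * (t * v * t⁻¹) * t⁻¹)⁻¹) *
        ((t * (t * v * t⁻¹) * t⁻¹ * (t * v * t⁻¹)⁻¹) * (t * v * t⁻¹ * v⁻¹)) := by
      rw [show (3 : ℕ) = 2 + 1 from rfl, pow_succ, pow_two]; group
    rw [e]
    exact W.mul_mem ((hWmem _).mpr ⟨_, hv2, rfl⟩)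
      (W.mul_mem ((hWmem _).mpr ⟨_, hv1, rfl⟩) ((hWmem _).mpr ⟨v, hv, rfl⟩))
  have ht3 : t ^ 3 = 1 := by
    have h1 : t ^ 3 * t ^ 3 ∈ pCore 2 G := hC₁H (chainStab_sq hVexp hWV ht3cs)
    have h2 : t ^ 3 ∈ pCore 2 G := hK2' _ ht3K h1
    refine hHodd _ h2 r hrodd ?_
    rw [← pow_mul, mul_comm, pow_mul, htr, one_pow]
  have ht3' : t * t * t = 1 := by
    rw [← ht3, show (3 : ℕ) = 2 + 1 from rfl, pow_succ, pow_two]
  have htinv : t⁻¹ = t * t := inv_eq_of_mul_eq_one_left ht3'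
  -- `t` acts fixed-point-freely on `W`
  have htf : ∀ w ∈ W, t * w * t⁻¹ = w → w = 1 := by
    intro w hw hfix
    obtain ⟨v, hv, rfl⟩ := (hWmem w).mp hw
    have hy : t * v * t⁻¹ ∈ V₁ := hV₁n.conj_mem v hv t
    have hz : t * (t * v * t⁻¹) * t⁻¹ ∈ V₁ := hV₁n.conj_mem _ hy t
    obtain ⟨y, hyd⟩ : ∃ y, y = t * v * t⁻¹ := ⟨_, rfl⟩
    obtain ⟨z, hzd⟩ : ∃ z, z = t * y * t⁻¹ := ⟨_, rfl⟩
    have hyV : y ∈ V₁ := by rw [hyd]; exact hy
    have hzV : z ∈ V₁ := by rw [hzd, hyd]; exact hz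
    have htz : t * z * t⁻¹ = v := by
      rw [hzd, hyd]
      calc t * (t * (t * v * t⁻¹) * t⁻¹) * t⁻¹ = (t * t * t) * v * (t * t * t)⁻¹ := by group
        _ = v := by rw [ht3']; group
    have e1 : t * v * t⁻¹ * v⁻¹ = y * v⁻¹ := by rw [hyd]
    have e2 : t * (t * v * t⁻¹ * v⁻¹) * t⁻¹ = z * y⁻¹ := by rw [hzd, hyd]; group
    have e3 : t * (z * y⁻¹) * t⁻¹ = v * z⁻¹ := by
      calc t * (z * y⁻¹) * t⁻¹ = (t * z * t⁻¹) * (t * y * t⁻¹)⁻¹ := by group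
        _ = v * z⁻¹ := by rw [htz, ← hzd]
    have f1 : z * y⁻¹ = y * v⁻¹ := by rw [← e2, hfix, e1]
    have f2 : v * z⁻¹ = y * v⁻¹ := by
      rw [← e3, f1, ← e1]; exact hfix
    have h3 : (y * v⁻¹) * (y * v⁻¹) * (y * v⁻¹) = 1 := by
      have := comm_prod3 (hVcomm v hv y hyV) (hVcomm v hv z hzV) (hVcomm y hyV z hzV)
      rw [f1, f2] at this
      exact this
    have h2 : (y * v⁻¹) * (y * v⁻¹) = 1 := hVexp _ (V₁.mul_mem hyV (V₁.inv_mem hv))
    rw [h2, one_mul] at h3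
    rw [e1]; exact h3
  obtain ⟨w₀, hw₀, hw₀1⟩ : ∃ w ∈ W, w ≠ 1 := by
    by_contra hcon
    push_neg at hcon
    apply htH
    refine hcentH t (fun v hv => ?_)
    have h0 := hcon _ ((hWmem _).mpr ⟨v, hv, rfl⟩)
    exact mul_inv_eq_one.mp h0
  have hW4 : Nat.card W = 4 := by
    have hWp : IsPGroup 2 ↥W := (hHp.to_le hV₁H).to_le hWV
    obtain ⟨e, he⟩ := IsPGroup.iff_card.mp hWp
    have he2 : e ≤ 2 := by
      by_contra hlt
      push_neg at hlt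
      have : 2 ^ 3 ≤ 2 ^ e := Nat.pow_le_pow_right (by norm_num) hlt
      omega
    have hne1 : Nat.card W ≠ 1 := by
      intro h
      exact hw₀1 ((Subgroup.eq_bot_iff_forall W).mp (Subgroup.card_eq_one.mp h) w₀ hw₀)
    have hne2 : Nat.card W ≠ 2 := by
      intro h
      obtain ⟨y, -, hy⟩ := (Nat.card_eq_two_iff' (1 : ↥W)).mp h
      have h1 : (⟨w₀, hw₀⟩ : ↥W) = y := hy _ (fun h => hw₀1 (congrArg Subtype.val h))
      have h2 : (⟨t * w₀ * t⁻¹, hWt w₀ hw₀⟩ : ↥W) = y := hy _ (fun h => by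
        have h' : t * w₀ * t⁻¹ = 1 := congrArg Subtype.val h
        apply hw₀1
        calc w₀ = t⁻¹ * (t * w₀ * t⁻¹) * t := by group
          _ = 1 := by rw [h']; group)
      have h3 : t * w₀ * t⁻¹ = w₀ := congrArg Subtype.val (h2.trans h1.symm)
      exact hw₀1 (htf w₀ hw₀ h3)
    have hcases : e = 0 ∨ e = 1 ∨ e = 2 := by omega
    rcases hcases with rfl | rfl | rfl
    · exact absurd (by simpa using he) hne1
    · exact absurd (by simpa using he) hne2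
    · simpa using he
  -- the quotient by `O_2(G)`
  obtain ⟨π, hπd⟩ : ∃ π : G →* G ⧸ pCore 2 G, π = QuotientGroup.mk' (pCore 2 G) := ⟨_, rfl⟩
  have hπ : ∀ x : G, π x = 1 ↔ x ∈ pCore 2 G := by
    intro x; rw [hπd]; exact QuotientGroup.eq_one_iff x
  have hαα : π a * π a = 1 := by rw [← map_mul]; exact (hπ _).mpr haa
  have hγ : π a * π c * (π a)⁻¹ = (π c)⁻¹ := by
    have e : π c = π a * π k * (π a)⁻¹ * (π k)⁻¹ := by rw [hc]; simp only [map_mul, map_inv]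
    rw [e]; exact quot_inv_calc hαα
  have hτ : π a * π t * (π a)⁻¹ = (π t)⁻¹ := by
    rw [ht, map_pow, ← conj_pow, hγ, inv_pow]
  have htat : t * (a * t * a⁻¹) ∈ pCore 2 G := by
    refine (hπ _).mp ?_
    simp only [map_mul, map_inv]
    rw [hτ, mul_inv_cancel]
  -- `T = ⟨t⟩` and `M = T O_2(G)`
  obtain ⟨T, hT⟩ : ∃ T : Subgroup G, T = Subgroup.zpowers t := ⟨_, rfl⟩
  have htT : t ∈ T := by rw [hT]; exact Subgroup.mem_zpowers t
  have hT3 : ∀ x ∈ T, x ^ 3 = 1 := by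
    intro x hx
    rw [hT] at hx
    obtain ⟨n, rfl⟩ := Subgroup.mem_zpowers_iff.mp hx
    rw [← zpow_natCast, ← zpow_mul, mul_comm, zpow_mul, zpow_natCast, ht3, one_zpow]
  have hTH : T ⊓ pCore 2 G = ⊥ := by
    refine (Subgroup.eq_bot_iff_forall _).mpr (fun x hx => ?_)
    obtain ⟨hx1, hx2⟩ := Subgroup.mem_inf.mp hx
    exact hHodd x hx2 3 ⟨1, by norm_num⟩ (hT3 x hx1)
  obtain ⟨M, hM⟩ : ∃ M : Subgroup G, M = T ⊔ pCore 2 G := ⟨_, rfl⟩
  have hTM : T ≤ M := by rw [hM]; exact le_sup_left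
  have hHM : pCore 2 G ≤ M := by rw [hM]; exact le_sup_right
  have hMK : M ≤ K := by
    rw [hM]
    refine sup_le ?_ hHK
    rw [hT]; exact Subgroup.zpowers_le.mpr htK
  have hcardM : Nat.card M = Nat.card T * Nat.card ↥(pCore 2 G) := by
    have h1 := card_sup_mul_card_inf T (pCore 2 G) (le_normalizer_of_normal _ _)
    rw [hTH, Subgroup.card_bot, mul_one, ← hM] at h1
    exact h1
  have : Fact (Nat.Prime 3) := ⟨Nat.prime_three⟩
  have hidx : ¬ 3 ∣ T.relIndex M := by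
    intro h3
    have h1 := card_eq_mul_relIndex hTM
    rw [hcardM] at h1
    have hTpos : 0 < Nat.card T := Nat.card_pos
    have h2 : Nat.card ↥(pCore 2 G) = T.relIndex M := Nat.eq_of_mul_eq_mul_left hTpos h1
    obtain ⟨e, he⟩ := IsPGroup.iff_card.mp hHp
    rw [← h2, he] at h3
    have := Nat.Prime.dvd_of_dvd_pow Nat.prime_three h3
    omega
  have hatM : a * t * a⁻¹ ∈ M := by
    have e : a * t * a⁻¹ = t⁻¹ * (t * (a * t * a⁻¹)) := by group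
    rw [e]
    exact M.mul_mem (M.inv_mem (hTM htT)) (hHM htat)
  have hQ₁ : IsPGroup 3 ↥(Subgroup.zpowers (a * t * a⁻¹)) := by
    refine isPGroup_zpowers_of_pow (j := 1) ?_
    rw [pow_one, conj_pow, ht3]; group
  have hQ₂ : IsPGroup 3 ↥T := by
    rw [hT]
    refine isPGroup_zpowers_of_pow (j := 1) ?_
    rw [pow_one]; exact ht3
  obtain ⟨m₀, hm₀M, hm₀⟩ := exists_conj_of_sylow_in M (Subgroup.zpowers (a * t * a⁻¹)) T
    (Subgroup.zpowers_le.mpr hatM) hTM hQ₁ hQ₂ hidx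
  have hconj : m₀ * (a * t * a⁻¹) * m₀⁻¹ ∈ T := hm₀ _ (Subgroup.mem_zpowers _)
  obtain ⟨b, hb⟩ : ∃ b, b = m₀ * a := ⟨_, rfl⟩
  have hbtT : b * t * b⁻¹ ∈ T := by
    have e : b * t * b⁻¹ = m₀ * (a * t * a⁻¹) * m₀⁻¹ := by rw [hb]; group
    rw [e]; exact hconj
  obtain ⟨i₀, hi₀⟩ : ∃ i : ℤ, π m₀ = π t ^ i := by
    rw [hM] at hm₀M
    obtain ⟨z, hz, h, hh, hzh⟩ := Subgroup.mem_sup_of_normal_right.mp hm₀M
    rw [hT] at hz
    obtain ⟨i, hi⟩ := Subgroup.mem_zpowers_iff.mp hz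
    refine ⟨i, ?_⟩
    rw [← hzh, map_mul, (hπ h).mpr hh, mul_one, ← hi, map_zpow]
  have hμτ : π m₀ * (π t)⁻¹ * (π m₀)⁻¹ = (π t)⁻¹ := by
    rw [hi₀]
    have hcomm : Commute (π t ^ i₀) (π t)⁻¹ :=
      ((Commute.refl (π t)).zpow_left i₀).inv_right
    rw [hcomm.eq]; group
  have hbt : b * t * b⁻¹ = t⁻¹ := by
    have h1 : t * (b * t * b⁻¹) ∈ pCore 2 G := by
      refine (hπ _).mp ?_
      have e : π (t * (b * t * b⁻¹)) =
          π t * (π m₀ * (π a * π t * (π a)⁻¹) * (π m₀)⁻¹) := by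
        rw [hb]; simp only [map_mul, map_inv]; group
      rw [e, hτ, hμτ, mul_inv_cancel]
    have h2 : t * (b * t * b⁻¹) ∈ T := T.mul_mem htT hbtT
    have h3 : t * (b * t * b⁻¹) ∈ T ⊓ pCore 2 G := Subgroup.mem_inf.mpr ⟨h2, h1⟩
    rw [hTH, Subgroup.mem_bot] at h3
    exact eq_inv_of_mul_eq_one_right h3
  have hbb : b * b ∈ pCore 2 G := by
    refine (hπ _).mp ?_
    have hαμ : π a * π m₀ * (π a)⁻¹ = (π m₀)⁻¹ := by
      rw [hi₀, ← conj_zpow, hτ, inv_zpow]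
    have e : π (b * b) = π m₀ * (π a * π m₀ * (π a)⁻¹) * (π a * π a) := by
      rw [hb]; simp only [map_mul]; group
    rw [e, hαμ, hαα, mul_inv_cancel, mul_one]
  have hbM : b ∉ M := by
    intro h
    apply haK
    have e : a = m₀⁻¹ * b := by rw [hb]; group
    rw [e]
    exact hMK (M.mul_mem (M.inv_mem hm₀M) h)
  have hbbt : (b * b) * t = t * (b * b) := by
    have h1 : b * t⁻¹ * b⁻¹ = t := by
      have : b * t⁻¹ * b⁻¹ = (b * t * b⁻¹)⁻¹ := by group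
      rw [this, hbt, inv_inv]
    calc (b * b) * t = b * (b * t * b⁻¹) * b := by group
      _ = b * t⁻¹ * b := by rw [hbt]
      _ = (b * t⁻¹ * b⁻¹) * (b * b) := by group
      _ = t * (b * b) := by rw [h1]
  -- the complement `S = ⟨b, t⟩`
  obtain ⟨S, hS⟩ : ∃ S : Subgroup G, S = Subgroup.zpowers b ⊔ Subgroup.zpowers t := ⟨_, rfl⟩
  have hbS : b ∈ S := by
    rw [hS]; exact (le_sup_left : Subgroup.zpowers b ≤ _) (Subgroup.mem_zpowers b)
  have htS : t ∈ S := by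
    rw [hS]; exact (le_sup_right : Subgroup.zpowers t ≤ _) (Subgroup.mem_zpowers t)
  have htN : t ∈ Subgroup.normalizer (W : Set G) := fin_mem_normalizer W t hWt
  have hbN : b ∈ Subgroup.normalizer (W : Set G) := by
    refine fin_mem_normalizer W b (fun w hw => ?_)
    obtain ⟨v, hv, rfl⟩ := (hWmem w).mp hw
    have hv' : b * v * b⁻¹ ∈ V₁ := hV₁n.conj_mem v hv b
    have hv'' : t⁻¹ * (b * v * b⁻¹) * t ∈ V₁ := by
      have h0 := hV₁n.conj_mem _ hv' t⁻¹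
      rwa [inv_inv] at h0
    have e : b * (t * v * t⁻¹ * v⁻¹) * b⁻¹ =
        (t * (t⁻¹ * (b * v * b⁻¹) * t) * t⁻¹ * (t⁻¹ * (b * v * b⁻¹) * t)⁻¹)⁻¹ := by
      calc b * (t * v * t⁻¹ * v⁻¹) * b⁻¹
          = (b * t * b⁻¹) * (b * v * b⁻¹) * (b * t * b⁻¹)⁻¹ * (b * v * b⁻¹)⁻¹ := by group
        _ = t⁻¹ * (b * v * b⁻¹) * t⁻¹⁻¹ * (b * v * b⁻¹)⁻¹ := by rw [hbt]
        _ = (t * (t⁻¹ * (b * v * b⁻¹) * t) * t⁻¹ * (t⁻¹ * (b * v * b⁻¹) * t)⁻¹)⁻¹ := by
            group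
    rw [e]
    exact W.inv_mem ((hWmem _).mpr ⟨_, hv'', rfl⟩)
  have hSW : S ≤ Subgroup.normalizer (W : Set G) := by
    rw [hS]
    exact sup_le (Subgroup.zpowers_le.mpr hbN) (Subgroup.zpowers_le.mpr htN)
  have hWM : W ≤ M := hWV.trans (hV₁H.trans hHM)
  have hbnT : Subgroup.zpowers b ≤
      Subgroup.normalizer ((Subgroup.zpowers t : Subgroup G) : Set G) := by
    refine Subgroup.zpowers_le.mpr (fin_mem_normalizer _ b (fun x hx => ?_))
    obtain ⟨n, rfl⟩ := Subgroup.mem_zpowers_iff.mp hx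
    rw [← conj_zpow, hbt]
    exact Subgroup.zpow_mem _ (Subgroup.inv_mem _ (Subgroup.mem_zpowers t)) n
  have hWS : S ⊓ W = ⊥ := by
    refine (Subgroup.eq_bot_iff_forall _).mpr (fun x hx => ?_)
    obtain ⟨hxS, hxW⟩ := Subgroup.mem_inf.mp hx
    rw [hS] at hxS
    have hxS' : x ∈ ((Subgroup.zpowers b ⊔ Subgroup.zpowers t : Subgroup G) : Set G) := hxS
    rw [Subgroup.coe_mul_of_left_le_normalizer_right _ _ hbnT] at hxS'
    obtain ⟨y, hy, z, hz, rfl⟩ := hxS'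
    obtain ⟨i, rfl⟩ := Subgroup.mem_zpowers_iff.mp hy
    obtain ⟨l, rfl⟩ := Subgroup.mem_zpowers_iff.mp hz
    replace hxW : b ^ i * t ^ l ∈ W := hxW
    show b ^ i * t ^ l = 1
    have htlM : t ^ l ∈ M := M.zpow_mem (hTM htT) l
    have hbiM : b ^ i ∈ M := by
      have e : b ^ i = (b ^ i * t ^ l) * (t ^ l)⁻¹ := by group
      rw [e]
      exact M.mul_mem (hWM hxW) (M.inv_mem htlM)
    obtain ⟨n, hn | hn⟩ := Int.even_or_odd' i
    · have hbi : b ^ i = (b * b) ^ n := by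
        rw [hn, zpow_mul, zpow_two]
      have hbiH : b ^ i ∈ pCore 2 G := by rw [hbi]; exact Subgroup.zpow_mem _ hbb n
      have htlH : t ^ l ∈ pCore 2 G := by
        have e : t ^ l = (b ^ i)⁻¹ * (b ^ i * t ^ l) := by group
        rw [e]
        exact Subgroup.mul_mem _ (Subgroup.inv_mem _ hbiH) (hV₁H (hWV hxW))
      have htl1 : t ^ l = 1 := by
        have h3 : t ^ l ∈ T ⊓ pCore 2 G :=
          Subgroup.mem_inf.mpr ⟨T.zpow_mem htT l, htlH⟩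
        rw [hTH, Subgroup.mem_bot] at h3
        exact h3
      rw [htl1, mul_one] at hxW ⊢
      refine htf _ hxW ?_
      rw [hbi]
      have hcomm : Commute t ((b * b) ^ n) :=
        Commute.zpow_right (show Commute t (b * b) from hbbt.symm) n
      rw [hcomm.eq]; group
    · exfalso
      apply hbM
      have hcb : Commute ((b * b) ^ n) b :=
        Commute.zpow_left (show Commute (b * b) b from mul_assoc b b b) n
      have e : b = b ^ i * ((b * b) ^ n)⁻¹ := by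
        rw [hn, zpow_add, zpow_mul, zpow_two, zpow_one, hcb.eq]
        exact (mul_inv_cancel_right _ _).symm
      rw [e]
      exact M.mul_mem hbiM (M.inv_mem (M.zpow_mem (hHM hbb) n))
  have hb2 : b * b ∈ Subgroup.centralizer (W : Set G) :=
    Subgroup.centralizer_le (show (W : Set G) ⊆ (V₁ : Set G) from hWV) (hHC₁ hbb)
  have hbW : ∃ w ∈ W, b * w * b⁻¹ ≠ w := by
    by_contra hcon
    push_neg at hcon
    apply hw₀1
    refine htf w₀ hw₀ ?_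
    have h1 := hcon _ (hWt w₀ hw₀)
    have h2 : b * (t * w₀ * t⁻¹) * b⁻¹ = t⁻¹ * w₀ * t := by
      calc b * (t * w₀ * t⁻¹) * b⁻¹
          = (b * t * b⁻¹) * (b * w₀ * b⁻¹) * (b * t * b⁻¹)⁻¹ := by group
        _ = t⁻¹ * w₀ * t := by rw [hbt, hcon w₀ hw₀, inv_inv]
    rw [h2] at h1
    have h3 : w₀ = t⁻¹ * w₀ * t := by
      calc w₀ = t * (t⁻¹ * w₀ * t) * t⁻¹ := by group
        _ = t * (t * w₀ * t⁻¹) * t⁻¹ := by rw [h1]
        _ = (t * t) * w₀ * (t * t)⁻¹ := by group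
        _ = t⁻¹ * w₀ * t := by rw [← htinv, inv_inv]
    rw [← h1, ← h3]
  exact involves_S4_of_config W S t b hW4 hSW hWS htS hbS ht3 htf hb2 hbW

variable {p : ℕ} [Fact p.Prime]

/-- the final step of Thompson's normal `p`-complement theorem for `J_a` -/
theorem th_final_Ja (P : Sylow p G)
    (hΦ : p ≠ 2 ∨ ¬ Involves (Equiv.Perm (Fin 4)) G) (hO' : pPrimeCore p G = ⊥)
    (star : ∀ M : Subgroup G, (P : Subgroup G) ≤ M → M ≠ ⊤ → HasNormalPComplement p ↥M)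
    (hquot : HasNormalPComplement p (G ⧸ pCore p G))
    (hN : HasNormalPComplement p
      ↥(Subgroup.normalizer (thompsonSubgroupAOf (P : Subgroup G) : Set G)))
    (hC : HasNormalPComplement p ↥(Subgroup.centralizer
      (((P : Subgroup G) ⊓ Subgroup.centralizer ((P : Subgroup G) : Set G) : Subgroup G) :
        Set G))) :
    HasNormalPComplement p G := by
  by_cases hp : p = 2
  · subst hp
    rcases hΦ with h | hS4
    · exact absurd rfl h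
    by_contra hnp
    obtain ⟨V₁, K, B, hV₁n, hV₁EA, hV₁H, hHC₁, hC₁H, hKn, hHK, hKi, hKK, hKm,
      hHB, hBP, hBH, hquad, hoff⟩ := th_final_common P hO' star hquot hN hC hnp
    haveI := hV₁n
    haveI := hKn
    obtain ⟨a, haP, haH, haa, hatr⟩ := th_transvection P V₁ K B hV₁EA hHC₁ hC₁H hKi hKK hKm
      hHB hBP hBH hquad hoff
    exact hS4 (th_S4_of_transvection P V₁ K hV₁EA hV₁H hHC₁ hC₁H hHK hKi hKm a haP haH haa
      hatr)
  · exact th_final_Ja_odd hp P hO' star hquot hN hC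

/-- **Thompson's normal `p`-complement theorem** for `J_a`: `p` odd, or `G` is `S₄`-free -/
theorem th_Ja_main (P : Sylow p G)
    (h : p ≠ 2 ∨ ¬ Involves (Equiv.Perm (Fin 4)) G)
    (hN : HasNormalPComplement p
      ↥(Subgroup.normalizer (thompsonSubgroupAOf (P : Subgroup G) : Set G)))
    (hC : HasNormalPComplement p ↥(Subgroup.centralizer
      (((P : Subgroup G) ⊓ Subgroup.centralizer ((P : Subgroup G) : Set G) : Subgroup G) :
        Set G))) :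
    HasNormalPComplement p G :=
  th_main_aux (cfJa.{u} p) (cfZ.{u} p)
    (fun X _ => p ≠ 2 ∨ ¬ Involves (Equiv.Perm (Fin 4)) X)
    (fun X _ _ M h => h.imp_right (fun h' hM => h' (involves_of_subgroup M hM)))
    (fun X _ _ L _ h => h.imp_right (fun h' hQ => h' (involves_of_quotient L hQ)))
    (fun G _ _ P hΦ hO' star hquot hN hC => th_final_Ja P hΦ hO' star hquot hN hC)
    _ G rfl P h hN hC

end S4

end Cfsg.Agent.Lib.Helper3
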