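import Cfsg.Agent.Lib.Helper3.GT12
import Cfsg.Prelude.Def_ConjugacyFunctors

/-! Thompson's normal `p`-complement criterion in functor form: isomorphism-invariant
`p`-group functors as `CFunctor`s, transport of the local hypothesis along isomorphisms. -/

namespace Cfsg.Agent.Lib.Helper3

open Cfsg
open Cfsg.Agent.Lib.Helper2 (hasNormalPComplement_iff)

universe u v w

section InvolvesMore

theorem involves_refl (G : Type u) [Group G] : Involves G G :=
  involves_of_surj (⊤ : Subgroup G) (Subgroup.topEquiv : ↥(⊤ : Subgroup G) ≃* G).toMonoidHom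
    (Subgroup.topEquiv : ↥(⊤ : Subgroup G) ≃* G).surjective

theorem involves_trans {Z : Type u} {Y : Type v} {X : Type w} [Group Z] [Group Y] [Group X]
    (h1 : Involves Z Y) (h2 : Involves Y X) : Involves Z X := by
  obtain ⟨K, f, hf⟩ := exists_surj_of_involves h2
  obtain ⟨K', f', hf'⟩ := exists_surj_of_involves h1
  exact involves_of_subgroup K (involves_of_surj (K'.comap f) (f'.comp (f.subgroupComap K'))
    (hf'.comp (MonoidHom.subgroupComap_surjective_of_surjective _ _ hf)))

theorem involves_of_equiv {Z : Type u} {Y : Type v} [Group Z] [Group Y] (e : Y ≃* Z) :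
    Involves Z Y :=
  involves_of_surj (⊤ : Subgroup Y)
    (e.toMonoidHom.comp (Subgroup.topEquiv : ↥(⊤ : Subgroup Y) ≃* Y).toMonoidHom)
    (e.surjective.comp (Subgroup.topEquiv : ↥(⊤ : Subgroup Y) ≃* Y).surjective)

end InvolvesMore

section CharFun

theorem subgroupMap_injective_of_inf_ker {X Y : Type*} [Group X] [Group Y] (f : X →* Y)
    (D : Subgroup X) (h : D ⊓ f.ker = ⊥) : Function.Injective (f.subgroupMap D) := by
  rw [injective_iff_map_eq_one]
  intro x hx
  have h1 : f (x : X) = 1 := congrArg Subtype.val hx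
  have h2 : (x : X) ∈ D ⊓ f.ker := ⟨x.2, MonoidHom.mem_ker.mpr h1⟩
  rw [h, Subgroup.mem_bot] at h2
  exact Subtype.ext h2

/-- the isomorphism of a subgroup onto its image under a homomorphism injective on it -/
noncomputable def equivMapOfInfKer {X Y : Type*} [Group X] [Group Y] (f : X →* Y)
    (D : Subgroup X) (h : D ⊓ f.ker = ⊥) : ↥D ≃* ↥(D.map f) :=
  MulEquiv.ofBijective (f.subgroupMap D)
    ⟨subgroupMap_injective_of_inf_ker f D h, f.subgroupMap_surjective D⟩

theorem inducedFunctor_map {p : ℕ} {W : ∀ (Q : Type u) [Group Q], Subgroup Q}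
    (hW : IsCharPFunctor.{u} p W) {X Y : Type u} [Group X] [Group Y] (f : X →* Y)
    (D : Subgroup X) (h : D ⊓ f.ker = ⊥) [Finite ↥D] (hD : IsPGroup p ↥D) :
    inducedFunctor W (D.map f) = (inducedFunctor W D).map f := by
  have h1 := hW.2 ↥D ↥(D.map f) hD (equivMapOfInfKer f D h)
  have e : (D.map f).subtype.comp (equivMapOfInfKer f D h).toMonoidHom = f.comp D.subtype :=
    MonoidHom.ext (fun x => rfl)
  unfold inducedFunctor
  rw [← h1, Subgroup.map_map, Subgroup.map_map, e]

open Classical in
/-- the functor on subgroups induced by an isomorphism-invariant `p`-group functor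
(cut off outside the finite `p`-subgroups) -/
noncomputable def cfChar (p : ℕ) (W : ∀ (Q : Type u) [Group Q], Subgroup Q)
    (hW : IsCharPFunctor.{u} p W) : CFunctor.{u} p where
  W := fun D => if Finite ↥D ∧ IsPGroup p ↥D then inducedFunctor W D else ⊥
  le := fun D => by
    show (if Finite ↥D ∧ IsPGroup p ↥D then inducedFunctor W D else ⊥) ≤ D
    split_ifs
    · exact Subgroup.map_subtype_le _
    · exact bot_le
  map := fun f D h => by
    show (if Finite ↥(D.map f) ∧ IsPGroup p ↥(D.map f) then inducedFunctor W (D.map f)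
      else ⊥) = (if Finite ↥D ∧ IsPGroup p ↥D then inducedFunctor W D else ⊥).map f
    by_cases hc : Finite ↥D ∧ IsPGroup p ↥D
    · have := hc.1
      have hc' : Finite ↥(D.map f) ∧ IsPGroup p ↥(D.map f) :=
        ⟨Finite.of_equiv _ (equivMapOfInfKer f D h).toEquiv,
          hc.2.of_equiv (equivMapOfInfKer f D h)⟩
      rw [if_pos hc, if_pos hc']
      exact inducedFunctor_map hW f D h hc.2
    · have hc' : ¬ (Finite ↥(D.map f) ∧ IsPGroup p ↥(D.map f)) := by
        rintro ⟨h1, h2⟩
        have := h1
        exact hc ⟨Finite.of_equiv _ (equivMapOfInfKer f D h).symm.toEquiv,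
          h2.of_equiv (equivMapOfInfKer f D h).symm⟩
      rw [if_neg hc, if_neg hc', Subgroup.map_bot]
  ne_bot := fun D hD hne => by
    show (if Finite ↥D ∧ IsPGroup p ↥D then inducedFunctor W D else ⊥) ≠ ⊥
    rw [if_pos ⟨inferInstance, hD⟩]
    intro h
    have h1 : W ↥D = ⊥ := (Subgroup.map_eq_bot_iff_of_injective _ D.subtype_injective).mp h
    have : Nontrivial ↥D := (Subgroup.nontrivial_iff_ne_bot D).mpr hne
    exact hW.1 ↥D hD inferInstance h1

theorem cfChar_apply {p : ℕ} {W : ∀ (Q : Type u) [Group Q], Subgroup Q}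
    (hW : IsCharPFunctor.{u} p W) {X : Type u} [Group X] [Finite X] (D : Subgroup X)
    (hD : IsPGroup p ↥D) : (cfChar p W hW).W D = inducedFunctor W D := by
  classical
  exact if_pos ⟨inferInstance, hD⟩

theorem pCore_map_equiv {p : ℕ} {Q Y : Type*} [Group Q] [Group Y] (e : Q ≃* Y) :
    (pCore p Q).map e.toMonoidHom = pCore p Y := by
  apply le_antisymm
  · exact le_pCore' ((pCore_normal' p Q).map _ e.surjective) ((pCore_isPGroup' p Q).map _)
  · have h1 : (pCore p Y).map e.symm.toMonoidHom ≤ pCore p Q :=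
      le_pCore' ((pCore_normal' p Y).map _ e.symm.surjective) ((pCore_isPGroup' p Y).map _)
    intro y hy
    exact ⟨e.symm y, h1 ⟨y, hy, rfl⟩, e.apply_symm_apply y⟩

/-- the local hypothesis of the functorial Thompson criterion, for one group -/
def LocNormal (p : ℕ) (W : ∀ (Q : Type u) [Group Q], Subgroup Q) (Y : Type u) [Group Y] :
    Prop :=
  Subgroup.centralizer (pCore p Y : Set Y) ≤ pCore p Y →
    HasNormalPComplement p (Y ⧸ pCore p Y) →
    ∀ T : Sylow p Y, IsCoatom (T : Subgroup Y) → (inducedFunctor W (T : Subgroup Y)).Normal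

variable {p : ℕ} [Fact p.Prime] {W : ∀ (Q : Type u) [Group Q], Subgroup Q}

theorem locNormal_of_equiv (hW : IsCharPFunctor.{u} p W) {Q Y : Type u} [Group Q] [Group Y]
    [Finite Q] (e : Q ≃* Y) (h : LocNormal p W Q) : LocNormal p W Y := by
  have : Finite Y := Finite.of_equiv Q e.toEquiv
  intro hcY hqY T hT
  have hmap : (pCore p Q).map e.toMonoidHom = pCore p Y := pCore_map_equiv e
  have hcQ : Subgroup.centralizer (pCore p Q : Set Q) ≤ pCore p Q := by
    intro x hx
    have h1 : e x ∈ Subgroup.centralizer (pCore p Y : Set Y) := by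
      rw [Subgroup.mem_centralizer_iff]
      intro y hy
      rw [SetLike.mem_coe, ← hmap] at hy
      obtain ⟨q, hq, rfl⟩ := hy
      have h2 := Subgroup.mem_centralizer_iff.mp hx q hq
      show e q * e x = e x * e q
      rw [← map_mul, ← map_mul, h2]
    have h3 := hcY h1
    rw [← hmap] at h3
    obtain ⟨q, hq, hqx⟩ := h3
    have : q = x := e.injective hqx
    rw [← this]; exact hq
  have hqQ : HasNormalPComplement p (Q ⧸ pCore p Q) :=
    pn_of_injective (QuotientGroup.congr (pCore p Q) (pCore p Y) e hmap).toMonoidHom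
      (QuotientGroup.congr (pCore p Q) (pCore p Y) e hmap).injective hqY
  obtain ⟨T', hT'⟩ : ∃ T' : Sylow p Q,
      (T' : Subgroup Q) = (T : Subgroup Y).map e.symm.toMonoidHom :=
    ⟨Sylow.mapSurjective (f := e.symm.toMonoidHom) e.symm.surjective T,
      Sylow.coe_mapSurjective _ _⟩
  have hT'co : IsCoatom (T' : Subgroup Q) := by
    rw [hT']
    exact (OrderIso.isCoatom_iff (MulEquiv.mapSubgroup e.symm) (T : Subgroup Y)).mpr hT
  have hn := h hcQ hqQ T' hT'co
  have hTT' : (T : Subgroup Y) = (T' : Subgroup Q).map e.toMonoidHom := by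
    rw [hT', Subgroup.map_map]
    have : e.toMonoidHom.comp e.symm.toMonoidHom = MonoidHom.id Y := by
      ext y; exact e.apply_symm_apply y
    rw [this, Subgroup.map_id]
  have hker : (T' : Subgroup Q) ⊓ e.toMonoidHom.ker = ⊥ := by
    have : e.toMonoidHom.ker = ⊥ := (MonoidHom.ker_eq_bot_iff _).mpr e.injective
    rw [this, inf_bot_eq]
  have himg := inducedFunctor_map hW e.toMonoidHom (T' : Subgroup Q) hker T'.isPGroup'
  rw [hTT', himg]
  exact hn.map _ e.surjective

theorem th_final_char (hW : IsCharPFunctor.{u} p W) {G : Type u} [Group G] [Finite G]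
    (P : Sylow p G) (hloc : LocNormal p W G) (hO' : pPrimeCore p G = ⊥)
    (star : ∀ M : Subgroup G, (P : Subgroup G) ≤ M → M ≠ ⊤ → HasNormalPComplement p ↥M)
    (hquot : HasNormalPComplement p (G ⧸ pCore p G))
    (hN : HasNormalPComplement p
      ↥(Subgroup.normalizer ((cfChar p W hW).W (P : Subgroup G) : Set G))) :
    HasNormalPComplement p G := by
  by_contra hnp
  obtain ⟨hE1, -⟩ := th_struct P hO' star hquot
  have hHn : (pCore p G).Normal := pCore_normal' p G
  have hHp : IsPGroup p ↥(pCore p G) := pCore_isPGroup' p G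
  have hHP : pCore p G ≤ (P : Subgroup G) := hHp.le_sylow_of_normal P
  have hco : IsCoatom (P : Subgroup G) := by
    refine ⟨?_, fun M hPM => ?_⟩
    · intro htop
      apply hnp
      have hPn : (P : Subgroup G).Normal := by rw [htop]; infer_instance
      exact pn_of_eq_top _ (eq_top_iff.mpr ((Subgroup.normalizer_eq_top_iff.mpr hPn).ge.trans
        ((cfChar p W hW).normalizer_le _))) hN
    · by_contra hM
      have h1 := star M hPM.le hM
      have h2 : IsPGroup p ↥M :=
        pn_isPGroup_of_centralizer_le M (pCore p G) (hHP.trans hPM.le) hHp hE1 h1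
      have h3 := P.is_maximal' h2 hPM.le
      exact hPM.ne h3.symm
  have hnorm := hloc hE1 hquot P hco
  rw [← cfChar_apply hW (P : Subgroup G) P.isPGroup'] at hnorm
  exact hnp (pn_of_eq_top _ (Subgroup.normalizer_eq_top_iff.mpr hnorm) hN)

/-- **Thompson's criterion in functor form** -/
theorem th_char_main (hW : IsCharPFunctor.{u} p W) {G : Type u} [Group G] [Finite G]
    (S : Sylow p G)
    (hN : HasNormalPComplement p ↥(Subgroup.normalizer
      ((inducedFunctor (G := G) W (S : Subgroup G) : Subgroup G) : Set G)))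
    (hloc : ∀ (Y : Type u) [Group Y], Involves Y G → LocNormal p W Y) :
    HasNormalPComplement p G := by
  have hN' : HasNormalPComplement p
      ↥(Subgroup.normalizer ((cfChar p W hW).W (S : Subgroup G) : Set G)) := by
    rw [cfChar_apply hW (S : Subgroup G) S.isPGroup']; exact hN
  exact th_main_aux (cfChar p W hW) (cfChar p W hW)
    (fun X _ => ∀ (Y : Type u) [Group Y], Involves Y X → LocNormal p W Y)
    (fun X _ _ M h Y _ hY => h Y (involves_of_subgroup M hY))
    (fun X _ _ L _ h Y _ hY => h Y (involves_of_quotient L hY))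
    (fun G' _ _ P hΦ hO' star hquot hN₁ _ =>
      th_final_char hW P (hΦ G' (involves_refl G')) hO' star hquot hN₁)
    _ G rfl S hloc hN' (pn_centralizer_of_normalizer _ hN')

end CharFun

end Cfsg.Agent.Lib.Helper3
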