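import Cfsg.Agent.Lib.Helper3.GT13
import Cfsg.Agent.Lib.Helper2.Frobenius

/-! Normal `p`-complements from functors controlling strong fusion in `p`-stable sections. -/

namespace Cfsg.Agent.Lib.Helper3

open Cfsg
open Cfsg.Agent.Lib.Helper2 (hasNormalPComplement_iff)

universe u v w

section PStructSec

/-- a group with a normal `p`-subgroup `H` and a normal subgroup `K` of `p`-power index with
`K / (K ∩ H)` an abelian `p'`-group (of exponent prime to `p`) -/
def PStruct (p : ℕ) (X : Type*) [Group X] : Prop :=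
  ∃ H K : Subgroup X, H.Normal ∧ K.Normal ∧ IsPGroup p H ∧ ⁅K, K⁆ ≤ H ∧
    (∃ m : ℕ, m.Coprime p ∧ ∀ k ∈ K, k ^ m ∈ H) ∧ ∃ a : ℕ, K.index = p ^ a

variable {p : ℕ} [Fact p.Prime]

theorem pstruct_subgroup {X : Type*} [Group X] (M : Subgroup X) (h : PStruct p X) :
    PStruct p ↥M := by
  have hp : p.Prime := Fact.out
  obtain ⟨H, K, hHn, hKn, hHp, hKK, ⟨m, hm, hKm⟩, a, hKi⟩ := h
  refine ⟨H.subgroupOf M, K.subgroupOf M, inferInstance, inferInstance, hHp.comap_subtype, ?_,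
    ⟨m, hm, ?_⟩, ?_⟩
  · rw [Subgroup.commutator_le]
    intro x hx y hy
    rw [Subgroup.mem_subgroupOf]
    exact hKK (Subgroup.commutator_mem_commutator (Subgroup.mem_subgroupOf.mp hx)
      (Subgroup.mem_subgroupOf.mp hy))
  · intro k hk
    rw [Subgroup.mem_subgroupOf]
    exact hKm _ (Subgroup.mem_subgroupOf.mp hk)
  · have h1 : (K.subgroupOf M).index ∣ p ^ a := hKi ▸ Subgroup.relIndex_dvd_index_of_normal K M
    obtain ⟨c, -, hc⟩ := (Nat.dvd_prime_pow hp).mp h1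
    exact ⟨c, hc⟩

theorem pstruct_surj {X Y : Type*} [Group X] [Group Y] (f : X →* Y)
    (hf : Function.Surjective f) (h : PStruct p X) : PStruct p Y := by
  have hp : p.Prime := Fact.out
  obtain ⟨H, K, hHn, hKn, hHp, hKK, ⟨m, hm, hKm⟩, a, hKi⟩ := h
  refine ⟨H.map f, K.map f, hHn.map f hf, hKn.map f hf, hHp.map f, ?_, ⟨m, hm, ?_⟩, ?_⟩
  · rw [← Subgroup.map_commutator]
    exact Subgroup.map_mono hKK
  · rintro _ ⟨k, hk, rfl⟩
    rw [← map_pow]
    exact Subgroup.mem_map_of_mem f (hKm k hk)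
  · have h1 : (K.map f).index ∣ p ^ a := hKi ▸ Subgroup.index_map_dvd K hf
    obtain ⟨c, -, hc⟩ := (Nat.dvd_prime_pow hp).mp h1
    exact ⟨c, hc⟩

theorem pstruct_involves {Z : Type u} {X : Type v} [Group Z] [Group X] (hZ : Involves Z X)
    (h : PStruct p X) : PStruct p Z := by
  obtain ⟨K₀, f, hf⟩ := exists_surj_of_involves hZ
  exact pstruct_surj f hf (pstruct_subgroup K₀ h)

theorem finite_of_involves {Z : Type u} {X : Type v} [Group Z] [Group X] [Finite X]
    (hZ : Involves Z X) : Finite Z := by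
  obtain ⟨K₀, f, hf⟩ := exists_surj_of_involves hZ
  exact Finite.of_surjective f hf

theorem centralizer_subgroupOf_eq {Z : Type*} [Group Z] (P₀ N : Subgroup Z) (hPN : P₀ ≤ N) :
    Subgroup.centralizer ((P₀.subgroupOf N : Subgroup ↥N) : Set ↥N) =
      (Subgroup.centralizer (P₀ : Set Z)).subgroupOf N := by
  ext x
  rw [Subgroup.mem_centralizer_iff, Subgroup.mem_subgroupOf, Subgroup.mem_centralizer_iff]
  constructor
  · intro h z hz
    have := h ⟨z, hPN hz⟩ (Subgroup.mem_subgroupOf.mpr hz)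
    exact congrArg Subtype.val this
  · intro h b hb
    exact Subtype.ext (h (b : Z) (Subgroup.mem_subgroupOf.mp hb))

omit [Fact p.Prime] in
theorem mem_pCore_quot_congr {N : Type*} [Group N] (C₁ C₂ : Subgroup N) [C₁.Normal]
    [C₂.Normal] (h : C₁ = C₂) (a : N)
    (ha : (QuotientGroup.mk a : N ⧸ C₁) ∈ pCore p (N ⧸ C₁)) :
    (QuotientGroup.mk a : N ⧸ C₂) ∈ pCore p (N ⧸ C₂) := by
  subst h
  exact ha

/-- groups with the structure `PStruct` are `p`-stable in the normalizer form (`p` odd) -/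
theorem nstable_of_pstruct (hp2 : p ≠ 2) {Z : Type u} [Group Z] [Finite Z]
    (h : PStruct p Z) : IsNormalizerPStable p Z := by
  intro P₀ hP₀ g hg hq
  obtain ⟨H, K, hHn, hKn, hHp, hKK, ⟨m, hm, hKm⟩, a, hKi⟩ :=
    pstruct_subgroup (Subgroup.normalizer (P₀ : Set Z)) h
  have hle : H ≤ pCore p ↥(Subgroup.normalizer (P₀ : Set Z)) := le_pCore' hHn hHp
  have hst := pstable_of_structure hp2 K (hKK.trans hle) hm (fun k hk => hle (hKm k hk)) hKi
  have hBp : IsPGroup p ↥(P₀.subgroupOf (Subgroup.normalizer (P₀ : Set Z))) :=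
    hP₀.comap_subtype
  have hB := hst (P₀.subgroupOf (Subgroup.normalizer (P₀ : Set Z))) hBp
  have hq' : ⁅⁅P₀.subgroupOf (Subgroup.normalizer (P₀ : Set Z)),
      Subgroup.zpowers (⟨g, hg⟩ : ↥(Subgroup.normalizer (P₀ : Set Z)))⁆,
      Subgroup.zpowers (⟨g, hg⟩ : ↥(Subgroup.normalizer (P₀ : Set Z)))⁆ = ⊥ := by
    apply (Subgroup.map_eq_bot_iff_of_injective _ (Subgroup.subtype_injective _)).mp
    rw [Subgroup.map_commutator, Subgroup.map_commutator, MonoidHom.map_zpowers,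
      Subgroup.map_subgroupOf_eq_of_le Subgroup.le_normalizer]
    exact hq
  have h1 := hB ⟨g, hg⟩ hq'
  exact mem_pCore_quot_congr _ _ (centralizer_subgroupOf_eq P₀ _ Subgroup.le_normalizer) _ h1

end PStructSec

section Ctl

variable {p : ℕ} [Fact p.Prime]

theorem csf_of_equiv {Q Y : Type*} [Group Q] [Group Y] [Finite Q] (e : Q ≃* Y)
    (U : Subgroup Q) (h : ControlsStrongFusion p U) :
    ControlsStrongFusion p (U.map e.toMonoidHom) := by
  obtain ⟨T₀, hUT, hctl⟩ := h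
  have hsurj : Function.Surjective ⇑e.toMonoidHom := e.surjective
  obtain ⟨T₁, hT₁⟩ : ∃ T₁ : Sylow p Y,
      (T₁ : Subgroup Y) = (T₀ : Subgroup Q).map e.toMonoidHom :=
    ⟨Sylow.mapSurjective hsurj T₀, Sylow.coe_mapSurjective _ _⟩
  refine ⟨T₁, ?_, ?_⟩
  · rw [hT₁]; exact Subgroup.map_mono hUT
  · intro A hA
    rw [hT₁] at hA ⊢
    have hA' : (e ⁻¹' A) ⊆ ((T₀ : Subgroup Q) : Set Q) := by
      intro q hq
      obtain ⟨t, ht, hte⟩ := hA hq
      have : t = q := e.injective hte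
      rw [← this]; exact ht
    obtain ⟨-, h2⟩ := hctl (e ⁻¹' A) hA'
    refine ⟨hA, ?_⟩
    intro g hg
    have hg' : (fun a => e.symm g * a * (e.symm g)⁻¹) '' (e ⁻¹' A) ⊆
        ((T₀ : Subgroup Q) : Set Q) := by
      rintro _ ⟨q, hq, rfl⟩
      have h3 : g * e q * g⁻¹ ∈ ((T₀ : Subgroup Q).map e.toMonoidHom : Set Y) :=
        hg ⟨e q, hq, rfl⟩
      obtain ⟨t, ht, hte⟩ := h3
      have h4 : e (e.symm g * q * (e.symm g)⁻¹) = g * e q * g⁻¹ := by
        rw [map_mul, map_mul, map_inv, e.apply_symm_apply]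
      have : t = e.symm g * q * (e.symm g)⁻¹ := e.injective (hte.trans h4.symm)
      show e.symm g * q * (e.symm g)⁻¹ ∈ ((T₀ : Subgroup Q) : Set Q)
      rw [← this]; exact ht
    obtain ⟨x, hx, hxa⟩ := h2 (e.symm g) hg'
    refine ⟨e x, Subgroup.le_normalizer_map e.toMonoidHom (Subgroup.mem_map_of_mem _ hx), ?_⟩
    intro a ha
    have h5 := hxa (e.symm a) (by show e (e.symm a) ∈ A; rw [e.apply_symm_apply]; exact ha)
    have h6 := congrArg e h5
    rw [map_mul, map_mul, map_inv, map_mul, map_mul, map_inv, e.apply_symm_apply,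
      e.apply_symm_apply] at h6
    exact h6

variable {W : ∀ (Q : Type u) [Group Q], Subgroup Q}

/-- the local hypothesis "the functor controls strong fusion in `p`-stable sections" -/
def LocCtl (p : ℕ) (W : ∀ (Q : Type u) [Group Q], Subgroup Q) (Y : Type u) [Group Y] : Prop :=
  (∀ (Z : Type u) [Group Z], Involves Z Y → IsNormalizerPStable p Z) →
    ∀ T : Sylow p Y, ControlsStrongFusion p (inducedFunctor W (T : Subgroup Y))

theorem locCtl_of_equiv (hW : IsCharPFunctor.{u} p W) {Q Y : Type u} [Group Q] [Group Y]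
    [Finite Q] (e : Q ≃* Y) (h : LocCtl p W Q) : LocCtl p W Y := by
  have : Finite Y := Finite.of_equiv Q e.toEquiv
  intro hstY T
  have hstQ : ∀ (Z : Type u) [Group Z], Involves Z Q → IsNormalizerPStable p Z :=
    fun Z _ hZ => hstY Z (involves_trans hZ (involves_of_equiv e.symm))
  obtain ⟨T', hT'⟩ : ∃ T' : Sylow p Q,
      (T' : Subgroup Q) = (T : Subgroup Y).map e.symm.toMonoidHom :=
    ⟨Sylow.mapSurjective (f := e.symm.toMonoidHom) e.symm.surjective T,
      Sylow.coe_mapSurjective _ _⟩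
  have hc := csf_of_equiv e _ (h hstQ T')
  have hTT' : (T : Subgroup Y) = (T' : Subgroup Q).map e.toMonoidHom := by
    rw [hT', Subgroup.map_map]
    have : e.toMonoidHom.comp e.symm.toMonoidHom = MonoidHom.id Y := by
      ext y; exact e.apply_symm_apply y
    rw [this, Subgroup.map_id]
  have hker : (T' : Subgroup Q) ⊓ e.toMonoidHom.ker = ⊥ := by
    have : e.toMonoidHom.ker = ⊥ := (MonoidHom.ker_eq_bot_iff _).mpr e.injective
    rw [this, inf_bot_eq]
  have himg := inducedFunctor_map hW e.toMonoidHom (T' : Subgroup Q) hker T'.isPGroup'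
  rw [hTT', himg]
  exact hc

theorem th_final_ctl (hp2 : p ≠ 2) (hW : IsCharPFunctor.{u} p W) {G : Type u} [Group G]
    [Finite G] (P : Sylow p G) (hloc : LocCtl p W G) (hO' : pPrimeCore p G = ⊥)
    (star : ∀ M : Subgroup G, (P : Subgroup G) ≤ M → M ≠ ⊤ → HasNormalPComplement p ↥M)
    (hquot : HasNormalPComplement p (G ⧸ pCore p G))
    (hN : HasNormalPComplement p
      ↥(Subgroup.normalizer ((cfChar p W hW).W (P : Subgroup G) : Set G))) :
    HasNormalPComplement p G := by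
  have hp : p.Prime := Fact.out
  obtain ⟨-, K, hKn, -, ⟨a, hKi⟩, hKK, m, hm, hKm⟩ := th_struct P hO' star hquot
  have hPS : PStruct p G :=
    ⟨pCore p G, K, pCore_normal' p G, hKn, pCore_isPGroup' p G, hKK, ⟨m, hm, hKm⟩, a, hKi⟩
  have hst : ∀ (Z : Type u) [Group Z], Involves Z G → IsNormalizerPStable p Z := by
    intro Z _ hZ
    have : Finite Z := finite_of_involves hZ
    exact nstable_of_pstruct hp2 (pstruct_involves hZ hPS)
  obtain ⟨T₀, hUT, hctl⟩ := hloc hst P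
  rw [← cfChar_apply hW (P : Subgroup G) P.isPGroup'] at hUT hctl
  obtain ⟨U, hU⟩ : ∃ U : Subgroup G, U = (cfChar p W hW).W (P : Subgroup G) := ⟨_, rfl⟩
  rw [← hU] at hUT hctl hN
  -- `T₀` is conjugate to `P`
  obtain ⟨h, hh⟩ := MulAction.exists_smul_eq G T₀ P
  have hPT : (P : Subgroup G) = (T₀ : Subgroup G).map (MulAut.conj h).toMonoidHom := by
    rw [← hh]; ext x; exact Iff.rfl
  have hker : (T₀ : Subgroup G) ⊓ (MulAut.conj h).toMonoidHom.ker = ⊥ := by
    have : (MulAut.conj h).toMonoidHom.ker = ⊥ :=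
      (MonoidHom.ker_eq_bot_iff _).mpr (MulAut.conj h).injective
    rw [this, inf_bot_eq]
  obtain ⟨U₀, hU₀⟩ : ∃ U₀ : Subgroup G, U₀ = (cfChar p W hW).W (T₀ : Subgroup G) := ⟨_, rfl⟩
  have hUU₀ : U = U₀.map (MulAut.conj h).toMonoidHom := by
    rw [hU, hU₀, hPT]
    exact (cfChar p W hW).map _ _ hker
  have hU₀T : U₀ ≤ (T₀ : Subgroup G) := by rw [hU₀]; exact (cfChar p W hW).le _
  -- `U` is weakly closed in `T₀`
  have hU₀U : U₀ = U := by
    obtain ⟨-, h2⟩ := hctl (U : Set G) hUT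
    have himg : (fun a => h⁻¹ * a * h⁻¹⁻¹) '' (U : Set G) ⊆ ((T₀ : Subgroup G) : Set G) := by
      rintro _ ⟨u, hu, rfl⟩
      rw [SetLike.mem_coe, hUU₀] at hu
      obtain ⟨u₀, hu₀, rfl⟩ := hu
      have e : h⁻¹ * (h * u₀ * h⁻¹) * h⁻¹⁻¹ = u₀ := by group
      show h⁻¹ * (h * u₀ * h⁻¹) * h⁻¹⁻¹ ∈ (T₀ : Subgroup G)
      rw [e]; exact hU₀T hu₀
    obtain ⟨x, hx, hxu⟩ := h2 h⁻¹ himg
    have hle : U₀ ≤ U := by
      intro u₀ hu₀
      have hu : h * u₀ * h⁻¹ ∈ U := by rw [hUU₀]; exact ⟨u₀, hu₀, rfl⟩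
      have h3 := hxu _ hu
      have e : h⁻¹ * (h * u₀ * h⁻¹) * h⁻¹⁻¹ = u₀ := by group
      rw [e] at h3
      rw [h3]
      exact (Subgroup.mem_normalizer_iff.mp hx _).mp hu
    have hc : Nat.card ↥U = Nat.card ↥U₀ := by
      rw [hUU₀]; exact Subgroup.card_map_of_injective (MulAut.conj h).injective
    exact Subgroup.eq_of_le_of_card_ge hle hc.le
  have hTN : (T₀ : Subgroup G) ≤ Subgroup.normalizer (U : Set G) := by
    rw [← hU₀U, hU₀]
    exact Subgroup.le_normalizer.trans ((cfChar p W hW).normalizer_le _)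
  -- the normal `p`-complement of `N(U)`
  rw [hasNormalPComplement_iff] at hN
  obtain ⟨Yn, hYn, hYc, b, hYb⟩ := hN
  apply Cfsg.Agent.Lib.Helper2.frobenius
  apply Cfsg.Agent.Lib.Helper2.frobCond_of_sylow T₀
  intro Q hQT g hg hgp
  obtain ⟨-, h2⟩ := hctl (Q : Set G) hQT
  have hgQ : ∀ a ∈ Q, g * a * g⁻¹ ∈ Q := fun a ha =>
    (Subgroup.mem_normalizer_iff.mp hg a).mp ha
  have himg : (fun a => g * a * g⁻¹) '' (Q : Set G) ⊆ ((T₀ : Subgroup G) : Set G) := by
    rintro _ ⟨a, ha, rfl⟩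
    exact hQT (hgQ a ha)
  obtain ⟨x, hx, hxa⟩ := h2 g himg
  have hpow : ∀ (i : ℕ), ∀ a ∈ Q, g ^ i * a * (g ^ i)⁻¹ = x ^ i * a * (x ^ i)⁻¹ := by
    intro i
    induction i with
    | zero => intro a _; simp
    | succ i ih =>
      intro a ha
      have h3 : g ^ (i + 1) * a * (g ^ (i + 1))⁻¹ = g ^ i * (g * a * g⁻¹) * (g ^ i)⁻¹ := by
        rw [pow_succ]; group
      have h4 : x ^ (i + 1) * a * (x ^ (i + 1))⁻¹ = x ^ i * (x * a * x⁻¹) * (x ^ i)⁻¹ := by
        rw [pow_succ]; group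
      rw [h3, h4, ih _ (hgQ a ha), hxa a ha]
  have hx0 : orderOf x ≠ 0 := (orderOf_pos x).ne'
  obtain ⟨k, r, hr, hkr⟩ := Nat.exists_eq_pow_mul_and_not_dvd hx0 p hp.ne_one
  obtain ⟨y, hy⟩ : ∃ y, y = x ^ (p ^ k) := ⟨_, rfl⟩
  have hyN : y ∈ Subgroup.normalizer (U : Set G) := by rw [hy]; exact Subgroup.pow_mem _ hx _
  have hyr : y ^ r = 1 := by rw [hy, ← pow_mul, ← hkr]; exact pow_orderOf_eq_one x
  have hyY : (⟨y, hyN⟩ : ↥(Subgroup.normalizer (U : Set G))) ∈ Yn := by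
    refine Cfsg.Agent.Lib.Helper2.mem_of_index_pow_of_coprime_orderOf Yn hYb _ ?_
    have h5 : orderOf (⟨y, hyN⟩ : ↥(Subgroup.normalizer (U : Set G))) ∣ r := by
      apply orderOf_dvd_of_pow_eq_one
      exact Subtype.ext hyr
    exact Nat.Coprime.coprime_dvd_left h5 ((Nat.Prime.coprime_iff_not_dvd hp).mpr hr).symm
  have hinf : Q ⊓ Yn.map (Subgroup.normalizer (U : Set G)).subtype = ⊥ := by
    refine inf_eq_bot_of_coprime' (T₀.isPGroup'.to_le hQT) ?_
    rw [Subgroup.card_map_of_injective (Subgroup.subtype_injective _)]; exact hYc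
  have hyQ : ∀ a ∈ Q, y * a * y⁻¹ = a := by
    intro a ha
    have haN : a ∈ Subgroup.normalizer (U : Set G) := hTN (hQT ha)
    have h6 : y * a * y⁻¹ ∈ Q := by
      have := hpow (p ^ k) a ha
      rw [hy, ← this]
      exact (Subgroup.mem_normalizer_iff.mp (Subgroup.pow_mem _ hg _) a).mp ha
    have h7 : y * a * y⁻¹ * a⁻¹ ∈ Q ⊓ Yn.map (Subgroup.normalizer (U : Set G)).subtype := by
      refine ⟨Q.mul_mem h6 (Q.inv_mem ha), ?_⟩
      refine ⟨(⟨y, hyN⟩ : ↥(Subgroup.normalizer (U : Set G))) *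
        (⟨a, haN⟩ * ⟨y, hyN⟩⁻¹ * ⟨a, haN⟩⁻¹), ?_, ?_⟩
      · exact Yn.mul_mem hyY (hYn.conj_mem _ (Yn.inv_mem hyY) _)
      · show y * (a * y⁻¹ * a⁻¹) = y * a * y⁻¹ * a⁻¹
        group
    rw [hinf, Subgroup.mem_bot] at h7
    exact mul_inv_eq_one.mp h7
  have hgk : ∀ a ∈ Q, g ^ (p ^ k) * a * (g ^ (p ^ k))⁻¹ = a := by
    intro a ha
    rw [hpow (p ^ k) a ha, ← hy]; exact hyQ a ha
  obtain ⟨j, hj⟩ := exists_pow_eq_self_of_coprime (x := g) (Nat.Coprime.pow_left k hgp.symm)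
  rw [Subgroup.mem_centralizer_iff]
  intro a ha
  have hc : Commute (g ^ (p ^ k)) a := mul_inv_eq_iff_eq_mul.mp (hgk a ha)
  have hc' : Commute ((g ^ (p ^ k)) ^ j) a := hc.pow_left j
  rw [hj] at hc'
  exact hc'.eq.symm

/-- normal `p`-complements from a functor controlling strong fusion in `p`-stable sections -/
theorem th_ctl_main (hp2 : p ≠ 2) (hW : IsCharPFunctor.{u} p W) {G : Type u} [Group G]
    [Finite G] (S : Sylow p G)
    (hN : HasNormalPComplement p ↥(Subgroup.normalizer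
      ((inducedFunctor (G := G) W (S : Subgroup G) : Subgroup G) : Set G)))
    (hloc : ∀ (Y : Type u) [Group Y], Involves Y G → LocCtl p W Y) :
    HasNormalPComplement p G := by
  have hN' : HasNormalPComplement p
      ↥(Subgroup.normalizer ((cfChar p W hW).W (S : Subgroup G) : Set G)) := by
    rw [cfChar_apply hW (S : Subgroup G) S.isPGroup']; exact hN
  exact th_main_aux (cfChar p W hW) (cfChar p W hW)
    (fun X _ => ∀ (Y : Type u) [Group Y], Involves Y X → LocCtl p W Y)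
    (fun X _ _ M h Y _ hY => h Y (involves_of_subgroup M hY))
    (fun X _ _ L _ h Y _ hY => h Y (involves_of_quotient L hY))
    (fun G' _ _ P hΦ hO' star hquot hN₁ _ =>
      th_final_ctl hp2 hW P (hΦ G' (involves_refl G')) hO' star hquot hN₁)
    _ G rfl S hloc hN' (pn_centralizer_of_normalizer _ hN')

end Ctl

end Cfsg.Agent.Lib.Helper3
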