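import Cfsg.Agent.Lib.Helper3.GT14

/-! A ring lemma for Engel-type conditions: if `g` is a unit of a ring of characteristic `p` with
`(g - 1)^(p-1) = 0`, normalizing a commutative subring `B`, then conjugation by `g` fixes every
unit `a` of `B` for which `g a g⁻¹ a⁻¹` has order prime to `p`. -/

set_option autoImplicit false
set_option linter.style.haveILetI false

namespace Cfsg.Agent.Lib.Helper3

open Cfsg
open scoped commutatorElement

section HHRing

variable {R : Type*} [Ring R]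

/-- in characteristic `p`, `1 + x + ⋯ + x^(p-1) = (x - 1)^(p-1)` -/
theorem hh_geom_sum_eq {p : ℕ} (hp : p.Prime) (hpR : (p : R) = 0) (x : R) :
    ∑ i ∈ Finset.range p, x ^ i = (x - 1) ^ (p - 1) := by
  rcases subsingleton_or_nontrivial R with hs | hn
  · exact Subsingleton.elim _ _
  · haveI : Fact p.Prime := ⟨hp⟩
    haveI : CharP R p := (CharP.charP_iff_prime_eq_zero hp).mpr hpR
    letI : Algebra (ZMod p) R := ZMod.algebra R p
    have key : (∑ i ∈ Finset.range p, (Polynomial.X : Polynomial (ZMod p)) ^ i) =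
        (Polynomial.X - 1) ^ (p - 1) := by
      have hne : (Polynomial.X - 1 : Polynomial (ZMod p)) ≠ 0 := by
        rw [← Polynomial.C_1]; exact Polynomial.X_sub_C_ne_zero 1
      apply mul_right_cancel₀ hne
      rw [geom_sum_mul, ← pow_succ, Nat.sub_add_cancel hp.one_le, sub_pow_char, one_pow]
    have := congrArg (Polynomial.aeval x) key
    simpa using this

theorem hh_inv_pow {g h : R} (hhg : h * g = 1) (i : ℕ) : h ^ i * g ^ i = 1 := by
  induction i with
  | zero => simp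
  | succ i ih =>
    rw [pow_succ h i, pow_succ' g i]
    calc h ^ i * h * (g * g ^ i) = h ^ i * (h * g) * g ^ i := by noncomm_ring
      _ = 1 := by rw [hhg, mul_one, ih]

theorem hh_conj_mem {g h : R} (B : Subring R) (hB : ∀ x ∈ B, g * x * h ∈ B) (j : ℕ) :
    ∀ x ∈ B, g ^ j * x * h ^ j ∈ B := by
  induction j with
  | zero => intro x hx; simpa using hx
  | succ j ih =>
    intro x hx
    have h1 : g ^ (j + 1) * x * h ^ (j + 1) = g * (g ^ j * x * h ^ j) * h := by
      rw [pow_succ' g j, pow_succ h j]; noncomm_ring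
    rw [h1]
    exact hB _ (ih x hx)

/-- the coefficients in the elimination -/
def hhC (g h : R) (γ : ℕ → R) (p : ℕ) : ℕ → ℕ → R
  | 0, _ => 1
  | k + 1, i => (g ^ (p - k - 1) * γ (p - k - 1) * h ^ (p - k - 1) -
      g ^ i * γ (p - k - 1) * h ^ i) * hhC g h γ p k i

theorem hhC_zero (g h : R) (γ : ℕ → R) (p i : ℕ) : hhC g h γ p 0 i = 1 := rfl

theorem hhC_succ (g h : R) (γ : ℕ → R) (p k i : ℕ) :
    hhC g h γ p (k + 1) i = (g ^ (p - k - 1) * γ (p - k - 1) * h ^ (p - k - 1) -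
      g ^ i * γ (p - k - 1) * h ^ i) * hhC g h γ p k i := rfl

theorem hhC_mem {g h : R} (B : Subring R) (hB : ∀ x ∈ B, g * x * h ∈ B) (γ : ℕ → R)
    (hγ : ∀ d, γ d ∈ B) (p : ℕ) : ∀ k i, hhC g h γ p k i ∈ B := by
  intro k
  induction k with
  | zero => intro i; rw [hhC_zero]; exact B.one_mem
  | succ k ih =>
    intro i
    rw [hhC_succ]
    exact B.mul_mem (B.sub_mem (hh_conj_mem B hB _ _ (hγ _)) (hh_conj_mem B hB _ _ (hγ _))) (ih i)

theorem hh_elim {g h : R} (hhg : h * g = 1) (B : Subring R)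
    (hBc : ∀ x ∈ B, ∀ y ∈ B, x * y = y * x) (hB : ∀ x ∈ B, g * x * h ∈ B) (γ : ℕ → R)
    (hγ : ∀ d, γ d ∈ B) (p : ℕ) (hN : ∑ i ∈ Finset.range p, g ^ i = 0) :
    ∀ k, k ≤ p → ∑ i ∈ Finset.range (p - k), hhC g h γ p k i * g ^ i = 0 := by
  intro k
  induction k with
  | zero =>
    intro _
    simp only [hhC_zero, one_mul, Nat.sub_zero]
    exact hN
  | succ k ih =>
    intro hk
    have ih' := ih (by omega)
    obtain ⟨n', hn'⟩ : ∃ n', p - k = n' + 1 := ⟨p - k - 1, by omega⟩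
    have hn'' : p - (k + 1) = n' := by omega
    have hd : p - k - 1 = n' := by omega
    rw [hn'] at ih'
    rw [hn'']
    obtain ⟨γ', hγ'⟩ : ∃ γ', γ' = γ n' := ⟨_, rfl⟩
    have hγ'B : γ' ∈ B := hγ' ▸ hγ n'
    have hterm : ∀ i, hhC g h γ p (k + 1) i * g ^ i =
        g ^ n' * γ' * h ^ n' * (hhC g h γ p k i * g ^ i) - (hhC g h γ p k i * g ^ i) * γ' := by
      intro i
      rw [hhC_succ, hd, ← hγ']
      have hcB := hhC_mem B hB γ hγ p k i
      obtain ⟨c, hc⟩ : ∃ c, c = hhC g h γ p k i := ⟨_, rfl⟩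
      rw [← hc] at hcB ⊢
      have hcc : c * (g ^ i * γ' * h ^ i) = (g ^ i * γ' * h ^ i) * c :=
        hBc _ hcB _ (hh_conj_mem B hB i γ' hγ'B)
      have h2 : c * g ^ i * γ' = c * (g ^ i * γ' * h ^ i) * g ^ i := by
        calc c * g ^ i * γ' = c * (g ^ i * γ') * (h ^ i * g ^ i) := by
              rw [hh_inv_pow hhg i, mul_one, mul_assoc]
          _ = c * (g ^ i * γ' * h ^ i) * g ^ i := by noncomm_ring
      rw [h2, hcc]
      noncomm_ring
    have hsum : ∑ i ∈ Finset.range (n' + 1), hhC g h γ p (k + 1) i * g ^ i = 0 := by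
      rw [Finset.sum_congr rfl (fun i _ => hterm i), Finset.sum_sub_distrib, ← Finset.mul_sum,
        ← Finset.sum_mul, ih']
      simp
    rw [Finset.sum_range_succ] at hsum
    have hlast : hhC g h γ p (k + 1) n' = 0 := by
      rw [hhC_succ, hd, sub_self, zero_mul]
    rw [hlast, zero_mul, add_zero] at hsum
    exact hsum

theorem hh_ring {p : ℕ} (hp : p.Prime) {g h : R} (hhg : h * g = 1)
    (hN : ∑ i ∈ Finset.range p, g ^ i = 0) (B : Subring R)
    (hBc : ∀ x ∈ B, ∀ y ∈ B, x * y = y * x) (hB : ∀ x ∈ B, g * x * h ∈ B) (x : R) (hx : x ∈ B) :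
    (g * x * h - x) ^ (p - 1) = 0 := by
  have hp1 := hp.one_lt
  have hgp : g ^ p = 1 := by
    have := geom_sum_mul g p
    rw [hN, zero_mul] at this
    exact sub_eq_zero.mp this.symm
  have hhp : h ^ p = 1 := by
    have := hh_inv_pow hhg p
    rw [hgp, mul_one] at this
    exact this
  have hex : ∀ d : ℕ, ∃ e : ℕ, 0 < d → d < p → d * e % p = 1 := by
    intro d
    by_cases hd : 0 < d ∧ d < p
    · have hcop : Nat.Coprime d p := by
        rw [Nat.coprime_comm]
        exact (Nat.Prime.coprime_iff_not_dvd hp).mpr (Nat.not_dvd_of_pos_of_lt hd.1 hd.2)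
      obtain ⟨e, -, he⟩ := Nat.exists_mul_mod_eq_one_of_coprime hcop hp.one_lt
      exact ⟨e, fun _ _ => he⟩
    · exact ⟨0, fun h1 h2 => absurd ⟨h1, h2⟩ hd⟩
  choose e he using hex
  obtain ⟨γ, hγdef⟩ : ∃ γ : ℕ → R,
      γ = fun d => ∑ j ∈ Finset.range (e d), g ^ (d * j) * x * h ^ (d * j) := ⟨_, rfl⟩
  have hγ2 : ∀ d, γ d = ∑ j ∈ Finset.range (e d), g ^ (d * j) * x * h ^ (d * j) := by
    intro d; rw [hγdef]
  have hγB : ∀ d, γ d ∈ B := by
    intro d
    rw [hγ2]
    exact B.sum_mem (fun j _ => hh_conj_mem B hB _ x hx)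
  have hγd : ∀ d, 0 < d → d < p → g ^ d * γ d * h ^ d - γ d = g * x * h - x := by
    intro d hd0 hdp
    have h1 : g ^ d * γ d * h ^ d =
        ∑ j ∈ Finset.range (e d), g ^ (d * (j + 1)) * x * h ^ (d * (j + 1)) := by
      rw [hγ2 d, Finset.mul_sum, Finset.sum_mul]
      apply Finset.sum_congr rfl
      intro j _
      have e1 : g ^ (d * (j + 1)) = g ^ d * g ^ (d * j) := by
        rw [← pow_add]; congr 1; ring
      have e2 : h ^ (d * (j + 1)) = h ^ (d * j) * h ^ d := by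
        rw [← pow_add]; congr 1
      rw [e1, e2]; noncomm_ring
    obtain ⟨q, hq⟩ : ∃ q, d * e d = p * q + 1 := by
      refine ⟨d * e d / p, ?_⟩
      have := Nat.div_add_mod (d * e d) p
      rw [he d hd0 hdp] at this
      exact this.symm
    rw [h1, hγ2 d, ← Finset.sum_sub_distrib,
      Finset.sum_range_sub (fun j => g ^ (d * j) * x * h ^ (d * j)), hq, pow_succ g, pow_succ h,
      pow_mul, pow_mul, hgp, hhp]
    simp
  obtain ⟨y, hy⟩ : ∃ y, y = g * x * h - x := ⟨_, rfl⟩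
  have hcol : ∀ k, k ≤ p - 1 → hhC g h γ p k 0 = y ^ k := by
    intro k
    induction k with
    | zero => intro _; rw [pow_zero, hhC_zero]
    | succ k ih =>
      intro hk
      rw [hhC_succ, ih (by omega), pow_zero, pow_zero, mul_one, one_mul,
        hγd (p - k - 1) (by omega) (by omega), ← hy, pow_succ']
  have hel := hh_elim hhg B hBc hB γ hγB p hN (p - 1) (Nat.sub_le p 1)
  have hp1' : p - (p - 1) = 1 := by omega
  rw [hp1', Finset.sum_range_one, pow_zero, mul_one, hcol (p - 1) le_rfl] at hel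
  rw [← hy]; exact hel

theorem hh_conj_eq {p : ℕ} (hp : p.Prime) (hpR : (p : R) = 0) {g h : R}
    (hhg : h * g = 1) (hu : (g - 1) ^ (p - 1) = 0) (B : Subring R)
    (hBc : ∀ x ∈ B, ∀ y ∈ B, x * y = y * x) (hB : ∀ x ∈ B, g * x * h ∈ B)
    {a a' : R} (ha : a ∈ B) (ha' : a' ∈ B) (haa' : a * a' = 1) {m : ℕ} (hm : m.Coprime p)
    (hb : (g * a * h * a') ^ m = 1) : g * a * h = a := by
  have hN : ∑ i ∈ Finset.range p, g ^ i = 0 := by rw [hh_geom_sum_eq hp hpR, hu]
  have hy := hh_ring hp hhg hN B hBc hB a ha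
  obtain ⟨y, hydef⟩ : ∃ y, y = g * a * h - a := ⟨_, rfl⟩
  rw [← hydef] at hy
  have hyB : y ∈ B := by rw [hydef]; exact B.sub_mem (hB a ha) ha
  obtain ⟨b, hbdef⟩ : ∃ b, b = g * a * h * a' := ⟨_, rfl⟩
  rw [← hbdef] at hb
  have hb1 : b - 1 = y * a' := by rw [hbdef, hydef, sub_mul, haa']
  have hcomm : Commute y a' := hBc y hyB a' ha'
  have hb2 : (b - 1) ^ (p - 1) = 0 := by rw [hb1, hcomm.mul_pow, hy, zero_mul]
  have hbp : b ^ p = 1 := by
    have h1 : ∑ i ∈ Finset.range p, b ^ i = 0 := by rw [hh_geom_sum_eq hp hpR, hb2]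
    have := geom_sum_mul b p
    rw [h1, zero_mul] at this
    exact sub_eq_zero.mp this.symm
  have h2 : b ^ (m.gcd p) = 1 := pow_gcd_eq_one.mpr ⟨hb, hbp⟩
  rw [Nat.Coprime.gcd_eq_one hm, pow_one] at h2
  have ha'a : a' * a = 1 := by rw [← hBc a ha a' ha']; exact haa'
  calc g * a * h = g * a * h * (a' * a) := by rw [ha'a, mul_one]
    _ = b * a := by rw [hbdef]; noncomm_ring
    _ = a := by rw [h2, one_mul]

end HHRing

section RhoEngel

open scoped IsMulCommutative

variable {X : Type*} [Group X] (V : Subgroup X) [V.Normal] [IsMulCommutative ↥V]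

/-- the ring step for an Engel condition: if `K` acts on the elementary abelian normal subgroup
`V` through an abelian `p'`-group and `(a - 1)^(p-1)` kills `V`, then `[a, K]` centralizes `V`. -/
theorem ps_ring_engel {p : ℕ} (hp : p.Prime) (hpV : ∀ v ∈ V, v ^ p = 1)
    (K : Subgroup X) [hKn : K.Normal]
    (hKK : ∀ k ∈ K, ∀ k' ∈ K, k * k' * k⁻¹ * k'⁻¹ ∈ Subgroup.centralizer (V : Set X))
    {m : ℕ} (hm : m.Coprime p) (hKm : ∀ k ∈ K, k ^ m ∈ Subgroup.centralizer (V : Set X))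
    (a : X) (hq : (rhoV V a - 1) ^ (p - 1) = 0)
    (k : X) (hk : k ∈ K) : a * k * a⁻¹ * k⁻¹ ∈ Subgroup.centralizer (V : Set X) := by
  have hcomm : ∀ k₁ ∈ K, ∀ k₂ ∈ K, rhoV V k₁ * rhoV V k₂ = rhoV V k₂ * rhoV V k₁ := by
    intro k₁ h₁ k₂ h₂
    have h := (rhoV_eq_one_iff V _).mpr (hKK k₁ h₁ k₂ h₂)
    have : rhoV V k₁ * rhoV V k₂ = rhoV V (k₁ * k₂ * k₁⁻¹ * k₂⁻¹) * (rhoV V k₂ * rhoV V k₁) := by
      rw [← map_mul, ← map_mul, ← map_mul]; congr 1; group
    rw [this, h, one_mul]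
  have hpR := rhoV_natCast V hpV
  obtain ⟨B, hBdef⟩ : ∃ B : Subring (AddMonoid.End (Additive ↥V)),
      B = Subring.closure (rhoV V '' (K : Set X)) := ⟨_, rfl⟩
  have hBc : ∀ x ∈ B, ∀ y ∈ B, x * y = y * x := by
    have hcc : ∀ x ∈ rhoV V '' (K : Set X), ∀ y ∈ rhoV V '' (K : Set X), x * y = y * x := by
      rintro _ ⟨k₁, h₁, rfl⟩ _ ⟨k₂, h₂, rfl⟩
      exact hcomm k₁ h₁ k₂ h₂
    haveI := Subring.isMulCommutative_closure hcc
    intro x hx y hy
    rw [hBdef] at hx hy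
    exact setLike_mul_comm hx hy
  have hgh : rhoV V a * rhoV V a⁻¹ = 1 := by rw [← map_mul, mul_inv_cancel, map_one]
  have hhg : rhoV V a⁻¹ * rhoV V a = 1 := by rw [← map_mul, inv_mul_cancel, map_one]
  have hB : ∀ x ∈ B, rhoV V a * x * rhoV V a⁻¹ ∈ B := by
    intro x hx
    rw [hBdef] at hx ⊢
    induction hx using Subring.closure_induction with
    | mem x hx =>
      obtain ⟨k₁, hk₁, rfl⟩ := hx
      rw [← map_mul, ← map_mul]
      exact Subring.subset_closure ⟨_, hKn.conj_mem k₁ hk₁ a, rfl⟩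
    | zero => rw [mul_zero, zero_mul]; exact Subring.zero_mem _
    | one => rw [mul_one, hgh]; exact Subring.one_mem _
    | add x y _ _ hx hy => rw [mul_add, add_mul]; exact Subring.add_mem _ hx hy
    | neg x _ hx =>
      have : rhoV V a * -x * rhoV V a⁻¹ = -(rhoV V a * x * rhoV V a⁻¹) := by
        apply AddMonoidHom.ext
        intro v
        show rhoV V a (-(x (rhoV V a⁻¹ v))) = -(rhoV V a (x (rhoV V a⁻¹ v)))
        exact map_neg _ _
      rw [this]; exact Subring.neg_mem _ hx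
    | mul x y _ _ hx hy =>
      have : rhoV V a * (x * y) * rhoV V a⁻¹ =
          (rhoV V a * x * rhoV V a⁻¹) * (rhoV V a * y * rhoV V a⁻¹) := by
        calc rhoV V a * (x * y) * rhoV V a⁻¹
            = rhoV V a * x * 1 * y * rhoV V a⁻¹ := by noncomm_ring
          _ = rhoV V a * x * (rhoV V a⁻¹ * rhoV V a) * y * rhoV V a⁻¹ := by rw [hhg]
          _ = (rhoV V a * x * rhoV V a⁻¹) * (rhoV V a * y * rhoV V a⁻¹) := by noncomm_ring
      rw [this]; exact Subring.mul_mem _ hx hy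
  have hkB : rhoV V k ∈ B := by rw [hBdef]; exact Subring.subset_closure ⟨k, hk, rfl⟩
  have hk'B : rhoV V k⁻¹ ∈ B := by
    rw [hBdef]; exact Subring.subset_closure ⟨k⁻¹, K.inv_mem hk, rfl⟩
  have hw : rhoV V k * rhoV V k⁻¹ = 1 := by rw [← map_mul, mul_inv_cancel, map_one]
  have hk1 : a * k * a⁻¹ ∈ K := hKn.conj_mem k hk a
  have hu : (rhoV V a * rhoV V k * rhoV V a⁻¹ * rhoV V k⁻¹) ^ m = 1 := by
    rw [← map_mul, ← map_mul, ← map_mul, ← map_pow]
    exact (rhoV_eq_one_iff V _).mpr (hKm _ (K.mul_mem hk1 (K.inv_mem hk)))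
  have hfin := hh_conj_eq hp hpR hhg hq B hBc hB hkB hk'B hw hm hu
  rw [← rhoV_eq_one_iff V, map_mul, map_mul, map_mul, hfin, hw]

theorem rhoV_engel_mem (a : X) : ∀ (k : ℕ) (x : Additive ↥V),
    ((Additive.toMul (((rhoV V a - 1) ^ k) x) : ↥V) : X) ∈
      iterCommutator V (Subgroup.zpowers a) k := by
  intro k
  induction k with
  | zero =>
    intro x
    rw [pow_zero]
    exact (Additive.toMul x).2
  | succ k ih =>
    intro x
    rw [pow_succ']
    obtain ⟨y, hy⟩ : ∃ y, y = ((rhoV V a - 1) ^ k) x := ⟨_, rfl⟩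
    have hy' := ih x
    rw [← hy] at hy'
    have h1 : ((rhoV V a - 1) * (rhoV V a - 1) ^ k) x = rhoV V a y - y := by
      rw [hy]; rfl
    rw [h1]
    have h2 : ((Additive.toMul (rhoV V a y - y) : ↥V) : X) =
        a * ((Additive.toMul y : ↥V) : X) * a⁻¹ * ((Additive.toMul y : ↥V) : X)⁻¹ := by
      rw [rhoV_apply]
      show (((MulAut.conjNormal a : MulAut ↥V) (Additive.toMul y) / Additive.toMul y : ↥V) : X) = _
      rw [Subgroup.coe_div, div_eq_mul_inv, MulAut.conjNormal_apply]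
    rw [h2]
    show _ ∈ ⁅iterCommutator V (Subgroup.zpowers a) k, Subgroup.zpowers a⁆
    have h3 : a * ((Additive.toMul y : ↥V) : X) * a⁻¹ * ((Additive.toMul y : ↥V) : X)⁻¹ =
        ⁅((Additive.toMul y : ↥V) : X), a⁆⁻¹ := by
      rw [commutatorElement_def]; group
    rw [h3]
    exact Subgroup.inv_mem _ (Subgroup.commutator_mem_commutator hy' (Subgroup.mem_zpowers a))

theorem rhoV_engel {p : ℕ} (a : X)
    (h : iterCommutator V (Subgroup.zpowers a) (p - 1) = ⊥) : (rhoV V a - 1) ^ (p - 1) = 0 := by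
  apply AddMonoidHom.ext
  intro x
  have h1 := rhoV_engel_mem V a (p - 1) x
  rw [h, Subgroup.mem_bot] at h1
  have h2 : (Additive.toMul (((rhoV V a - 1) ^ (p - 1)) x) : ↥V) = 1 := Subtype.ext h1
  exact congrArg Additive.ofMul h2

end RhoEngel

theorem iterCommutator_map {X Y : Type*} [Group X] [Group Y] (f : X →* Y) (N K : Subgroup X) :
    ∀ k : ℕ, (iterCommutator N K k).map f = iterCommutator (N.map f) (K.map f) k := by
  intro k
  induction k with
  | zero => rfl
  | succ k ih =>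
    show (⁅iterCommutator N K k, K⁆).map f = ⁅iterCommutator (N.map f) (K.map f) k, K.map f⁆
    rw [Subgroup.map_commutator, ih]

end Cfsg.Agent.Lib.Helper3
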