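import Cfsg.Agent.Lib.Helper3.GT15

/-! The functorial normal `p`-complement criterion with an Engel condition on a chief factor. -/

set_option autoImplicit false
set_option linter.style.haveILetI false

namespace Cfsg.Agent.Lib.Helper3

open Cfsg
open Cfsg.Agent.Lib.Helper2 (hasNormalPComplement_iff)
open scoped commutatorElement

universe u

section EngelFalse

/-- in a group with a normal subgroup `K` of `p`-power index and `K / O_p` an abelian `p'`-group,
a `p`-element satisfying the `(p-1)`-Engel condition on a chief factor inside `O_p` centralizes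
that chief factor. -/
theorem engel_false {X : Type*} [Group X] [Finite X] {p : ℕ} [Fact p.Prime]
    (K : Subgroup X) [hKn : K.Normal] {a₀ : ℕ} (hKi : K.index = p ^ a₀)
    (hKK : ⁅K, K⁆ ≤ pCore p X) {m : ℕ} (hm : m.Coprime p) (hKm : ∀ k ∈ K, k ^ m ∈ pCore p X)
    (g : X) {j : ℕ} (hg : g ^ (p ^ j) = 1) (U V : Subgroup X) (hUV : IsChiefFactor U V)
    (hUH : U ≤ pCore p X) (hE : iterCommutator U (Subgroup.zpowers g) (p - 1) ≤ V)
    (hne : ¬ ⁅U, Subgroup.zpowers g⁆ ≤ V) : False := by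
  have hp : p.Prime := Fact.out
  obtain ⟨hlt, hUn, hVn, hmin⟩ := hUV
  haveI := hUn
  haveI := hVn
  haveI hOn := pCore_normal' p X
  obtain ⟨π, hπ⟩ : ∃ π : X →* X ⧸ V, π = QuotientGroup.mk' V := ⟨_, rfl⟩
  have hπs : Function.Surjective π := by rw [hπ]; exact QuotientGroup.mk'_surjective V
  have hker : π.ker = V := by rw [hπ]; exact QuotientGroup.ker_mk' V
  obtain ⟨Ub, hUb⟩ : ∃ Ub, Ub = U.map π := ⟨_, rfl⟩
  haveI hUbn : Ub.Normal := by rw [hUb]; exact hUn.map π hπs
  have hUbp : IsPGroup p Ub := by rw [hUb]; exact ((pCore_isPGroup' p X).to_le hUH).map π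
  have hVbot : V.map π = ⊥ := (Subgroup.map_eq_bot_iff _).mpr (le_of_eq hker.symm)
  have hcomap : ∀ N : Subgroup (X ⧸ V), N ≤ Ub → N.comap π ≤ U := by
    intro N hN x hx
    have h1 : π x ∈ Ub := hN hx
    rw [hUb] at h1
    obtain ⟨u, hu, hux⟩ := h1
    have h2 : u⁻¹ * x ∈ V := by
      rw [← hker, MonoidHom.mem_ker, map_mul, map_inv, hux, inv_mul_cancel]
    have h3 : x = u * (u⁻¹ * x) := by group
    rw [h3]
    exact U.mul_mem hu (hlt.le h2)
  have hminb : ∀ N : Subgroup (X ⧸ V), N.Normal → N ≤ Ub → N = ⊥ ∨ N = Ub := by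
    intro N hN hNU
    have h1 : V ≤ N.comap π := le_of_eq_of_le hker.symm (MonoidHom.ker_le_comap π N)
    rcases hmin (N.comap π) (hN.comap π) h1 (hcomap N hNU) with h | h
    · left
      rw [← Subgroup.map_comap_eq_self_of_surjective hπs N, h]; exact hVbot
    · right
      rw [← Subgroup.map_comap_eq_self_of_surjective hπs N, h, hUb]
  have hUbne : Ub ≠ ⊥ := by
    intro h
    rw [hUb] at h
    have h1 := (Subgroup.map_eq_bot_iff _).mp h
    rw [hker] at h1
    exact absurd (lt_of_lt_of_le hlt h1) (lt_irrefl _)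
  obtain ⟨Hb, hHb⟩ : ∃ Hb, Hb = (pCore p X).map π := ⟨_, rfl⟩
  have hHbp : IsPGroup p Hb := by rw [hHb]; exact (pCore_isPGroup' p X).map π
  haveI hHbn : Hb.Normal := by rw [hHb]; exact hOn.map π hπs
  have hUbHb : Ub ≤ Hb := by rw [hUb, hHb]; exact Subgroup.map_mono hUH
  have hcomm : ⁅Ub, Hb⁆ = ⊥ := by
    rcases hminb ⁅Ub, Hb⁆ inferInstance (Subgroup.commutator_le_left Ub Hb) with h | h
    · exact h
    · exact absurd (eq_bot_of_le_commutator_gt hHbp hUbHb (le_of_eq h.symm)) hUbne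
  have hHbC : Hb ≤ Subgroup.centralizer (Ub : Set (X ⧸ V)) := by
    rw [Subgroup.commutator_comm] at hcomm
    exact Subgroup.commutator_eq_bot_iff_le_centralizer.mp hcomm
  haveI hUbc : IsMulCommutative ↥Ub := by
    apply IsMulCommutative.of_setLike_mul_comm
    intro x hx y hy
    exact Subgroup.mem_centralizer_iff.mp (hHbC (hUbHb hy)) x hx
  have hpV : ∀ v ∈ Ub, v ^ p = 1 := by
    haveI := powerClosure_normal' p 1 Ub
    rcases hminb (powerClosure p 1 Ub) inferInstance (powerClosure_le p 1 Ub) with h | h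
    · intro v hv
      have h1 : v ^ p ^ 1 ∈ powerClosure p 1 Ub := Subgroup.subset_closure ⟨v, hv, rfl⟩
      rw [h, Subgroup.mem_bot, pow_one] at h1
      exact h1
    · exact absurd (eq_bot_of_le_powerClosure_one Ub hUbp (le_of_eq h.symm)) hUbne
  -- the image of K
  obtain ⟨Kb, hKb⟩ : ∃ Kb, Kb = K.map π := ⟨_, rfl⟩
  haveI hKbn : Kb.Normal := by rw [hKb]; exact hKn.map π hπs
  have hKKb : ∀ k ∈ Kb, ∀ k' ∈ Kb,
      k * k' * k⁻¹ * k'⁻¹ ∈ Subgroup.centralizer (Ub : Set (X ⧸ V)) := by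
    intro k hk k' hk'
    rw [hKb] at hk hk'
    obtain ⟨k₁, hk₁, rfl⟩ := hk
    obtain ⟨k₂, hk₂, rfl⟩ := hk'
    have h1 : k₁ * k₂ * k₁⁻¹ * k₂⁻¹ ∈ pCore p X :=
      hKK (Subgroup.commutator_mem_commutator hk₁ hk₂)
    have h2 : π (k₁ * k₂ * k₁⁻¹ * k₂⁻¹) ∈ Hb := by
      rw [hHb]; exact Subgroup.mem_map_of_mem π h1
    rw [map_mul, map_mul, map_mul, map_inv, map_inv] at h2
    exact hHbC h2
  have hKmb : ∀ k ∈ Kb, k ^ m ∈ Subgroup.centralizer (Ub : Set (X ⧸ V)) := by
    intro k hk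
    rw [hKb] at hk
    obtain ⟨k₁, hk₁, rfl⟩ := hk
    rw [← map_pow]
    apply hHbC
    rw [hHb]; exact Subgroup.mem_map_of_mem π (hKm k₁ hk₁)
  -- Engel condition in the quotient
  have hEb : iterCommutator Ub (Subgroup.zpowers (π g)) (p - 1) = ⊥ := by
    rw [hUb, ← MonoidHom.map_zpowers, ← iterCommutator_map]
    have h1 : (iterCommutator U (Subgroup.zpowers g) (p - 1)).map π ≤ V.map π :=
      Subgroup.map_mono hE
    rw [hVbot] at h1
    exact le_bot_iff.mp h1
  have hq := rhoV_engel Ub (π g) hEb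
  have hring : ∀ k ∈ Kb,
      π g * k * (π g)⁻¹ * k⁻¹ ∈ Subgroup.centralizer (Ub : Set (X ⧸ V)) :=
    fun k hk => ps_ring_engel Ub hp hpV Kb hKKb hm hKmb (π g) hq k hk
  -- `π g ∈ stabL p Ub`
  have hstab : π g ∈ stabL p Ub := by
    obtain ⟨ρ, hρ⟩ : ∃ ρ : (X ⧸ V) →* (X ⧸ V) ⧸ Subgroup.centralizer (Ub : Set (X ⧸ V)),
        ρ = QuotientGroup.mk' (Subgroup.centralizer (Ub : Set (X ⧸ V))) := ⟨_, rfl⟩
    have hρs : Function.Surjective ρ := by rw [hρ]; exact QuotientGroup.mk'_surjective _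
    haveI hK''n : (Kb.map ρ).Normal := hKbn.map ρ hρs
    have hidx : (Kb.map ρ).index ∣ p ^ a₀ := by
      have h1 : (Kb.map ρ).index ∣ Kb.index := Subgroup.index_map_dvd Kb hρs
      have h2 : Kb.index ∣ K.index := by rw [hKb]; exact Subgroup.index_map_dvd K hπs
      exact hKi ▸ h1.trans h2
    obtain ⟨c, -, hc⟩ := (Nat.dvd_prime_pow hp).mp hidx
    have hpow : (ρ (π g)) ^ (p ^ j) = 1 := by
      rw [← map_pow, ← map_pow, hg, map_one, map_one]
    have hmem : ρ (π g) ∈ pCore p ((X ⧸ V) ⧸ Subgroup.centralizer (Ub : Set (X ⧸ V))) := by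
      apply mem_pCore_of_comm (Kb.map ρ) hc (ρ (π g)) hpow
      rintro _ ⟨k, hk, rfl⟩
      have h1 := hring k hk
      have h2 : ρ (π g * k * (π g)⁻¹ * k⁻¹) = 1 := by
        rw [hρ]; exact (QuotientGroup.eq_one_iff _).mpr h1
      rw [map_mul, map_mul, map_mul, map_inv, map_inv] at h2
      rw [h2]
      exact Subgroup.one_mem _
    show π g ∈ (pCore p _).comap (QuotientGroup.mk' (Subgroup.centralizer (Ub : Set (X ⧸ V))))
    rw [Subgroup.mem_comap, ← hρ]
    exact hmem
  -- `stabL p Ub` centralizes `Ub`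
  have hL : ⁅Ub, stabL p Ub⁆ = ⊥ := by
    haveI := stabL_normal p Ub
    rcases hminb ⁅Ub, stabL p Ub⁆ inferInstance (Subgroup.commutator_le_left Ub _) with h | h
    · exact h
    · exfalso
      apply hUbne
      obtain ⟨Q⟩ : Nonempty (Sylow p (X ⧸ V)) := inferInstance
      have hUbQ : Ub ≤ (Q : Subgroup (X ⧸ V)) := hUbp.le_sylow_of_normal Q
      apply eq_bot_of_le_commutator_gt Q.isPGroup' hUbQ
      have key : ∀ u ∈ Ub, ∀ l ∈ stabL p Ub, ⁅u, l⁆ ∈ ⁅Ub, (Q : Subgroup (X ⧸ V))⁆ := by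
        intro u hu l hl
        obtain ⟨x, hx, hxl⟩ := stabL_decomp Q hl
        have hcu : u * (x⁻¹ * l) = (x⁻¹ * l) * u := Subgroup.mem_centralizer_iff.mp hxl u hu
        have heq : ⁅u, l⁆ = ⁅u, x⁆ := by
          rw [commutatorElement_def, commutatorElement_def]
          have h1 : l = x * (x⁻¹ * l) := by group
          obtain ⟨c, hc⟩ : ∃ c, c = x⁻¹ * l := ⟨_, rfl⟩
          rw [← hc] at hcu h1
          rw [h1]
          have h2 : c * u⁻¹ = u⁻¹ * c := by
            calc c * u⁻¹ = u⁻¹ * (u * c) * u⁻¹ := by group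
              _ = u⁻¹ * (c * u) * u⁻¹ := by rw [hcu]
              _ = u⁻¹ * c := by group
          calc u * (x * c) * u⁻¹ * (x * c)⁻¹ = u * x * (c * u⁻¹) * c⁻¹ * x⁻¹ := by group
            _ = u * x * (u⁻¹ * c) * c⁻¹ * x⁻¹ := by rw [h2]
            _ = u * x * u⁻¹ * x⁻¹ := by group
        rw [heq]
        exact Subgroup.commutator_mem_commutator hu hx
      calc Ub = ⁅Ub, stabL p Ub⁆ := h.symm
        _ ≤ ⁅Ub, (Q : Subgroup (X ⧸ V))⁆ := Subgroup.commutator_le.mpr key
  -- conclude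
  apply hne
  have h1 : (⁅U, Subgroup.zpowers g⁆).map π ≤ ⁅Ub, stabL p Ub⁆ := by
    rw [Subgroup.map_commutator, MonoidHom.map_zpowers, ← hUb]
    exact Subgroup.commutator_mono le_rfl ((Subgroup.zpowers_le).mpr hstab)
  rw [hL] at h1
  have h2 := (Subgroup.map_eq_bot_iff _).mp (le_bot_iff.mp h1)
  rw [hker] at h2
  exact h2

end EngelFalse

section EngelMain

/-- the local hypothesis of the Engel criterion, for one group -/
def LocEngel (p : ℕ) (W : ∀ (Q : Type u) [Group Q], Subgroup Q) (Y : Type u) [Group Y] :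
    Prop :=
  Subgroup.centralizer (pCore p Y : Set Y) ≤ pCore p Y →
    ∀ T : Sylow p Y, ¬ (inducedFunctor W (T : Subgroup Y)).Normal →
      ∃ g : Y, g ∈ (T : Subgroup Y) ∧ g ∉ pCore p Y ∧ ∃ U V : Subgroup Y, IsChiefFactor U V ∧
        U ≤ pCore p Y ∧ iterCommutator U (Subgroup.zpowers g) (p - 1) ≤ V ∧
        ¬ ⁅U, Subgroup.zpowers g⁆ ≤ V

variable {p : ℕ} [Fact p.Prime] {W : ∀ (Q : Type u) [Group Q], Subgroup Q}

theorem locEngel_of_equiv (hW : IsCharPFunctor.{u} p W) {Q Y : Type u} [Group Q] [Group Y]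
    [Finite Q] (e : Q ≃* Y) (h : LocEngel p W Q) : LocEngel p W Y := by
  have : Finite Y := Finite.of_equiv Q e.toEquiv
  intro hcY T hT
  have hmap : (pCore p Q).map e.toMonoidHom = pCore p Y := pCore_map_equiv e
  have hcQ : Subgroup.centralizer (pCore p Q : Set Q) ≤ pCore p Q := by
    intro x hx
    have h1 : e x ∈ Subgroup.centralizer (pCore p Y : Set Y) := by
      rw [Subgroup.mem_centralizer_iff]
      intro y hy
      rw [SetLike.mem_coe, ← hmap] at hy
      obtain ⟨q, hq, rfl⟩ := hy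
      have h2 := Subgroup.mem_centralizer_iff.mp hx q hq
      show e q * e x = e x * e q
      rw [← map_mul, ← map_mul, h2]
    have h3 := hcY h1
    rw [← hmap] at h3
    obtain ⟨q, hq, hqx⟩ := h3
    have : q = x := e.injective hqx
    rw [← this]; exact hq
  obtain ⟨T', hT'⟩ : ∃ T' : Sylow p Q,
      (T' : Subgroup Q) = (T : Subgroup Y).map e.symm.toMonoidHom :=
    ⟨Sylow.mapSurjective (f := e.symm.toMonoidHom) e.symm.surjective T,
      Sylow.coe_mapSurjective _ _⟩
  have hTT' : (T : Subgroup Y) = (T' : Subgroup Q).map e.toMonoidHom := by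
    rw [hT', Subgroup.map_map]
    have : e.toMonoidHom.comp e.symm.toMonoidHom = MonoidHom.id Y := by
      ext y; exact e.apply_symm_apply y
    rw [this, Subgroup.map_id]
  have hker : (T' : Subgroup Q) ⊓ e.toMonoidHom.ker = ⊥ := by
    have : e.toMonoidHom.ker = ⊥ := (MonoidHom.ker_eq_bot_iff _).mpr e.injective
    rw [this, inf_bot_eq]
  have himg := inducedFunctor_map hW e.toMonoidHom (T' : Subgroup Q) hker T'.isPGroup'
  have hT'n : ¬ (inducedFunctor W (T' : Subgroup Q)).Normal := by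
    intro hn
    apply hT
    rw [hTT', himg]
    exact hn.map _ e.surjective
  obtain ⟨g, hgT, hgO, U, V, hUV, hUO, hE, hne⟩ := h hcQ T' hT'n
  have hinj : Function.Injective e.toMonoidHom := e.injective
  have hz : (Subgroup.zpowers g).map e.toMonoidHom = Subgroup.zpowers (e g) :=
    MonoidHom.map_zpowers e.toMonoidHom g
  refine ⟨e g, ?_, ?_, U.map e.toMonoidHom, V.map e.toMonoidHom, ?_, ?_, ?_, ?_⟩
  · rw [hTT']; exact Subgroup.mem_map_of_mem e.toMonoidHom hgT
  · intro hc
    rw [← hmap] at hc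
    obtain ⟨q, hq, hqg⟩ := hc
    have : q = g := e.injective hqg
    exact hgO (this ▸ hq)
  · obtain ⟨hlt, hUn, hVn, hmin⟩ := hUV
    refine ⟨(Subgroup.map_lt_map_iff_of_injective hinj).mpr hlt, hUn.map _ e.surjective,
      hVn.map _ e.surjective, ?_⟩
    intro N hN hVN hNU
    have h1 : N = (N.map e.symm.toMonoidHom).map e.toMonoidHom := by
      rw [Subgroup.map_map]
      have : e.toMonoidHom.comp e.symm.toMonoidHom = MonoidHom.id Y := by
        ext y; exact e.apply_symm_apply y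
      rw [this, Subgroup.map_id]
    have hV' : V ≤ N.map e.symm.toMonoidHom := by
      rw [h1] at hVN
      exact (Subgroup.map_le_map_iff_of_injective hinj).mp hVN
    have hU' : N.map e.symm.toMonoidHom ≤ U := by
      rw [h1] at hNU
      exact (Subgroup.map_le_map_iff_of_injective hinj).mp hNU
    rcases hmin (N.map e.symm.toMonoidHom) (hN.map _ e.symm.surjective) hV' hU' with h2 | h2
    · left; rw [h1, h2]
    · right; rw [h1, h2]
  · rw [← hmap]; exact Subgroup.map_mono hUO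
  · rw [← hz, ← iterCommutator_map]
    exact Subgroup.map_mono hE
  · intro hc
    apply hne
    rw [← hz, ← Subgroup.map_commutator] at hc
    exact (Subgroup.map_le_map_iff_of_injective hinj).mp hc

theorem engel_final (hW : IsCharPFunctor.{u} p W) {G : Type u} [Group G] [Finite G]
    (P : Sylow p G) (hloc : LocEngel p W G) (hO' : pPrimeCore p G = ⊥)
    (star : ∀ M : Subgroup G, (P : Subgroup G) ≤ M → M ≠ ⊤ → HasNormalPComplement p ↥M)
    (hquot : HasNormalPComplement p (G ⧸ pCore p G))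
    (hN : HasNormalPComplement p
      ↥(Subgroup.normalizer ((cfChar p W hW).W (P : Subgroup G) : Set G))) :
    HasNormalPComplement p G := by
  obtain ⟨hE1, K, hKn, -, ⟨a, hKi⟩, hKK, m, hm, hKm⟩ := th_struct P hO' star hquot
  haveI := hKn
  by_cases hn : (inducedFunctor W (P : Subgroup G)).Normal
  · rw [cfChar_apply hW (P : Subgroup G) P.isPGroup'] at hN
    exact pn_of_eq_top _ (Subgroup.normalizer_eq_top_iff.mpr hn) hN
  · exfalso
    obtain ⟨g, hgP, -, U, V, hUV, hUO, hE, hne⟩ := hloc hE1 P hn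
    obtain ⟨j, hj⟩ := P.isPGroup' ⟨g, hgP⟩
    have hgj : g ^ (p ^ j) = 1 := congrArg Subtype.val hj
    exact engel_false K hKi hKK hm hKm g hgj U V hUV hUO hE hne

/-- the functorial normal `p`-complement criterion with an Engel condition -/
theorem engel_main (hW : IsCharPFunctor.{u} p W) {G : Type u} [Group G] [Finite G]
    (S : Sylow p G)
    (hN : HasNormalPComplement p ↥(Subgroup.normalizer
      ((inducedFunctor (G := G) W (S : Subgroup G) : Subgroup G) : Set G)))
    (hloc : ∀ (Y : Type u) [Group Y], Involves Y G → LocEngel p W Y) :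
    HasNormalPComplement p G := by
  have hN' : HasNormalPComplement p
      ↥(Subgroup.normalizer ((cfChar p W hW).W (S : Subgroup G) : Set G)) := by
    rw [cfChar_apply hW (S : Subgroup G) S.isPGroup']; exact hN
  exact th_main_aux (cfChar p W hW) (cfChar p W hW)
    (fun X _ => ∀ (Y : Type u) [Group Y], Involves Y X → LocEngel p W Y)
    (fun X _ _ M h Y _ hY => h Y (involves_of_subgroup M hY))
    (fun X _ _ L _ h Y _ hY => h Y (involves_of_quotient L hY))
    (fun G' _ _ P hΦ hO' star hquot hN₁ _ =>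
      engel_final hW P (hΦ G' (involves_refl G')) hO' star hquot hN₁)
    _ G rfl S hloc hN' (pn_centralizer_of_normalizer _ hN')

end EngelMain

end Cfsg.Agent.Lib.Helper3
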