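import Mathlib

set_option autoImplicit false

namespace Cfsg.Agent.Lib.Helper3

section RingLemma

variable {R : Type*} [Ring R]

theorem rl_two_cancel {p : ℕ} (hp : p.Prime) (hp2 : p ≠ 2) (hpR : (p : R) = 0) {y : R}
    (h : y + y = 0) : y = 0 := by
  obtain ⟨j, hj⟩ := hp.odd_of_ne_two hp2
  have h1 : p • y = 0 := by rw [nsmul_eq_mul, hpR, zero_mul]
  rw [hj, add_nsmul, one_nsmul, mul_nsmul, two_nsmul, h, nsmul_zero, zero_add] at h1
  exact h1

theorem rl_one_add_pow {N : R} (hN : N * N = 0) (n : ℕ) : (1 + N) ^ n = 1 + n • N := by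
  induction n with
  | zero => simp
  | succ n ih =>
    rw [pow_succ, ih, add_nsmul, one_nsmul]
    have h1 : (1 + n • N) * (1 + N) = 1 + n • N + N + n • (N * N) := by
      rw [add_mul, mul_add, mul_add, one_mul, mul_one, one_mul, smul_mul_assoc]
      abel
    rw [h1, hN, nsmul_zero, add_zero, add_assoc]

/-- the key computation: if `a² = 0` and `w` commutes with its two conjugates by `1 ± a`, then
`N = (1+a) w (1-a) w⁻¹ - 1` squares to zero. -/
theorem rl_main {p : ℕ} (hp : p.Prime) (hp2 : p ≠ 2) (hpR : (p : R) = 0)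
    {a w w' : R} (haa : a * a = 0) (hw : w * w' = 1) (hw' : w' * w = 1)
    (hc1 : w * ((1 + a) * w * (1 - a)) = ((1 + a) * w * (1 - a)) * w)
    (hc2 : w * ((1 - a) * w * (1 + a)) = ((1 - a) * w * (1 + a)) * w) :
    ((1 + a) * w * (1 - a) * w' - 1) * ((1 + a) * w * (1 - a) * w' - 1) = 0 := by
  obtain ⟨δ, hδ⟩ : ∃ δ, δ = a * w - w * a := ⟨_, rfl⟩
  obtain ⟨ε, hε⟩ : ∃ ε, ε = a * w * a := ⟨_, rfl⟩
  have e1 : (1 + a) * w * (1 - a) = w + δ - ε := by rw [hδ, hε]; noncomm_ring
  have e2 : (1 - a) * w * (1 + a) = w - δ - ε := by rw [hδ, hε]; noncomm_ring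
  rw [e1] at hc1
  rw [e2] at hc2
  have aδ : a * δ = -ε := by
    rw [hδ, hε]
    have : a * (a * w - w * a) = (a * a) * w - a * w * a := by noncomm_ring
    rw [this, haa]; simp
  have aε : a * ε = 0 := by
    rw [hε]
    have : a * (a * w * a) = (a * a) * w * a := by noncomm_ring
    rw [this, haa]; simp
  have εa : ε * a = 0 := by
    rw [hε]
    have : a * w * a * a = a * w * (a * a) := by noncomm_ring
    rw [this, haa]; simp
  have δa : δ * a = ε := by
    rw [hδ, hε]
    have : (a * w - w * a) * a = a * w * a - w * (a * a) := by noncomm_ring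
    rw [this, haa]; simp
  have εε : ε * ε = 0 := by
    have : ε * ε = ε * a * (w * a) := by rw [hε]; noncomm_ring
    rw [this, εa, zero_mul]
  have wδ : w * δ = δ * w := by
    have h : (w * δ - δ * w) + (w * δ - δ * w) = 0 := by
      have : (w * δ - δ * w) + (w * δ - δ * w) =
          (w * (w + δ - ε) - (w + δ - ε) * w) - (w * (w - δ - ε) - (w - δ - ε) * w) := by
        noncomm_ring
      rw [this, hc1, hc2]; simp
    exact sub_eq_zero.mp (rl_two_cancel hp hp2 hpR h)
  have wε : w * ε = ε * w := by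
    have h : (ε * w - w * ε) + (ε * w - w * ε) = 0 := by
      have : (ε * w - w * ε) + (ε * w - w * ε) =
          (w * (w + δ - ε) - (w + δ - ε) * w) + (w * (w - δ - ε) - (w - δ - ε) * w) := by
        noncomm_ring
      rw [this, hc1, hc2]; simp
    exact (sub_eq_zero.mp (rl_two_cancel hp hp2 hpR h)).symm
  have δε : δ * ε = 0 := by
    have : δ * ε = δ * a * (w * a) := by rw [hε]; noncomm_ring
    rw [this, δa]
    have : ε * (w * a) = w * (ε * a) := by rw [← mul_assoc, ← wε, mul_assoc]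
    rw [this, εa, mul_zero]
  have εδ : ε * δ = 0 := by
    have : ε * δ = a * w * (a * δ) := by rw [hε]; noncomm_ring
    rw [this, aδ, mul_neg, mul_assoc, wε, ← mul_assoc, aε, zero_mul, neg_zero]
  have δδ : δ * δ = 0 := by
    have : δ * δ = a * (w * δ) - w * (a * δ) := by
      have h0 : δ * δ = (a * w - w * a) * δ := by rw [← hδ]
      rw [h0, sub_mul, mul_assoc, mul_assoc]
    rw [this, wδ, ← mul_assoc, aδ, mul_neg, neg_mul, wε]; simp
  obtain ⟨Y, hY⟩ : ∃ Y, Y = δ - ε := ⟨_, rfl⟩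
  have YY : Y * Y = 0 := by
    have : Y * Y = δ * δ - δ * ε - ε * δ + ε * ε := by rw [hY]; noncomm_ring
    rw [this, δδ, δε, εδ, εε]; simp
  have wY : w * Y = Y * w := by rw [hY, mul_sub, sub_mul, wδ, wε]
  have w'Y : w' * Y = Y * w' := by
    calc w' * Y = w' * Y * (w * w') := by rw [hw, mul_one]
      _ = w' * (Y * w) * w' := by noncomm_ring
      _ = w' * (w * Y) * w' := by rw [wY]
      _ = (w' * w) * Y * w' := by noncomm_ring
      _ = Y * w' := by rw [hw', one_mul]
  have e3 : (1 + a) * w * (1 - a) * w' - 1 = Y * w' := by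
    rw [e1, hY]
    have : (w + δ - ε) * w' - 1 = (w * w' - 1) + (δ - ε) * w' := by noncomm_ring
    rw [this, hw]; simp
  rw [e3]
  calc Y * w' * (Y * w') = Y * (w' * Y) * w' := by noncomm_ring
    _ = Y * (Y * w') * w' := by rw [w'Y]
    _ = (Y * Y) * w' * w' := by noncomm_ring
    _ = 0 := by rw [YY]; simp

/-- consequence: under the hypotheses of `rl_main`, if moreover `u = (1+a) w (1-a) w⁻¹` has
`u ^ m = 1` with `m` prime to `p`, then `(1+a) w (1-a) = w`. -/
theorem rl_conj_eq {p : ℕ} (hp : p.Prime) (hp2 : p ≠ 2) (hpR : (p : R) = 0)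
    {a w w' : R} (haa : a * a = 0) (hw : w * w' = 1) (hw' : w' * w = 1)
    (hc1 : w * ((1 + a) * w * (1 - a)) = ((1 + a) * w * (1 - a)) * w)
    (hc2 : w * ((1 - a) * w * (1 + a)) = ((1 - a) * w * (1 + a)) * w)
    {m : ℕ} (hm : m.Coprime p) (hu : ((1 + a) * w * (1 - a) * w') ^ m = 1) :
    (1 + a) * w * (1 - a) = w := by
  have hN := rl_main hp hp2 hpR haa hw hw' hc1 hc2
  obtain ⟨N, hNdef⟩ : ∃ N, N = (1 + a) * w * (1 - a) * w' - 1 := ⟨_, rfl⟩
  rw [← hNdef] at hN
  have hu' : (1 + a) * w * (1 - a) * w' = 1 + N := by rw [hNdef]; abel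
  have h1 : (1 + N) ^ p = 1 := by
    rw [rl_one_add_pow hN, nsmul_eq_mul, hpR, zero_mul, add_zero]
  rw [hu'] at hu
  have h2 : (1 + N) ^ (m.gcd p) = 1 := pow_gcd_eq_one.mpr ⟨hu, h1⟩
  rw [Nat.Coprime.gcd_eq_one hm, pow_one] at h2
  rw [h2] at hu'
  calc (1 + a) * w * (1 - a) = (1 + a) * w * (1 - a) * (w' * w) := by rw [hw', mul_one]
    _ = ((1 + a) * w * (1 - a) * w') * w := by noncomm_ring
    _ = w := by rw [hu', one_mul]

end RingLemma

end Cfsg.Agent.Lib.Helper3
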