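import Cfsg.Agent.Lib.Helper3.GT2
import Cfsg.Agent.Lib.Helper3.ZJ5
import Cfsg.Agent.Lib.Helper6.PAction

set_option autoImplicit false
set_option linter.style.haveILetI false

namespace Cfsg.Agent.Lib.Helper3

open Cfsg
open scoped commutatorElement

section RhoV

open scoped IsMulCommutative

variable {X : Type*} [Group X] (V : Subgroup X) [V.Normal] [IsMulCommutative ↥V]

/-- the conjugation action of `X` on an abelian normal subgroup `V`, as a monoid hom into the
endomorphism ring of the additive version of `V`. -/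
noncomputable def rhoV : X →* AddMonoid.End (Additive ↥V) where
  toFun g := MonoidHom.toAdditive ((MulAut.conjNormal g : MulAut ↥V).toMonoidHom)
  map_one' := by
    apply AddMonoidHom.ext
    intro x
    show Additive.ofMul ((MulAut.conjNormal (1 : X) : MulAut ↥V) (Additive.toMul x)) = x
    rw [map_one]; rfl
  map_mul' g h := by
    apply AddMonoidHom.ext
    intro x
    show Additive.ofMul ((MulAut.conjNormal (g * h) : MulAut ↥V) (Additive.toMul x)) =
      Additive.ofMul ((MulAut.conjNormal g : MulAut ↥V)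
        ((MulAut.conjNormal h : MulAut ↥V) (Additive.toMul x)))
    rw [map_mul]; rfl

theorem rhoV_apply (g : X) (x : Additive ↥V) :
    rhoV V g x = Additive.ofMul ((MulAut.conjNormal g : MulAut ↥V) (Additive.toMul x)) := rfl

theorem rhoV_eq_one_iff (g : X) :
    rhoV V g = 1 ↔ g ∈ Subgroup.centralizer (V : Set X) := by
  constructor
  · intro h
    rw [Subgroup.mem_centralizer_iff]
    intro v hv
    have h1 := DFunLike.congr_fun h (Additive.ofMul (⟨v, hv⟩ : ↥V))
    have h2 : ((MulAut.conjNormal g : MulAut ↥V) ⟨v, hv⟩ : X) = v :=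
      congrArg (fun y : Additive ↥V => ((Additive.toMul y : ↥V) : X)) h1
    rw [MulAut.conjNormal_apply] at h2
    have h3 : g * v * g⁻¹ = v := h2
    calc v * g = (g * v * g⁻¹) * g := by rw [h3]
      _ = g * v := by group
  · intro h
    rw [Subgroup.mem_centralizer_iff] at h
    apply AddMonoidHom.ext
    intro x
    have h1 : (MulAut.conjNormal g : MulAut ↥V) (Additive.toMul x) = Additive.toMul x := by
      apply Subtype.ext
      rw [MulAut.conjNormal_apply]
      have := h _ (Additive.toMul x).2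
      rw [← this]; group
    exact congrArg Additive.ofMul h1

theorem rhoV_quad (a : X)
    (hq : ∀ v ∈ V, a * (a * v * a⁻¹ * v⁻¹) * a⁻¹ = a * v * a⁻¹ * v⁻¹) :
    (rhoV V a - 1) * (rhoV V a - 1) = 0 := by
  have key : ∀ v : ↥V, (MulAut.conjNormal a : MulAut ↥V)
      ((MulAut.conjNormal a : MulAut ↥V) v / v) = (MulAut.conjNormal a : MulAut ↥V) v / v := by
    intro v
    apply Subtype.ext
    simp only [MulAut.conjNormal_apply, Subgroup.coe_div]
    rw [div_eq_mul_inv]
    exact hq v v.2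
  apply AddMonoidHom.ext
  intro x
  show rhoV V a (rhoV V a x - x) - (rhoV V a x - x) = 0
  rw [sub_eq_zero]
  exact congrArg Additive.ofMul (key (Additive.toMul x))

omit [V.Normal] in
theorem rhoV_natCast {p : ℕ} (hpV : ∀ v ∈ V, v ^ p = 1) :
    ((p : ℕ) : AddMonoid.End (Additive ↥V)) = 0 := by
  apply AddMonoidHom.ext
  intro x
  show p • x = 0
  have h1 : (Additive.toMul x) ^ p = 1 := by
    apply Subtype.ext
    rw [Subgroup.coe_pow]
    exact hpV _ (Additive.toMul x).2
  exact congrArg Additive.ofMul h1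

/-- the ring step of `p`-stability: if `K` acts on the elementary abelian normal subgroup `V`
through an abelian `p'`-group and `a` acts quadratically, then `[a, K]` centralizes `V`. -/
theorem ps_ring {p : ℕ} (hp : p.Prime) (hp2 : p ≠ 2) (hpV : ∀ v ∈ V, v ^ p = 1)
    (K : Subgroup X) [hKn : K.Normal]
    (hKK : ∀ k ∈ K, ∀ k' ∈ K, k * k' * k⁻¹ * k'⁻¹ ∈ Subgroup.centralizer (V : Set X))
    {m : ℕ} (hm : m.Coprime p) (hKm : ∀ k ∈ K, k ^ m ∈ Subgroup.centralizer (V : Set X))
    (a : X) (hq : ∀ v ∈ V, a * (a * v * a⁻¹ * v⁻¹) * a⁻¹ = a * v * a⁻¹ * v⁻¹)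
    (k : X) (hk : k ∈ K) : a * k * a⁻¹ * k⁻¹ ∈ Subgroup.centralizer (V : Set X) := by
  have hcomm : ∀ k₁ ∈ K, ∀ k₂ ∈ K, rhoV V k₁ * rhoV V k₂ = rhoV V k₂ * rhoV V k₁ := by
    intro k₁ h₁ k₂ h₂
    have h := (rhoV_eq_one_iff V _).mpr (hKK k₁ h₁ k₂ h₂)
    have : rhoV V k₁ * rhoV V k₂ = rhoV V (k₁ * k₂ * k₁⁻¹ * k₂⁻¹) * (rhoV V k₂ * rhoV V k₁) := by
      rw [← map_mul, ← map_mul, ← map_mul]; congr 1; group
    rw [this, h, one_mul]
  have haa := rhoV_quad V a hq
  have hpR := rhoV_natCast V hpV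
  obtain ⟨A, hA⟩ : ∃ A, A = rhoV V a - 1 := ⟨_, rfl⟩
  rw [← hA] at haa
  have h1A : 1 + A = rhoV V a := by rw [hA]; abel
  have hinv : rhoV V a * (1 - A) = 1 := by
    have : rhoV V a * (1 - A) = 1 - A * A := by
      rw [← h1A, mul_sub, mul_one, add_mul, one_mul]; abel
    rw [this, haa, sub_zero]
  have h1A' : 1 - A = rhoV V a⁻¹ := by
    calc 1 - A = rhoV V a⁻¹ * (rhoV V a * (1 - A)) := by
          rw [← mul_assoc, ← map_mul, inv_mul_cancel, map_one, one_mul]
      _ = rhoV V a⁻¹ := by rw [hinv, mul_one]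
  have hw : rhoV V k * rhoV V k⁻¹ = 1 := by rw [← map_mul, mul_inv_cancel, map_one]
  have hw' : rhoV V k⁻¹ * rhoV V k = 1 := by rw [← map_mul, inv_mul_cancel, map_one]
  have e1 : (1 + A) * rhoV V k * (1 - A) = rhoV V (a * k * a⁻¹) := by
    rw [h1A, h1A', map_mul, map_mul]
  have e2 : (1 - A) * rhoV V k * (1 + A) = rhoV V (a⁻¹ * k * a) := by
    rw [h1A, h1A', map_mul, map_mul]
  have hk1 : a * k * a⁻¹ ∈ K := hKn.conj_mem k hk a
  have hk2 : a⁻¹ * k * a ∈ K := by simpa using hKn.conj_mem k hk a⁻¹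
  have hc1 : rhoV V k * ((1 + A) * rhoV V k * (1 - A)) =
      ((1 + A) * rhoV V k * (1 - A)) * rhoV V k := by
    rw [e1]; exact hcomm k hk _ hk1
  have hc2 : rhoV V k * ((1 - A) * rhoV V k * (1 + A)) =
      ((1 - A) * rhoV V k * (1 + A)) * rhoV V k := by
    rw [e2]; exact hcomm k hk _ hk2
  have hu : ((1 + A) * rhoV V k * (1 - A) * rhoV V k⁻¹) ^ m = 1 := by
    rw [e1, ← map_mul, ← map_pow]
    exact (rhoV_eq_one_iff V _).mpr (hKm _ (K.mul_mem hk1 (K.inv_mem hk)))
  have hfin := rl_conj_eq hp hp2 hpR haa hw hw' hc1 hc2 hm hu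
  rw [e1] at hfin
  rw [← rhoV_eq_one_iff V, map_mul, hfin, hw]

end RhoV

section PStable

variable {G : Type*} [Group G]

theorem sectionKernel_normal' (B B₁ : Subgroup G) [hB : B.Normal] [B₁.Normal] :
    (sectionKernel B B₁).Normal := by
  haveI : (B.map (QuotientGroup.mk' B₁)).Normal :=
    Subgroup.Normal.map hB _ (QuotientGroup.mk'_surjective B₁)
  exact Subgroup.Normal.comap inferInstance _

theorem mem_sectionKernel_iff (B B₁ : Subgroup G) [B₁.Normal] (g : G) :
    g ∈ sectionKernel B B₁ ↔ ∀ b ∈ B, g * b * g⁻¹ * b⁻¹ ∈ B₁ := by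
  unfold sectionKernel
  rw [Subgroup.mem_comap, Subgroup.mem_centralizer_iff]
  constructor
  · intro h b hb
    have h1 := h _ (Subgroup.mem_map_of_mem (QuotientGroup.mk' B₁) hb)
    have h2 : QuotientGroup.mk' B₁ (g * b * g⁻¹ * b⁻¹) = 1 := by
      simp only [map_mul, map_inv]
      rw [← h1]; group
    exact (QuotientGroup.eq_one_iff _).mp h2
  · rintro h _ ⟨b, hb, rfl⟩
    have h1 : QuotientGroup.mk' B₁ (g * b * g⁻¹ * b⁻¹) = 1 :=
      (QuotientGroup.eq_one_iff _).mpr (h b hb)
    simp only [map_mul, map_inv] at h1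
    exact (mul_inv_eq_iff_eq_mul.mp (mul_inv_eq_one.mp h1)).symm

theorem powerClosure_map_le {H : Type*} [Group H] (p n : ℕ) (B : Subgroup G) (f : G →* H) :
    (powerClosure p n B).map f ≤ powerClosure p n (B.map f) := by
  unfold powerClosure
  rw [MonoidHom.map_closure]
  apply Subgroup.closure_mono
  rintro _ ⟨y, ⟨x, hx, rfl⟩, rfl⟩
  exact ⟨f x, Subgroup.mem_map_of_mem f hx, map_pow f x _⟩

theorem powerClosure_normal' (p n : ℕ) (B : Subgroup G) [hB : B.Normal] :
    (powerClosure p n B).Normal := by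
  rw [← Subgroup.normalizer_eq_top_iff]
  have := normalizer_le_normalizer_powerClosure p n B
  rw [Subgroup.normalizer_eq_top_iff.mpr hB] at this
  exact top_le_iff.mp this

/-- `[B, O_p(G)] ℧¹(B)` -/
def phiB (p : ℕ) (B : Subgroup G) : Subgroup G := ⁅B, pCore p G⁆ ⊔ powerClosure p 1 B

theorem phiB_normal (p : ℕ) (B : Subgroup G) [B.Normal] : (phiB p B).Normal := by
  haveI := pCore_normal' p G
  haveI := powerClosure_normal' p 1 B
  unfold phiB
  infer_instance

theorem phiB_le (p : ℕ) (B : Subgroup G) [B.Normal] : phiB p B ≤ B :=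
  sup_le (Subgroup.commutator_le_left B _) (powerClosure_le p 1 B)

theorem eq_bot_of_le_commutator_gt [Finite G] {p : ℕ} [Fact p.Prime] {B O : Subgroup G}
    (hO : IsPGroup p O) (hBO : B ≤ O) (h : B ≤ ⁅B, O⁆) : B = ⊥ := by
  haveI : Group.IsNilpotent ↥O := hO.isNilpotent
  obtain ⟨n, hn⟩ := (Subgroup.isNilpotent_iff_lowerCentralSeries O).mp inferInstance
  have key : ∀ k, B ≤ O.lowerCentralSeries k := by
    intro k
    induction k with
    | zero => exact hBO
    | succ k ih => exact h.trans (Subgroup.commutator_mono ih le_rfl)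
  exact le_bot_iff.mp (hn ▸ key n)

theorem phiB_lt [Finite G] {p : ℕ} [Fact p.Prime] (B : Subgroup G) [hBn : B.Normal]
    (hB : IsPGroup p B) (hne : B ≠ ⊥) : phiB p B < B := by
  refine lt_of_le_of_ne (phiB_le p B) ?_
  intro heq
  apply hne
  haveI := pCore_normal' p G
  have hBO : B ≤ pCore p G := le_pCore' hBn hB
  apply eq_bot_of_le_commutator_gt (pCore_isPGroup' p G) hBO
  obtain ⟨C₁, hC₁⟩ : ∃ C₁, C₁ = ⁅B, pCore p G⁆ := ⟨_, rfl⟩
  haveI hC₁n : C₁.Normal := by rw [hC₁]; infer_instance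
  rw [← hC₁]
  have hmapB : IsPGroup p (B.map (QuotientGroup.mk' C₁)) := hB.map _
  have hphi : phiB p B = C₁ ⊔ powerClosure p 1 B := by rw [hC₁]; rfl
  have hle : B.map (QuotientGroup.mk' C₁) ≤ powerClosure p 1 (B.map (QuotientGroup.mk' C₁)) := by
    calc B.map (QuotientGroup.mk' C₁) = (phiB p B).map (QuotientGroup.mk' C₁) := by rw [heq]
      _ = C₁.map (QuotientGroup.mk' C₁) ⊔ (powerClosure p 1 B).map (QuotientGroup.mk' C₁) := by
        rw [hphi, Subgroup.map_sup]
      _ ≤ powerClosure p 1 (B.map (QuotientGroup.mk' C₁)) := by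
        apply sup_le
        · rw [(Subgroup.map_eq_bot_iff _).mpr (le_of_eq (QuotientGroup.ker_mk' C₁).symm)]
          exact bot_le
        · exact powerClosure_map_le p 1 B _
  have hbot := eq_bot_of_le_powerClosure_one _ hmapB hle
  have := (Subgroup.map_eq_bot_iff _).mp hbot
  rwa [QuotientGroup.ker_mk'] at this

theorem stabL_of_sec [Finite G] {p : ℕ} [Fact p.Prime] (B B₁ : Subgroup G) [hBn : B.Normal]
    [hB₁n : B₁.Normal] (hB₁ : IsPGroup p B₁) :
    stabL p B₁ ⊓ sectionKernel B B₁ ≤ stabL p B := by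
  haveI hn1 := stabL_normal p B₁
  haveI hn2 : (sectionKernel B B₁).Normal := sectionKernel_normal' B B₁
  have hN : (stabL p B₁ ⊓ sectionKernel B B₁).Normal := inferInstance
  have hmapn : ((stabL p B₁ ⊓ sectionKernel B B₁).map
      (QuotientGroup.mk' (Subgroup.centralizer (B : Set G)))).Normal :=
    Subgroup.Normal.map hN _ (QuotientGroup.mk'_surjective _)
  have hmapp : IsPGroup p ((stabL p B₁ ⊓ sectionKernel B B₁).map
      (QuotientGroup.mk' (Subgroup.centralizer (B : Set G)))) := by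
    rintro ⟨y, hy⟩
    obtain ⟨g, hg, rfl⟩ := hy
    obtain ⟨hg1, hg2⟩ := hg
    obtain ⟨j, hj⟩ := (pCore_isPGroup' p (G ⧸ Subgroup.centralizer (B₁ : Set G)))
      ⟨_, hg1⟩
    have hj' : g ^ (p ^ j) ∈ Subgroup.centralizer (B₁ : Set G) := by
      have h1 := congrArg Subtype.val hj
      have h2 : (QuotientGroup.mk' (Subgroup.centralizer (B₁ : Set G)) g) ^ (p ^ j) = 1 := h1
      rw [← map_pow] at h2
      exact (QuotientGroup.eq_one_iff _).mp h2
    obtain ⟨i, hi⟩ := IsPGroup.iff_card.mp hB₁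
    refine ⟨j + i, ?_⟩
    apply Subtype.ext
    show (QuotientGroup.mk' (Subgroup.centralizer (B : Set G)) g) ^ (p ^ (j + i)) = 1
    rw [← map_pow]
    apply (QuotientGroup.eq_one_iff _).mpr
    rw [Subgroup.mem_centralizer_iff]
    intro b hb
    obtain ⟨h, hh⟩ : ∃ h, h = g ^ (p ^ j) := ⟨_, rfl⟩
    rw [← hh] at hj'
    have hh2 : h ∈ sectionKernel B B₁ := by rw [hh]; exact Subgroup.pow_mem _ hg2 _
    have hc : h * b * h⁻¹ * b⁻¹ ∈ B₁ := (mem_sectionKernel_iff B B₁ h).mp hh2 b hb
    have hcomm : Commute h (h * b * h⁻¹ * b⁻¹) :=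
      ((Subgroup.mem_centralizer_iff.mp hj') _ hc).symm
    have e := Cfsg.Agent.Lib.Helper6.pa_conj_pow h b hcomm (p ^ i)
    have e2 : (h * b * h⁻¹ * b⁻¹) ^ (p ^ i) = 1 := by
      have h3 : (⟨_, hc⟩ : ↥B₁) ^ Nat.card ↥B₁ = 1 := pow_card_eq_one'
      rw [hi] at h3
      exact congrArg Subtype.val h3
    rw [e2, one_mul] at e
    have e3 : g ^ (p ^ (j + i)) = h ^ (p ^ i) := by rw [hh, ← pow_mul, ← pow_add]
    rw [e3]
    calc b * h ^ (p ^ i) = (h ^ (p ^ i) * b * (h ^ (p ^ i))⁻¹) * h ^ (p ^ i) := by rw [e]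
      _ = h ^ (p ^ i) * b := by group
  have hle : (stabL p B₁ ⊓ sectionKernel B B₁).map
      (QuotientGroup.mk' (Subgroup.centralizer (B : Set G))) ≤
      pCore p (G ⧸ Subgroup.centralizer (B : Set G)) := le_pCore' hmapn hmapp
  intro g hg
  exact hle (Subgroup.mem_map_of_mem _ hg)

theorem mem_pCore_of_comm {X : Type*} [Group X] [Finite X] {p : ℕ} [Fact p.Prime]
    (K : Subgroup X) [hKn : K.Normal] {a₀ : ℕ} (hK : K.index = p ^ a₀) (x : X) {j : ℕ}
    (hx : x ^ (p ^ j) = 1) (hc : ∀ k ∈ K, x * k * x⁻¹ * k⁻¹ ∈ pCore p X) : x ∈ pCore p X := by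
  have hp : p.Prime := Fact.out
  haveI := pCore_normal' p X
  have hZ : IsPGroup p (Subgroup.zpowers x) := by
    rintro ⟨y, hy⟩
    obtain ⟨n, rfl⟩ := Subgroup.mem_zpowers_iff.mp hy
    refine ⟨j, Subtype.ext ?_⟩
    show (x ^ n) ^ (p ^ j) = 1
    rw [← zpow_natCast, ← zpow_mul, mul_comm, zpow_mul, zpow_natCast, hx, one_zpow]
  have hY : IsPGroup p (Subgroup.zpowers x ⊔ pCore p X : Subgroup X) :=
    IsPGroup.to_sup_of_normal_right hZ (pCore_isPGroup' p X)
  obtain ⟨P', hP'⟩ := hY.exists_le_sylow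
  have htop : (P' : Subgroup X) ⊔ K = ⊤ := by
    rw [← Subgroup.index_eq_one]
    have h1 : ((P' : Subgroup X) ⊔ K).index ∣ (P' : Subgroup X).index :=
      Subgroup.index_dvd_of_le le_sup_left
    have h2 : ((P' : Subgroup X) ⊔ K).index ∣ p ^ a₀ := hK ▸ Subgroup.index_dvd_of_le le_sup_right
    have h3 : ¬ p ∣ (P' : Subgroup X).index := P'.not_dvd_index
    have h4 : Nat.Coprime ((P' : Subgroup X).index) (p ^ a₀) :=
      Nat.Coprime.pow_right _ ((Nat.Prime.coprime_iff_not_dvd hp).mpr h3).symm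
    exact Nat.eq_one_of_dvd_coprimes h4 h1 h2
  have hKY : ∀ k ∈ K, ∀ y ∈ (Subgroup.zpowers x ⊔ pCore p X : Subgroup X),
      k * y * k⁻¹ ∈ (Subgroup.zpowers x ⊔ pCore p X : Subgroup X) := by
    intro k hk
    have : (Subgroup.zpowers x ⊔ pCore p X : Subgroup X).map (MulAut.conj k).toMonoidHom ≤
        (Subgroup.zpowers x ⊔ pCore p X : Subgroup X) := by
      rw [Subgroup.map_sup]
      apply sup_le
      · rw [Subgroup.zpowers_eq_closure, MonoidHom.map_closure, Subgroup.closure_le]
        rintro _ ⟨y, hy, rfl⟩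
        rw [Set.mem_singleton_iff] at hy
        rw [hy]
        show k * x * k⁻¹ ∈ _
        have h2 : x * k * x⁻¹ * k⁻¹ ∈ pCore p X := hc k hk
        have h3 : k * x * k⁻¹ = (x * k * x⁻¹ * k⁻¹)⁻¹ * x := by group
        rw [h3]
        exact Subgroup.mul_mem _ (Subgroup.mem_sup_right (Subgroup.inv_mem _ h2))
          (Subgroup.mem_sup_left (Subgroup.subset_closure (Set.mem_singleton x)))
      · rintro _ ⟨y, hy, rfl⟩
        exact Subgroup.mem_sup_right ((pCore_normal' p X).conj_mem y hy k)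
    intro y hy
    exact this (Subgroup.mem_map_of_mem _ hy)
  have hncl : Subgroup.normalClosure ((Subgroup.zpowers x ⊔ pCore p X : Subgroup X) : Set X) ≤
      (P' : Subgroup X) := by
    unfold Subgroup.normalClosure
    rw [Subgroup.closure_le]
    intro z hz
    rw [Group.mem_conjugatesOfSet_iff] at hz
    obtain ⟨y, hy, hconj⟩ := hz
    obtain ⟨g, rfl⟩ := isConj_iff.mp hconj
    have hg : g ∈ (P' : Subgroup X) ⊔ K := htop ▸ Subgroup.mem_top g
    obtain ⟨s, hs, k, hk, rfl⟩ := Subgroup.mem_sup_of_normal_right.mp hg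
    have : s * k * y * (s * k)⁻¹ = s * (k * y * k⁻¹) * s⁻¹ := by group
    rw [SetLike.mem_coe, this]
    exact Subgroup.mul_mem _ (Subgroup.mul_mem _ hs (hP' (hKY k hk y hy))) (Subgroup.inv_mem _ hs)
  have hnp : IsPGroup p (Subgroup.normalClosure
      ((Subgroup.zpowers x ⊔ pCore p X : Subgroup X) : Set X)) := P'.isPGroup'.to_le hncl
  have hfin := le_pCore' Subgroup.normalClosure_normal hnp
  exact hfin (Subgroup.subset_normalClosure (Subgroup.mem_sup_left (Subgroup.mem_zpowers x)))

/-- **`p`-stability from structure**: if `G` has a normal subgroup `K` of `p`-power index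
with `K / O_p(G)` an abelian `p'`-group (`p` odd), then `G` acts `p`-stably on each of its
normal `p`-subgroups. -/
theorem pstable_of_structure [Finite G] {p : ℕ} [Fact p.Prime] (hp2 : p ≠ 2)
    (K : Subgroup G) [hKn : K.Normal] (hKK : ⁅K, K⁆ ≤ pCore p G) {m : ℕ} (hm : m.Coprime p)
    (hKm : ∀ k ∈ K, k ^ m ∈ pCore p G) {a₀ : ℕ} (hKi : K.index = p ^ a₀) :
    ∀ (B : Subgroup G) [B.Normal], IsPGroup p B → IsPStableOn p B := by
  have hp : p.Prime := Fact.out
  have main : ∀ n : ℕ, ∀ (B : Subgroup G) [B.Normal], IsPGroup p B → Nat.card B = n →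
      IsPStableOn p B := by
    intro n
    induction n using Nat.strong_induction_on with
    | _ n ih =>
      intro B hBn hBp hcard a hq
      by_cases hbot : B = ⊥
      · have htop : Subgroup.centralizer (B : Set G) = ⊤ := by
          rw [hbot, eq_top_iff]
          intro g _
          rw [Subgroup.mem_centralizer_iff]
          intro h hh
          rw [SetLike.mem_coe, Subgroup.mem_bot] at hh
          rw [hh, one_mul, mul_one]
        have h1 : (QuotientGroup.mk a : G ⧸ Subgroup.centralizer (B : Set G)) = 1 := by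
          rw [QuotientGroup.eq_one_iff, htop]; trivial
        rw [h1]; exact Subgroup.one_mem _
      · haveI hOn := pCore_normal' p G
        haveI hB₁n : (phiB p B).Normal := phiB_normal p B
        have hlt : phiB p B < B := phiB_lt B hBp hbot
        have hB₁p : IsPGroup p (phiB p B) := hBp.to_le hlt.le
        have hst1 : IsPStableOn p (phiB p B) :=
          ih (Nat.card (phiB p B)) (hcard ▸ card_lt_of_lt hlt) (phiB p B) hB₁p rfl
        have hq1 : ⁅⁅phiB p B, Subgroup.zpowers a⁆, Subgroup.zpowers a⁆ = ⊥ :=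
          le_bot_iff.mp (hq ▸ Subgroup.commutator_mono
            (Subgroup.commutator_mono hlt.le le_rfl) le_rfl)
        have ha1 : a ∈ stabL p (phiB p B) := mem_stabL_of_quad hst1 hq1
        -- quadratic action, elementwise
        have hquad : ∀ b ∈ B, a * (a * b * a⁻¹ * b⁻¹) * a⁻¹ = a * b * a⁻¹ * b⁻¹ := by
          intro b hb
          have h1 : ⁅⁅b, a⁆, a⁆ ∈ ⁅⁅B, Subgroup.zpowers a⁆, Subgroup.zpowers a⁆ :=
            Subgroup.commutator_mem_commutator (Subgroup.commutator_mem_commutator hb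
              (Subgroup.mem_zpowers a)) (Subgroup.mem_zpowers a)
          rw [hq, Subgroup.mem_bot] at h1
          have h2 : Commute ⁅b, a⁆ a := commutatorElement_eq_one_iff_commute.mp h1
          have h3 : a * b * a⁻¹ * b⁻¹ = ⁅b, a⁆⁻¹ := by rw [commutatorElement_def]; group
          rw [h3]
          have h4 : Commute a ⁅b, a⁆⁻¹ := (h2.symm).inv_right
          rw [h4.eq, mul_assoc, mul_inv_cancel, mul_one]
        -- O_p(G) acts trivially on B / B₁
        have hO : pCore p G ≤ sectionKernel B (phiB p B) := by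
          intro o ho
          rw [mem_sectionKernel_iff]
          intro b hb
          have h1 : ⁅o, b⁆ ∈ ⁅pCore p G, B⁆ := Subgroup.commutator_mem_commutator ho hb
          rw [Subgroup.commutator_comm] at h1
          exact Subgroup.mem_sup_left h1
        -- the ring step in G / B₁
        have hsec : ∀ k ∈ K, a * k * a⁻¹ * k⁻¹ ∈ sectionKernel B (phiB p B) := by
          intro k hk
          haveI hVn : (B.map (QuotientGroup.mk' (phiB p B))).Normal :=
            Subgroup.Normal.map hBn _ (QuotientGroup.mk'_surjective _)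
          haveI hVc : IsMulCommutative ↥(B.map (QuotientGroup.mk' (phiB p B))) := by
            apply IsMulCommutative.of_setLike_mul_comm
            rintro _ ⟨b, hb, rfl⟩ _ ⟨b', hb', rfl⟩
            have h1 : ⁅b, b'⁆ ∈ phiB p B :=
              Subgroup.mem_sup_left (Subgroup.commutator_mem_commutator hb
                (le_pCore' hBn hBp hb'))
            have h2 : QuotientGroup.mk' (phiB p B) ⁅b, b'⁆ = 1 :=
              (QuotientGroup.eq_one_iff _).mpr h1
            rw [commutatorElement_def, map_mul, map_mul, map_inv, map_inv] at h2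
            exact mul_inv_eq_iff_eq_mul.mp (mul_inv_eq_one.mp h2)
          haveI hK'n : (K.map (QuotientGroup.mk' (phiB p B))).Normal :=
            Subgroup.Normal.map hKn _ (QuotientGroup.mk'_surjective _)
          have hpV : ∀ v ∈ B.map (QuotientGroup.mk' (phiB p B)), v ^ p = 1 := by
            rintro _ ⟨b, hb, rfl⟩
            rw [← map_pow]
            apply (QuotientGroup.eq_one_iff _).mpr
            exact Subgroup.mem_sup_right (Subgroup.subset_closure ⟨b, hb, by rw [pow_one]⟩)
          have hKK' : ∀ k ∈ K.map (QuotientGroup.mk' (phiB p B)),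
              ∀ k' ∈ K.map (QuotientGroup.mk' (phiB p B)), k * k' * k⁻¹ * k'⁻¹ ∈
              Subgroup.centralizer ((B.map (QuotientGroup.mk' (phiB p B)) : Subgroup _) : Set _) := by
            rintro _ ⟨k₁, hk₁, rfl⟩ _ ⟨k₂, hk₂, rfl⟩
            have h1 : k₁ * k₂ * k₁⁻¹ * k₂⁻¹ ∈ pCore p G :=
              hKK (Subgroup.commutator_mem_commutator hk₁ hk₂)
            have h2 := hO h1
            rw [← map_mul, ← map_inv, ← map_mul, ← map_inv, ← map_mul]
            exact h2
          have hKm' : ∀ k ∈ K.map (QuotientGroup.mk' (phiB p B)), k ^ m ∈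
              Subgroup.centralizer ((B.map (QuotientGroup.mk' (phiB p B)) : Subgroup _) : Set _) := by
            rintro _ ⟨k₁, hk₁, rfl⟩
            rw [← map_pow]
            exact hO (hKm k₁ hk₁)
          have hq' : ∀ v ∈ B.map (QuotientGroup.mk' (phiB p B)),
              (QuotientGroup.mk' (phiB p B) a) * ((QuotientGroup.mk' (phiB p B) a) * v *
                (QuotientGroup.mk' (phiB p B) a)⁻¹ * v⁻¹) * (QuotientGroup.mk' (phiB p B) a)⁻¹ =
              (QuotientGroup.mk' (phiB p B) a) * v * (QuotientGroup.mk' (phiB p B) a)⁻¹ * v⁻¹ := by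
            rintro _ ⟨b, hb, rfl⟩
            have h1 := congrArg (QuotientGroup.mk' (phiB p B)) (hquad b hb)
            simpa only [map_mul, map_inv] using h1
          have hfin := ps_ring (B.map (QuotientGroup.mk' (phiB p B))) hp hp2 hpV
            (K.map (QuotientGroup.mk' (phiB p B))) hKK' hm hKm' (QuotientGroup.mk' (phiB p B) a)
            hq' (QuotientGroup.mk' (phiB p B) k) (Subgroup.mem_map_of_mem _ hk)
          rw [← map_inv, ← map_mul, ← map_inv, ← map_mul, ← map_mul] at hfin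
          exact hfin
        have hstab : ∀ k ∈ K, a * k * a⁻¹ * k⁻¹ ∈ stabL p B := by
          intro k hk
          apply stabL_of_sec B (phiB p B) hB₁p
          refine ⟨?_, hsec k hk⟩
          have h1 : k * a⁻¹ * k⁻¹ ∈ stabL p (phiB p B) :=
            (stabL_normal p (phiB p B)).conj_mem _ (Subgroup.inv_mem _ ha1) k
          have h2 : a * k * a⁻¹ * k⁻¹ = a * (k * a⁻¹ * k⁻¹) := by group
          rw [h2]
          exact Subgroup.mul_mem _ ha1 h1
        -- finish in G / C_G(B)
        haveI hK''n : (K.map (QuotientGroup.mk' (Subgroup.centralizer (B : Set G)))).Normal :=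
          Subgroup.Normal.map hKn _ (QuotientGroup.mk'_surjective _)
        obtain ⟨c, -, hc⟩ := (Nat.dvd_prime_pow hp).mp
          (hKi ▸ Subgroup.index_map_dvd K
            (QuotientGroup.mk'_surjective (Subgroup.centralizer (B : Set G))))
        obtain ⟨j, hj⟩ := IsPGroup.iff_card.mp hBp
        have hapow : (QuotientGroup.mk' (Subgroup.centralizer (B : Set G)) a) ^ (p ^ j) = 1 := by
          rw [← map_pow, ← hj]
          exact (QuotientGroup.eq_one_iff _).mpr (pow_card_mem_centralizer_of_quad B a hq)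
        apply mem_pCore_of_comm (K.map (QuotientGroup.mk' (Subgroup.centralizer (B : Set G)))) hc
          (QuotientGroup.mk' (Subgroup.centralizer (B : Set G)) a) hapow
        rintro _ ⟨k, hk, rfl⟩
        have h1 := hstab k hk
        rw [← map_inv, ← map_mul, ← map_inv, ← map_mul, ← map_mul]
        exact h1
  intro B hBn hBp
  exact main _ B hBp rfl

end PStable

end Cfsg.Agent.Lib.Helper3
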