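import Cfsg.Agent.Lib.Helper3.GT1
import Cfsg.Agent.Lib.Helper3.GT3
import Cfsg.Agent.Lib.Helper3.ZJ3

set_option autoImplicit false
set_option linter.style.haveILetI false

namespace Cfsg.Agent.Lib.Helper3

open Cfsg

universe u

/-- a "Glauberman–Thompson functor": a characteristic-subgroup functor `W` on subgroups with
the properties needed to run the Glauberman–Thompson normal `p`-complement argument. -/
structure GTFunctor (p : ℕ) where
  W : ∀ {X : Type u} [Group X], Subgroup X → Subgroup X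
  le : ∀ {X : Type u} [Group X] [Finite X] (D : Subgroup X), W D ≤ D
  map : ∀ {X Y : Type u} [Group X] [Group Y] (f : X →* Y) (D : Subgroup X),
    D ⊓ f.ker = ⊥ → W (D.map f) = (W D).map f
  ne_bot : ∀ {X : Type u} [Group X] [Finite X] (D : Subgroup X), IsPGroup p D → D ≠ ⊥ →
    W D ≠ ⊥
  zj : ∀ {X : Type u} [Group X] [Finite X] (P : Sylow p X) (D : Subgroup X),
    IsStronglyClosed D (P : Subgroup X) →
    Subgroup.centralizer (pCore p X : Set X) ≤ pCore p X →
    (∀ (Q : Subgroup X) [Q.Normal], IsPGroup p Q → IsPStableOn p Q) → (W D).Normal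

/-- the functor `D ↦ Z(J(D))` (abelian version of the Thompson subgroup) -/
noncomputable def gtAb (p : ℕ) [Fact p.Prime] (hp : p ≠ 2) : GTFunctor.{u} p where
  W := fun D => centerThompsonAOf D
  le := fun D => centerThompsonAOf_le D
  map := fun _ _ h => centerThompsonAOf_map h
  ne_bot := fun _ hD hne => centerThompsonAOf_ne_bot hD hne
  zj := fun P D hD hc hst => (sc_zj_normal hp P D hD hc hst).1

section

variable {p : ℕ} {G : Type u} [Group G]

theorem GTFunctor.normalizer_le (W : GTFunctor.{u} p) (D : Subgroup G) :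
    Subgroup.normalizer (D : Set G) ≤ Subgroup.normalizer (W.W D : Set G) := by
  intro g hg
  have h1 : D.map (MulAut.conj g).toMonoidHom = D := by
    ext x
    constructor
    · rintro ⟨d, hd, rfl⟩
      exact (Subgroup.mem_normalizer_iff.mp hg d).mp hd
    · intro hx
      refine ⟨g⁻¹ * x * g, (Subgroup.mem_normalizer_iff''.mp hg x).mp hx, ?_⟩
      show g * (g⁻¹ * x * g) * g⁻¹ = x
      group
  have h2 : W.W D = (W.W D).map (MulAut.conj g).toMonoidHom := by
    have h3 := W.map (MulAut.conj g).toMonoidHom D (by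
      have h4 : (MulAut.conj g).toMonoidHom.ker = ⊥ :=
        (MonoidHom.ker_eq_bot_iff _).mpr (MulAut.conj g).injective
      rw [h4, inf_bot_eq])
    rw [h1] at h3
    exact h3
  rw [Subgroup.mem_normalizer_iff]
  intro x
  constructor
  · intro hx
    rw [h2]
    exact ⟨x, hx, rfl⟩
  · intro hx
    rw [h2] at hx
    obtain ⟨y, hy, hyx⟩ := hx
    have h5 : y = x := (MulAut.conj g).injective hyx
    rw [← h5]; exact hy

theorem sc_le_normalizer {D P : Subgroup G} (h : IsStronglyClosed D P) :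
    P ≤ Subgroup.normalizer (D : Set G) := by
  intro x hx
  have key : ∀ y ∈ P, ∀ d ∈ D, y * d * y⁻¹ ∈ D := fun y hy d hd =>
    h.2 d hd y (P.mul_mem (P.mul_mem hy (h.1 hd)) (P.inv_mem hy))
  rw [Subgroup.mem_normalizer_iff]
  intro d
  constructor
  · exact key x hx d
  · intro hd
    have h1 := key x⁻¹ (P.inv_mem hx) _ hd
    have h2 : x⁻¹ * (x * d * x⁻¹) * x⁻¹⁻¹ = d := by group
    rwa [h2] at h1

theorem sc_map_mk (L : Subgroup G) [L.Normal] (P D : Subgroup G)
    (hD : IsStronglyClosed D P)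
    (hL : ∀ y : G, (∃ x ∈ D, ∃ g : G, y = g * x * g⁻¹) → y ∈ P ⊔ L →
      ∃ l ∈ L, l * y * l⁻¹ ∈ P) :
    IsStronglyClosed (D.map (QuotientGroup.mk' L)) (P.map (QuotientGroup.mk' L)) := by
  refine ⟨Subgroup.map_mono hD.1, ?_⟩
  rintro _ ⟨d, hd, rfl⟩ gbar hg
  obtain ⟨g, rfl⟩ := QuotientGroup.mk'_surjective L gbar
  have h1 : g * d * g⁻¹ ∈ P ⊔ L := by
    obtain ⟨x, hx, hxe⟩ := hg
    have h2 : QuotientGroup.mk' L x = QuotientGroup.mk' L (g * d * g⁻¹) := by
      rw [hxe]; simp only [map_mul, map_inv]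
    have h3 : x⁻¹ * (g * d * g⁻¹) ∈ L := QuotientGroup.eq.mp h2
    have h4 : g * d * g⁻¹ = x * (x⁻¹ * (g * d * g⁻¹)) := by group
    rw [h4]
    exact Subgroup.mul_mem _ (Subgroup.mem_sup_left hx) (Subgroup.mem_sup_right h3)
  obtain ⟨l, hl, hlP⟩ := hL _ ⟨d, hd, g, rfl⟩ h1
  have h4 : (l * g) * d * (l * g)⁻¹ ∈ D := by
    apply hD.2 d hd
    have h5 : (l * g) * d * (l * g)⁻¹ = l * (g * d * g⁻¹) * l⁻¹ := by group
    rw [h5]; exact hlP
  refine ⟨(l * g) * d * (l * g)⁻¹, h4, ?_⟩
  have hl1 : QuotientGroup.mk' L l = 1 := (QuotientGroup.eq_one_iff l).mpr hl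
  simp only [map_mul, map_inv, hl1, one_mul]

theorem pCore_quot_pCore_eq_bot [Finite G] [Fact p.Prime] :
    pCore p (G ⧸ pCore p G) = ⊥ := by
  have hcard := card_comap_mk' (pCore p G) (pCore p (G ⧸ pCore p G))
  obtain ⟨i, hi⟩ := IsPGroup.iff_card.mp (pCore_isPGroup' p G)
  obtain ⟨j, hj⟩ := IsPGroup.iff_card.mp (pCore_isPGroup' p (G ⧸ pCore p G))
  have hp' : IsPGroup p
      ↥((pCore p (G ⧸ pCore p G)).comap (QuotientGroup.mk' (pCore p G))) := by
    apply IsPGroup.of_card (n := j + i)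
    rw [hcard, hi, hj, pow_add]
  have hle := le_pCore' (Subgroup.Normal.comap (pCore_normal' p _) _) hp'
  rw [eq_bot_iff]
  intro y hy
  obtain ⟨g, rfl⟩ := QuotientGroup.mk'_surjective (pCore p G) y
  rw [Subgroup.mem_bot]
  exact (QuotientGroup.eq_one_iff g).mpr (hle hy)

/-- transfer of the inductive hypothesis to a subgroup `M` with Sylow subgroup `R` -/
theorem gt_sub [Fact p.Prime] [Finite G] (W : GTFunctor.{u} p)
    (M : Subgroup G) (R : Sylow p ↥M) (D₁ : Subgroup G)
    (hD₁ : D₁ ≤ (R : Subgroup ↥M).map M.subtype)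
    (hsc : ∀ x ∈ D₁, ∀ g ∈ M, g * x * g⁻¹ ∈ (R : Subgroup ↥M).map M.subtype →
      g * x * g⁻¹ ∈ D₁)
    (hN : HasNormalPComplement p ↥(Subgroup.normalizer (W.W D₁ : Set G)))
    (IH : ∀ (R' : Sylow p ↥M) (D' : Subgroup ↥M), IsStronglyClosed D' (R' : Subgroup ↥M) →
      HasNormalPComplement p ↥(Subgroup.normalizer (W.W D' : Set ↥M)) →
      HasNormalPComplement p ↥M) :
    HasNormalPComplement p ↥M := by
  have hD₁M : D₁ ≤ M := hD₁.trans (Subgroup.map_subtype_le _)
  apply IH R (D₁.subgroupOf M)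
  · constructor
    · intro x hx
      rw [Subgroup.mem_subgroupOf] at hx
      obtain ⟨y, hy, hyx⟩ := hD₁ hx
      have h1 : y = x := Subtype.ext hyx
      rw [← h1]; exact hy
    · intro x hx g hg
      rw [Subgroup.mem_subgroupOf] at hx ⊢
      exact hsc x hx g g.2 ⟨_, hg, rfl⟩
  · have hmap : (W.W (D₁.subgroupOf M)).map M.subtype = W.W D₁ := by
      rw [← W.map M.subtype (D₁.subgroupOf M) (by rw [Subgroup.ker_subtype, inf_bot_eq]),
        Subgroup.map_subgroupOf_eq_of_le hD₁M]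
    let f : ↥(Subgroup.normalizer (W.W (D₁.subgroupOf M) : Set ↥M)) →*
        ↥(Subgroup.normalizer (W.W D₁ : Set G)) :=
      (M.subtype.comp (Subgroup.normalizer (W.W (D₁.subgroupOf M) : Set ↥M)).subtype).codRestrict _
        (fun x => by
          have h1 := Subgroup.le_normalizer_map M.subtype (Subgroup.mem_map_of_mem M.subtype x.2)
          rw [hmap] at h1
          exact h1)
    refine pn_of_injective f ?_ hN
    intro x y hxy
    have h1 : ((x : ↥M) : G) = ((y : ↥M) : G) :=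
      congrArg (fun z : ↥(Subgroup.normalizer (W.W D₁ : Set G)) => (z : G)) hxy
    exact Subtype.ext (Subtype.ext h1)

end

end Cfsg.Agent.Lib.Helper3
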