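import Cfsg.Agent.Lib.Helper3.GT4
import Cfsg.Agent.Lib.Helper3.DStar
import Cfsg.Agent.Lib.Helper8.CoprimeSylow

set_option autoImplicit false
set_option linter.style.haveILetI false

namespace Cfsg.Agent.Lib.Helper3

open Cfsg
open Cfsg.Agent.Lib.Helper2 (hasNormalPComplement_iff mem_of_index_pow_of_coprime_orderOf
  coprime_orderOf_of_mem_of_coprime_card exists_normal_complement_of_central_sylow)

universe u

section GT5

variable {p : ℕ} [Fact p.Prime] {G : Type u} [Group G] [Finite G]

local notation "NN(" Q ")" => Subgroup.normalizer ((Q : Subgroup G) : Set G)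

/-- Step C of the Glauberman–Thompson argument: a minimal counterexample has `O_p(G) ≠ 1`. -/
theorem gt_stepC (W : GTFunctor.{u} p) (P : Sylow p G) (D : Subgroup G)
    (hD : IsStronglyClosed D (P : Subgroup G)) (hDne : D ≠ ⊥)
    (hN : HasNormalPComplement p ↥(Subgroup.normalizer (W.W D : Set G)))
    (hnp : ¬ HasNormalPComplement p G)
    (IHM : ∀ M : Subgroup G, M ≠ ⊤ → ∀ (R' : Sylow p ↥M) (D' : Subgroup ↥M),
      IsStronglyClosed D' (R' : Subgroup ↥M) →
      HasNormalPComplement p ↥(Subgroup.normalizer (W.W D' : Set ↥M)) →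
      HasNormalPComplement p ↥M) :
    pCore p G ≠ ⊥ := by
  obtain ⟨Q₀, hQ₀⟩ := pn_exists_local hnp
  obtain ⟨Q, hQ𝓗, hQmax⟩ := Set.exists_max_image
    {Q : Subgroup G | IsPGroup p Q ∧ Q ≠ ⊥ ∧ ¬ HasNormalPComplement p ↥NN(Q)}
    (fun Q => Nat.card ↥((P : Subgroup G) ⊓ NN(Q)))
    (Set.toFinite _) ⟨Q₀, hQ₀⟩
  obtain ⟨hQp, hQne, hQnp⟩ := hQ𝓗
  by_cases hNtop : NN(Q) = ⊤
  · intro hbot
    have hQn : Q.Normal := Subgroup.normalizer_eq_top_iff.mp hNtop
    have h1 := le_pCore' hQn hQp
    rw [hbot] at h1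
    exact hQne (le_bot_iff.mp h1)
  · exfalso
    apply hQnp
    have hS₀p : IsPGroup p ↥(((P : Subgroup G) ⊓ NN(Q)).subgroupOf NN(Q)) :=
      (P.isPGroup'.to_le inf_le_left).comap_subtype
    obtain ⟨R, hR⟩ := hS₀p.exists_le_sylow
    have hS₁p : IsPGroup p ↥((R : Subgroup ↥NN(Q)).map NN(Q).subtype) := R.isPGroup'.map _
    obtain ⟨g, -, hg⟩ := exists_conj_le_sylow_of_le P (M := ⊤) le_top le_top hS₁p
    have hQ'𝓗 : Q.map (MulAut.conj g).toMonoidHom ∈
        {Q : Subgroup G | IsPGroup p Q ∧ Q ≠ ⊥ ∧ ¬ HasNormalPComplement p ↥NN(Q)} := by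
      refine ⟨hQp.map _, ?_, ?_⟩
      · intro h
        exact hQne ((Subgroup.map_eq_bot_iff_of_injective _ (MulAut.conj g).injective).mp h)
      · intro h
        exact hQnp (pn_normalizer_conj Q g h)
    have hle1 := hQmax _ hQ'𝓗
    have hS₁conj : ((R : Subgroup ↥NN(Q)).map NN(Q).subtype).map (MulAut.conj g).toMonoidHom ≤
        (P : Subgroup G) ⊓ NN(Q.map (MulAut.conj g).toMonoidHom) := by
      rintro _ ⟨x, hx, rfl⟩
      refine ⟨hg x hx, ?_⟩
      have hxN : x ∈ NN(Q) := Subgroup.map_subtype_le _ hx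
      exact Subgroup.le_normalizer_map _ (Subgroup.mem_map_of_mem _ hxN)
    have hcard1 : Nat.card ↥((R : Subgroup ↥NN(Q)).map NN(Q).subtype) ≤
        Nat.card ↥((P : Subgroup G) ⊓ NN(Q)) := by
      calc Nat.card ↥((R : Subgroup ↥NN(Q)).map NN(Q).subtype)
          = Nat.card ↥(((R : Subgroup ↥NN(Q)).map NN(Q).subtype).map
              (MulAut.conj g).toMonoidHom) :=
            (Subgroup.card_map_of_injective (MulAut.conj g).injective).symm
        _ ≤ Nat.card ↥((P : Subgroup G) ⊓ NN(Q.map (MulAut.conj g).toMonoidHom)) :=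
            Subgroup.card_le_of_le hS₁conj
        _ ≤ _ := hle1
    have hS₀S₁ : (P : Subgroup G) ⊓ NN(Q) ≤ (R : Subgroup ↥NN(Q)).map NN(Q).subtype := by
      intro x hx
      exact ⟨⟨x, hx.2⟩, hR (Subgroup.mem_subgroupOf.mpr hx), rfl⟩
    have hS₁eq : (R : Subgroup ↥NN(Q)).map NN(Q).subtype = (P : Subgroup G) ⊓ NN(Q) :=
      (Subgroup.eq_of_le_of_card_ge hS₀S₁ hcard1).symm
    have hQP : Q ≤ (P : Subgroup G) := by
      haveI hQn' : (Q.subgroupOf NN(Q)).Normal := inferInstance
      have hQp' : IsPGroup p ↥(Q.subgroupOf NN(Q)) := hQp.comap_subtype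
      have hle := hQp'.le_sylow_of_normal R
      intro q hq
      have h1 : (⟨q, Subgroup.le_normalizer hq⟩ : ↥NN(Q)) ∈ (R : Subgroup ↥NN(Q)) :=
        hle (Subgroup.mem_subgroupOf.mpr hq)
      have h2 : q ∈ (R : Subgroup ↥NN(Q)).map NN(Q).subtype := ⟨_, h1, rfl⟩
      rw [hS₁eq] at h2
      exact h2.1
    have hD₀le : D ⊓ ((P : Subgroup G) ⊓ NN(Q)) ≤ (R : Subgroup ↥NN(Q)).map NN(Q).subtype := by
      rw [hS₁eq]; exact inf_le_right
    have hsc₀ : ∀ x ∈ D ⊓ ((P : Subgroup G) ⊓ NN(Q)), ∀ g ∈ NN(Q),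
        g * x * g⁻¹ ∈ (R : Subgroup ↥NN(Q)).map NN(Q).subtype →
        g * x * g⁻¹ ∈ D ⊓ ((P : Subgroup G) ⊓ NN(Q)) := by
      intro x hx g _ hgx
      rw [hS₁eq] at hgx
      exact ⟨hD.2 x hx.1 g hgx.1, hgx⟩
    have hNW : HasNormalPComplement p ↥NN(W.W (D ⊓ ((P : Subgroup G) ⊓ NN(Q)))) := by
      by_cases hPN : (P : Subgroup G) ≤ NN(Q)
      · have h1 : D ⊓ ((P : Subgroup G) ⊓ NN(Q)) = D :=
          inf_eq_left.mpr (le_inf hD.1 (hD.1.trans hPN))
        rw [h1]; exact hN
      · have hlt : (P : Subgroup G) ⊓ NN(Q) < (P : Subgroup G) :=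
          lt_of_le_of_ne inf_le_left (fun h => hPN (inf_eq_left.mp h))
        obtain ⟨x, hxP, hxN, hxS⟩ := exists_mem_normalizer_not_mem P.isPGroup' hlt
        obtain ⟨z, hzD, hz1, hzc⟩ := pn_inf_center (P : Subgroup G) D P.isPGroup' hD.1
          (fun y hy d hd => (Subgroup.mem_normalizer_iff.mp (sc_le_normalizer hD hy) d).mp hd)
          hDne
        have hzN : z ∈ NN(Q) := by
          apply fin_mem_normalizer
          intro q hq
          rw [← hzc q (hQP hq), mul_inv_cancel_right]; exact hq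
        have hD₀ne : D ⊓ ((P : Subgroup G) ⊓ NN(Q)) ≠ ⊥ := by
          intro h
          have h1 : z ∈ D ⊓ ((P : Subgroup G) ⊓ NN(Q)) := ⟨hzD, hD.1 hzD, hzN⟩
          rw [h, Subgroup.mem_bot] at h1
          exact hz1 h1
        have hD₀p : IsPGroup p ↥(D ⊓ ((P : Subgroup G) ⊓ NN(Q))) :=
          P.isPGroup'.to_le (inf_le_left.trans hD.1)
        have hWp : IsPGroup p ↥(W.W (D ⊓ ((P : Subgroup G) ⊓ NN(Q)))) := hD₀p.to_le (W.le _)
        have hWne := W.ne_bot _ hD₀p hD₀ne
        have hS₀N : (P : Subgroup G) ⊓ NN(Q) ≤ NN(D ⊓ ((P : Subgroup G) ⊓ NN(Q))) := by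
          intro y hy
          exact mem_normalizer_inf' (sc_le_normalizer hD hy.1) (Subgroup.le_normalizer hy)
        have hxN' : x ∈ NN(D ⊓ ((P : Subgroup G) ⊓ NN(Q))) :=
          mem_normalizer_inf' (sc_le_normalizer hD hxP) hxN
        have hlt2 : (P : Subgroup G) ⊓ NN(Q) <
            (P : Subgroup G) ⊓ NN(W.W (D ⊓ ((P : Subgroup G) ⊓ NN(Q)))) := by
          refine lt_of_le_of_ne (le_inf inf_le_left (hS₀N.trans (W.normalizer_le _))) ?_
          intro h
          apply hxS
          rw [h]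
          exact ⟨hxP, W.normalizer_le _ hxN'⟩
        by_contra hcon
        have hmem : W.W (D ⊓ ((P : Subgroup G) ⊓ NN(Q))) ∈
            {Q : Subgroup G | IsPGroup p Q ∧ Q ≠ ⊥ ∧ ¬ HasNormalPComplement p ↥NN(Q)} :=
          ⟨hWp, hWne, hcon⟩
        have h1 := hQmax _ hmem
        have h2 := card_lt_of_lt hlt2
        exact absurd h1 (not_le.mpr h2)
    exact gt_sub W NN(Q) R _ hD₀le hsc₀ hNW (IHM NN(Q) hNtop)

/-- Step E: the structure of a minimal counterexample forces `C_G(O_p(G)) ≤ O_p(G)` and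
`p`-stability. -/
theorem gt_stepE (hp2 : p ≠ 2) (P : Sylow p G) (hO' : pPrimeCore p G = ⊥)
    (star : ∀ M : Subgroup G, (P : Subgroup G) ≤ M → M ≠ ⊤ → HasNormalPComplement p ↥M)
    (hquot : HasNormalPComplement p (G ⧸ pCore p G)) :
    Subgroup.centralizer (pCore p G : Set G) ≤ pCore p G ∧
    (∀ (Q : Subgroup G) [Q.Normal], IsPGroup p Q → IsPStableOn p Q) := by
  have hp : p.Prime := Fact.out
  rw [hasNormalPComplement_iff] at hquot
  obtain ⟨Kb, hKbn, hKbc, a, ha⟩ := hquot
  haveI := hKbn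
  have hHp : IsPGroup p ↥(pCore p G) := pCore_isPGroup' p G
  obtain ⟨K, hKdef⟩ : ∃ K, K = Kb.comap (QuotientGroup.mk' (pCore p G)) := ⟨_, rfl⟩
  haveI hKn : K.Normal := by rw [hKdef]; exact Subgroup.Normal.comap hKbn _
  have hKi : K.index = p ^ a := by
    rw [hKdef, Subgroup.index_comap_of_surjective Kb (QuotientGroup.mk'_surjective _)]; exact ha
  have hmemK : ∀ x : G, x ∈ K ↔ QuotientGroup.mk' (pCore p G) x ∈ Kb := by
    intro x; rw [hKdef]; exact Subgroup.mem_comap
  have hE1 : Subgroup.centralizer (pCore p G : Set G) ≤ pCore p G := by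
    haveI hCn : (Subgroup.centralizer (pCore p G : Set G)).Normal := inferInstance
    obtain ⟨X, hXdef⟩ : ∃ X, X = Subgroup.centralizer (pCore p G : Set G) ⊓ K := ⟨_, rfl⟩
    haveI hXn : X.Normal := by rw [hXdef]; infer_instance
    have hXC : X ≤ Subgroup.centralizer (pCore p G : Set G) := by rw [hXdef]; exact inf_le_left
    have hXK : X ≤ K := by rw [hXdef]; exact inf_le_right
    have hXp : IsPGroup p ↥X := by
      obtain ⟨S⟩ : Nonempty (Sylow p ↥X) := inferInstance
      have hSH : ∀ s ∈ (S : Subgroup ↥X), ((s : ↥X) : G) ∈ pCore p G := by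
        intro s hs
        have hSp : IsPGroup p ↥(((S : Subgroup ↥X).map X.subtype).map
            (QuotientGroup.mk' (pCore p G))) := (S.isPGroup'.map _).map _
        have hbot := inf_eq_bot_of_coprime' hSp hKbc
        have h1 : QuotientGroup.mk' (pCore p G) ((s : ↥X) : G) ∈
            ((S : Subgroup ↥X).map X.subtype).map (QuotientGroup.mk' (pCore p G)) ⊓ Kb :=
          ⟨⟨_, ⟨s, hs, rfl⟩, rfl⟩, (hmemK _).mp (hXK s.2)⟩
        rw [hbot, Subgroup.mem_bot] at h1
        exact (QuotientGroup.eq_one_iff _).mp h1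
      have hcen : (S : Subgroup ↥X) ≤ Subgroup.center ↥X := by
        intro s hs
        rw [Subgroup.mem_center_iff]
        intro x
        apply Subtype.ext
        show (x : G) * (s : G) = (s : G) * (x : G)
        exact (Subgroup.mem_centralizer_iff.mp (hXC x.2) _ (hSH s hs)).symm
      obtain ⟨Y₀, hY₀n, hY₀compl⟩ := exists_normal_complement_of_central_sylow S hcen
      have hpnX : HasNormalPComplement p ↥X := ⟨S, Y₀, hY₀n, hY₀compl⟩
      rw [hasNormalPComplement_iff] at hpnX
      obtain ⟨Y, hYn, hYc, b, hb⟩ := hpnX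
      haveI := hYn
      have hYGn : (Y.map X.subtype).Normal := by
        constructor
        rintro _ ⟨y, hy, rfl⟩ g
        have hyX : g * (y : G) * g⁻¹ ∈ X := hXn.conj_mem _ y.2 g
        refine ⟨⟨g * (y : G) * g⁻¹, hyX⟩, ?_, rfl⟩
        apply mem_of_index_pow_of_coprime_orderOf Y hb
        have h1 : (orderOf (y : ↥X)).Coprime p :=
          coprime_orderOf_of_mem_of_coprime_card Y hYc y hy
        have h2 : orderOf (⟨g * (y : G) * g⁻¹, hyX⟩ : ↥X) = orderOf (y : ↥X) := by
          rw [← Subgroup.orderOf_coe, ← Subgroup.orderOf_coe]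
          exact (MulAut.conj g).orderOf_eq (y : G)
        rw [h2]; exact h1
      have hYGc : (Nat.card ↥(Y.map X.subtype)).Coprime p := by
        rw [Subgroup.card_map_of_injective (Subgroup.subtype_injective _)]; exact hYc
      have hYbot : Y.map X.subtype = ⊥ := le_bot_iff.mp (hO' ▸ le_pPrimeCore' hYGn hYGc)
      have hY0 : Y = ⊥ :=
        (Subgroup.map_eq_bot_iff_of_injective _ (Subgroup.subtype_injective _)).mp hYbot
      rw [hY0, Subgroup.index_bot] at hb
      exact IsPGroup.of_card hb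
    have hCp : IsPGroup p ↥(Subgroup.centralizer (pCore p G : Set G)) := by
      rintro ⟨c, hc⟩
      have h1 : c ^ (p ^ a) ∈ K := by
        rw [← hKi]; exact Subgroup.pow_index_mem K c
      have h2 : c ^ (p ^ a) ∈ X := by rw [hXdef]; exact ⟨Subgroup.pow_mem _ hc _, h1⟩
      obtain ⟨j, hj⟩ := hXp ⟨_, h2⟩
      refine ⟨a + j, Subtype.ext ?_⟩
      show c ^ (p ^ (a + j)) = 1
      rw [pow_add, pow_mul]
      exact congrArg Subtype.val hj
    exact le_pCore' hCn hCp
  have hPbp : IsPGroup p ↥((P : Subgroup G).map (QuotientGroup.mk' (pCore p G))) :=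
    P.isPGroup'.map _
  have hE2 : ∀ Qb : Subgroup (G ⧸ pCore p G), Qb ≤ Kb →
      (P : Subgroup G).map (QuotientGroup.mk' (pCore p G)) ≤
        Subgroup.normalizer (Qb : Set (G ⧸ pCore p G)) →
      Qb = ⊥ ∨ Qb = Kb := by
    intro Qb hQK hPQ
    obtain ⟨M, hMdef⟩ : ∃ M, M = (Qb ⊔ (P : Subgroup G).map
        (QuotientGroup.mk' (pCore p G))).comap (QuotientGroup.mk' (pCore p G)) := ⟨_, rfl⟩
    have hmemM : ∀ x : G, x ∈ M ↔ QuotientGroup.mk' (pCore p G) x ∈
        Qb ⊔ (P : Subgroup G).map (QuotientGroup.mk' (pCore p G)) := by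
      intro x; rw [hMdef]; exact Subgroup.mem_comap
    have hPM : (P : Subgroup G) ≤ M := by
      intro x hx
      rw [hmemM]
      exact Subgroup.mem_sup_right (Subgroup.mem_map_of_mem _ hx)
    have hHM : pCore p G ≤ M := by
      intro h hh
      have h1 : QuotientGroup.mk' (pCore p G) h = 1 := (QuotientGroup.eq_one_iff h).mpr hh
      rw [hmemM, h1]
      exact Subgroup.one_mem _
    by_cases hM : M = ⊤
    · right
      have htop : Qb ⊔ (P : Subgroup G).map (QuotientGroup.mk' (pCore p G)) = ⊤ := by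
        rw [eq_top_iff]
        intro y _
        obtain ⟨g, rfl⟩ := QuotientGroup.mk'_surjective (pCore p G) y
        exact (hmemM g).mp (hM ▸ Subgroup.mem_top g)
      haveI hQn : Qb.Normal := by
        rw [← Subgroup.normalizer_eq_top_iff, eq_top_iff, ← htop]
        exact sup_le Subgroup.le_normalizer hPQ
      apply le_antisymm hQK
      intro k hk
      have hk' : k ∈ Qb ⊔ (P : Subgroup G).map (QuotientGroup.mk' (pCore p G)) :=
        htop ▸ Subgroup.mem_top k
      obtain ⟨q, hq, s, hs, rfl⟩ := Subgroup.mem_sup_of_normal_left.mp hk'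
      have hsK : s ∈ Kb := by
        have h1 : s = q⁻¹ * (q * s) := by group
        rw [h1]
        exact Kb.mul_mem (Kb.inv_mem (hQK hq)) hk
      have hbot := inf_eq_bot_of_coprime' hPbp hKbc
      have hs1 : s ∈ (P : Subgroup G).map (QuotientGroup.mk' (pCore p G)) ⊓ Kb := ⟨hs, hsK⟩
      rw [hbot, Subgroup.mem_bot] at hs1
      rw [hs1, mul_one]; exact hq
    · left
      have hMpn := star M hPM hM
      have hMp : IsPGroup p ↥M := pn_isPGroup_of_centralizer_le M (pCore p G) hHM hHp hE1 hMpn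
      have hQbp : IsPGroup p ↥Qb := by
        apply (hMp.map (QuotientGroup.mk' (pCore p G))).to_le
        intro q hq
        obtain ⟨g, rfl⟩ := QuotientGroup.mk'_surjective (pCore p G) q
        exact ⟨g, (hmemM g).mpr (Subgroup.mem_sup_left hq), rfl⟩
      have hbot := inf_eq_bot_of_coprime' hQbp hKbc
      exact le_bot_iff.mp ((le_inf le_rfl hQK).trans (le_of_eq hbot))
  have hKbab : ⁅Kb, Kb⁆ = ⊥ := by
    by_cases hKb : Kb = ⊥
    · rw [hKb]; exact Subgroup.commutator_bot_left ⊥
    · have hcne : Nat.card ↥Kb ≠ 1 := fun h => hKb (Subgroup.eq_bot_of_card_eq _ h)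
      obtain ⟨q, hq, hqdvd⟩ := Nat.exists_prime_and_dvd hcne
      haveI : Fact q.Prime := ⟨hq⟩
      obtain ⟨Q, hQ⟩ := Cfsg.Agent.Lib.Helper8.h8_exists_invariant_sylow Kb hKbc
        ((P : Subgroup G).map (QuotientGroup.mk' (pCore p G))) hPbp q
      rcases hE2 _ (Subgroup.map_subtype_le _) hQ with h | h
      · exfalso
        have h1 : (Q : Subgroup ↥Kb) = ⊥ :=
          (Subgroup.map_eq_bot_iff_of_injective _ (Subgroup.subtype_injective _)).mp h
        exact Q.ne_bot_of_dvd_card hqdvd h1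
      · have hKbq : IsPGroup q ↥Kb := by
          have h1 : IsPGroup q ↥((Q : Subgroup ↥Kb).map Kb.subtype) := Q.isPGroup'.map _
          rw [h] at h1; exact h1
        have hlt : ⁅Kb, Kb⁆ < Kb := commutator_lt_of_isPGroup hKbq hKb
        have hnorm : (P : Subgroup G).map (QuotientGroup.mk' (pCore p G)) ≤
            Subgroup.normalizer ((⁅Kb, Kb⁆ : Subgroup (G ⧸ pCore p G)) : Set (G ⧸ pCore p G)) :=
          le_normalizer_of_normal _ _
        rcases hE2 _ hlt.le hnorm with h2 | h2
        · exact h2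
        · exact absurd h2 hlt.ne
  have hKK : ⁅K, K⁆ ≤ pCore p G := by
    have h1 : K.map (QuotientGroup.mk' (pCore p G)) = Kb := by
      rw [hKdef]; exact Subgroup.map_comap_eq_self_of_surjective (QuotientGroup.mk'_surjective _) Kb
    have h2 : (⁅K, K⁆).map (QuotientGroup.mk' (pCore p G)) = ⊥ := by
      rw [Subgroup.map_commutator, h1, hKbab]
    have h3 := (Subgroup.map_eq_bot_iff _).mp h2
    rwa [QuotientGroup.ker_mk'] at h3
  have hKm : ∀ k ∈ K, k ^ Nat.card ↥Kb ∈ pCore p G := by
    intro k hk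
    have h1 : (⟨QuotientGroup.mk' (pCore p G) k, (hmemK k).mp hk⟩ : ↥Kb) ^ Nat.card ↥Kb = 1 :=
      pow_card_eq_one'
    have h2 : (QuotientGroup.mk' (pCore p G) k) ^ Nat.card ↥Kb = 1 := congrArg Subtype.val h1
    rw [← map_pow] at h2
    exact (QuotientGroup.eq_one_iff _).mp h2
  exact ⟨hE1, pstable_of_structure hp2 K hKK hKbc hKm hKi⟩

end GT5

section Main

variable {p : ℕ} [Fact p.Prime]

theorem gt_main_aux (hp2 : p ≠ 2) (W : GTFunctor.{u} p) :
    ∀ n : ℕ, ∀ (G : Type u) [Group G] [Finite G], Nat.card G = n → ∀ (P : Sylow p G)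
      (D : Subgroup G), IsStronglyClosed D (P : Subgroup G) →
      HasNormalPComplement p ↥(Subgroup.normalizer (W.W D : Set G)) →
      HasNormalPComplement p G := by
  intro n
  induction n using Nat.strong_induction_on with
  | _ n ih =>
    intro G _ _ hcard P D hD hN
    by_contra hnp
    have hp : p.Prime := Fact.out
    have hDne : D ≠ ⊥ := by
      intro h
      apply hnp
      have h1 : W.W D = ⊥ := le_bot_iff.mp (h ▸ W.le D)
      apply pn_of_eq_top _ _ hN
      rw [h1]
      exact Subgroup.normalizer_eq_top_iff.mpr inferInstance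
    have IHM : ∀ M : Subgroup G, M ≠ ⊤ → ∀ (R' : Sylow p ↥M) (D' : Subgroup ↥M),
        IsStronglyClosed D' (R' : Subgroup ↥M) →
        HasNormalPComplement p ↥(Subgroup.normalizer (W.W D' : Set ↥M)) →
        HasNormalPComplement p ↥M := by
      intro M hM R' D' h1 h2
      refine ih (Nat.card ↥M) ?_ ↥M rfl R' D' h1 h2
      rw [← hcard, ← Subgroup.card_top (G := G)]
      exact card_lt_of_lt (lt_top_iff_ne_top.mpr hM)
    have IHQ : ∀ (L : Subgroup G) [L.Normal], L ≠ ⊥ → ∀ (P' : Sylow p (G ⧸ L))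
        (D' : Subgroup (G ⧸ L)), IsStronglyClosed D' (P' : Subgroup (G ⧸ L)) →
        HasNormalPComplement p ↥(Subgroup.normalizer (W.W D' : Set (G ⧸ L))) →
        HasNormalPComplement p (G ⧸ L) := by
      intro L _ hL P' D' h1 h2
      refine ih (Nat.card (G ⧸ L)) ?_ (G ⧸ L) rfl P' D' h1 h2
      rw [← hcard, Subgroup.card_eq_card_quotient_mul_card_subgroup L]
      have h3 : 1 < Nat.card ↥L := (Subgroup.one_lt_card_iff_ne_bot L).mpr hL
      have h4 : 0 < Nat.card (G ⧸ L) := Nat.card_pos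
      exact lt_mul_of_one_lt_right h4 h3
    have hHP : pCore p G ≤ (P : Subgroup G) := (pCore_isPGroup' p G).le_sylow_of_normal P
    -- Step A: O_{p'}(G) = 1
    have hO' : pPrimeCore p G = ⊥ := by
      by_contra hL
      apply hnp
      have hLc := pPrimeCore_coprime' p G
      apply pn_of_quot (pPrimeCore p G) hLc
      have hsc : IsStronglyClosed (D.map (QuotientGroup.mk' (pPrimeCore p G)))
          ((P : Subgroup G).map (QuotientGroup.mk' (pPrimeCore p G))) := by
        apply sc_map_mk (pPrimeCore p G) (P : Subgroup G) D hD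
        rintro y ⟨x, hx, g, rfl⟩ hy
        have hzp : IsPGroup p ↥(Subgroup.zpowers (g * x * g⁻¹)) := by
          have h1 : Subgroup.zpowers (g * x * g⁻¹) =
              (Subgroup.zpowers x).map (MulAut.conj g).toMonoidHom := by
            rw [MonoidHom.map_zpowers]; rfl
          rw [h1]
          exact (P.isPGroup'.to_le ((Subgroup.zpowers_le.mpr (hD.1 hx)))).map _
        obtain ⟨m, hm, hmP⟩ := exists_conj_le_sylow_of_le P
          (M := (P : Subgroup G) ⊔ pPrimeCore p G) le_sup_left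
          (Subgroup.zpowers_le.mpr hy) hzp
        obtain ⟨s, hs, l, hl, rfl⟩ := Subgroup.mem_sup_of_normal_right.mp hm
        refine ⟨l, hl, ?_⟩
        have h2 := hmP _ (Subgroup.mem_zpowers (g * x * g⁻¹))
        have h3 : l * (g * x * g⁻¹) * l⁻¹ =
            s⁻¹ * (s * l * (g * x * g⁻¹) * (s * l)⁻¹) * s := by group
        rw [h3]
        exact Subgroup.mul_mem _ (Subgroup.mul_mem _ (Subgroup.inv_mem _ hs) h2) hs
      refine IHQ (pPrimeCore p G) hL (P.mapSurjective (QuotientGroup.mk'_surjective _))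
        (D.map (QuotientGroup.mk' _)) (by rw [Sylow.coe_mapSurjective]; exact hsc) ?_
      have hker : D ⊓ (QuotientGroup.mk' (pPrimeCore p G)).ker = ⊥ := by
        rw [QuotientGroup.ker_mk']
        exact inf_eq_bot_of_coprime' (P.isPGroup'.to_le hD.1) hLc
      rw [W.map _ D hker]
      have hXp : IsPGroup p ↥(W.W D) := P.isPGroup'.to_le ((W.le D).trans hD.1)
      refine pn_of_surjective (normMap (pPrimeCore p G) (W.W D) _ rfl) ?_ hN
      rintro ⟨y, hy⟩
      obtain ⟨n, hn⟩ := normMap_surj (pPrimeCore p G) hLc (W.W D) hXp _ rfl y hy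
      exact ⟨n, Subtype.ext hn⟩
    -- Step B: proper subgroups containing P have normal p-complements
    have star : ∀ M : Subgroup G, (P : Subgroup G) ≤ M → M ≠ ⊤ →
        HasNormalPComplement p ↥M := by
      intro M hPM hM
      have hRP : ((P.subtype hPM : Sylow p ↥M) : Subgroup ↥M).map M.subtype =
          (P : Subgroup G) := by
        rw [Sylow.coe_subtype, Subgroup.map_subgroupOf_eq_of_le hPM]
      refine gt_sub W M (P.subtype hPM) D ?_ ?_ hN (IHM M hM)
      · rw [hRP]; exact hD.1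
      · intro x hx g _ hg
        rw [hRP] at hg
        exact hD.2 x hx g hg
    -- Step C
    have hH : pCore p G ≠ ⊥ := gt_stepC W P D hD hDne hN hnp IHM
    -- Step D
    have hquot : HasNormalPComplement p (G ⧸ pCore p G) := by
      have hsc : IsStronglyClosed (D.map (QuotientGroup.mk' (pCore p G)))
          ((P : Subgroup G).map (QuotientGroup.mk' (pCore p G))) := by
        apply sc_map_mk (pCore p G) (P : Subgroup G) D hD
        intro y _ hy
        refine ⟨1, Subgroup.one_mem _, ?_⟩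
        rw [sup_eq_left.mpr hHP] at hy
        simpa using hy
      have hDbp : IsPGroup p ↥(D.map (QuotientGroup.mk' (pCore p G))) :=
        (P.isPGroup'.map _).to_le hsc.1
      refine IHQ (pCore p G) hH (P.mapSurjective (QuotientGroup.mk'_surjective _))
        (D.map (QuotientGroup.mk' _)) (by rw [Sylow.coe_mapSurjective]; exact hsc) ?_
      have hDbne : D.map (QuotientGroup.mk' (pCore p G)) ≠ ⊥ := by
        intro h
        have hDH : D ≤ pCore p G := by
          have h1 := (Subgroup.map_eq_bot_iff _).mp h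
          rwa [QuotientGroup.ker_mk'] at h1
        have hDn : D.Normal := by
          constructor
          intro d hd g
          exact hD.2 d hd g (hHP ((pCore_normal' p G).conj_mem d (hDH hd) g))
        apply hnp
        apply pn_of_eq_top _ _ hN
        rw [eq_top_iff]
        exact (Subgroup.normalizer_eq_top_iff.mpr hDn).ge.trans (W.normalizer_le D)
      have hMP : (P : Subgroup G) ≤ (Subgroup.normalizer
          (W.W (D.map (QuotientGroup.mk' (pCore p G))) : Set (G ⧸ pCore p G))).comap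
          (QuotientGroup.mk' (pCore p G)) := by
        intro x hx
        rw [Subgroup.mem_comap]
        exact (W.normalizer_le _) (sc_le_normalizer hsc (Subgroup.mem_map_of_mem _ hx))
      have hMtop : (Subgroup.normalizer
          (W.W (D.map (QuotientGroup.mk' (pCore p G))) : Set (G ⧸ pCore p G))).comap
          (QuotientGroup.mk' (pCore p G)) ≠ ⊤ := by
        intro h
        have hnorm : Subgroup.normalizer
            (W.W (D.map (QuotientGroup.mk' (pCore p G))) : Set (G ⧸ pCore p G)) = ⊤ := by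
          rw [eq_top_iff]
          intro y _
          obtain ⟨g, rfl⟩ := QuotientGroup.mk'_surjective _ y
          have h1 : g ∈ (Subgroup.normalizer
              (W.W (D.map (QuotientGroup.mk' (pCore p G))) : Set (G ⧸ pCore p G))).comap
              (QuotientGroup.mk' (pCore p G)) := h ▸ Subgroup.mem_top g
          exact h1
        have hWn : (W.W (D.map (QuotientGroup.mk' (pCore p G)))).Normal :=
          Subgroup.normalizer_eq_top_iff.mp hnorm
        have hWp : IsPGroup p ↥(W.W (D.map (QuotientGroup.mk' (pCore p G)))) :=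
          hDbp.to_le (W.le _)
        have h2 := le_pCore' hWn hWp
        rw [pCore_quot_pCore_eq_bot] at h2
        exact W.ne_bot _ hDbp hDbne (le_bot_iff.mp h2)
      have hMpn := star _ hMP hMtop
      exact pn_of_surjective ((QuotientGroup.mk' (pCore p G)).subgroupComap _)
        (MonoidHom.subgroupComap_surjective_of_surjective _ _ (QuotientGroup.mk'_surjective _))
        hMpn
    -- Step E
    obtain ⟨hE1, hst⟩ := gt_stepE hp2 P hO' star hquot
    have hWn : (W.W D).Normal := W.zj P D hD hE1 hst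
    apply hnp
    exact pn_of_eq_top _ (Subgroup.normalizer_eq_top_iff.mpr hWn) hN

/-- **Glauberman–Thompson normal `p`-complement theorem** for a strongly closed subgroup `D`
and a Glauberman–Thompson functor `W`, `p` odd. -/
theorem gt_main (hp2 : p ≠ 2) (W : GTFunctor.{u} p) {G : Type u} [Group G] [Finite G]
    (P : Sylow p G) (D : Subgroup G) (hD : IsStronglyClosed D (P : Subgroup G))
    (hN : HasNormalPComplement p ↥(Subgroup.normalizer (W.W D : Set G))) :
    HasNormalPComplement p G :=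
  gt_main_aux hp2 W _ G rfl P D hD hN

end Main

end Cfsg.Agent.Lib.Helper3
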