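import Cfsg.Agent.Lib.Helper3.GT5

set_option autoImplicit false
set_option linter.style.haveILetI false

namespace Cfsg.Agent.Lib.Helper3

open Cfsg

universe u

section Gen

variable {G : Type*} [Group G]

theorem maxIn_map_gen {H : Type*} [Group H] {f : G →* H} {P : Subgroup G} (hP : P ⊓ f.ker = ⊥)
    {φ : Subgroup G → Prop} {ψ : Subgroup H → Prop}
    (hmap : ∀ A : Subgroup G, φ A → ψ (A.map f))
    (hcomap : ∀ B' : Subgroup H, ψ B' → φ (B'.comap f ⊓ P))
    {A : Subgroup G} (hA : A ∈ maxIn φ P) : A.map f ∈ maxIn ψ (P.map f) := by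
  refine ⟨Subgroup.map_mono hA.1, hmap A hA.2.1, fun B' hB'P hB' => ?_⟩
  have h1 := hA.2.2 (B'.comap f ⊓ P) inf_le_right (hcomap B' hB')
  have hAk : A ⊓ f.ker = ⊥ := le_bot_iff.mp ((inf_le_inf_right _ hA.1).trans (le_of_eq hP))
  have hBk : (B'.comap f ⊓ P) ⊓ f.ker = ⊥ :=
    le_bot_iff.mp ((inf_le_inf_right _ inf_le_right).trans (le_of_eq hP))
  rw [card_map_of_inj_on hAk]
  have h2 := card_map_of_inj_on hBk
  rw [map_comap_inf_eq hB'P] at h2
  rw [h2]; exact h1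

theorem maxIn_comap_gen {H : Type*} [Group H] {f : G →* H} {P : Subgroup G}
    (hP : P ⊓ f.ker = ⊥) {φ : Subgroup G → Prop} {ψ : Subgroup H → Prop}
    (hmap : ∀ A : Subgroup G, φ A → ψ (A.map f))
    (hcomap : ∀ B' : Subgroup H, ψ B' → φ (B'.comap f ⊓ P))
    {A' : Subgroup H} (hA' : A' ∈ maxIn ψ (P.map f)) : (A'.comap f ⊓ P) ∈ maxIn φ P := by
  refine ⟨inf_le_right, hcomap A' hA'.2.1, fun B hBP hB => ?_⟩
  have h1 := hA'.2.2 (B.map f) (Subgroup.map_mono hBP) (hmap B hB)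
  have hBk : B ⊓ f.ker = ⊥ := le_bot_iff.mp ((inf_le_inf_right _ hBP).trans (le_of_eq hP))
  have hAk : (A'.comap f ⊓ P) ⊓ f.ker = ⊥ :=
    le_bot_iff.mp ((inf_le_inf_right _ inf_le_right).trans (le_of_eq hP))
  rw [card_map_of_inj_on hBk] at h1
  have h2 := card_map_of_inj_on hAk
  rw [map_comap_inf_eq hA'.1] at h2
  rw [← h2]; exact h1

theorem sSup_maxIn_map_gen {H : Type*} [Group H] {f : G →* H} {P : Subgroup G}
    (hP : P ⊓ f.ker = ⊥) {φ : Subgroup G → Prop} {ψ : Subgroup H → Prop}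
    (hmap : ∀ A : Subgroup G, φ A → ψ (A.map f))
    (hcomap : ∀ B' : Subgroup H, ψ B' → φ (B'.comap f ⊓ P)) :
    sSup (maxIn ψ (P.map f)) = (sSup (maxIn φ P)).map f := by
  apply le_antisymm
  · apply sSup_le
    intro A' hA'
    rw [← map_comap_inf_eq hA'.1]
    exact Subgroup.map_mono (le_sSup (maxIn_comap_gen hP hmap hcomap hA'))
  · refine Subgroup.map_le_iff_le_comap.mpr (sSup_le fun A hA => ?_)
    exact Subgroup.map_le_iff_le_comap.mp (le_sSup (maxIn_map_gen hP hmap hcomap hA))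

theorem isEA_comap_inf {H : Type*} [Group H] {p : ℕ} {f : G →* H} {P : Subgroup G}
    (hP : P ⊓ f.ker = ⊥) {B' : Subgroup H} (h : IsElementaryAbelian p B') :
    IsElementaryAbelian p (B'.comap f ⊓ P) := by
  rw [isEA_iff] at h ⊢
  refine ⟨commP_comap_inf hP h.1, fun x hx => ?_⟩
  apply eq_of_map_eq_of_inf_ker hP (P.pow_mem hx.2 p) P.one_mem
  rw [map_pow, map_one]
  exact h.2 _ hx.1

end Gen

section EA

variable {G : Type u} [Group G]

theorem thompsonSubgroupOf_le' (p : ℕ) (P : Subgroup G) : thompsonSubgroupOf p P ≤ P := by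
  unfold thompsonSubgroupOf
  exact Subgroup.map_subtype_le _

theorem centerThompsonOf_le' (p : ℕ) (P : Subgroup G) : centerThompsonOf p P ≤ P :=
  inf_le_left.trans (thompsonSubgroupOf_le' p P)

theorem omegaOne_le' (p : ℕ) (X : Subgroup G) : omegaOne p X ≤ X := by
  unfold omegaOne
  rw [Subgroup.closure_le]
  intro x hx
  exact hx.1

theorem thompsonSubgroupOf_map_gen {H : Type u} [Group H] (p : ℕ) {f : G →* H}
    {P : Subgroup G} (hP : P ⊓ f.ker = ⊥) :
    thompsonSubgroupOf p (P.map f) = (thompsonSubgroupOf p P).map f := by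
  rw [thompsonSubgroupOf_eq_sSup, thompsonSubgroupOf_eq_sSup]
  exact sSup_maxIn_map_gen (φ := IsElementaryAbelian p) (ψ := IsElementaryAbelian p) hP
    (fun A hA => isEA_map f hA) (fun B' hB' => isEA_comap_inf hP hB')

theorem centerThompsonOf_map_gen {H : Type u} [Group H] (p : ℕ) {f : G →* H}
    {P : Subgroup G} (hP : P ⊓ f.ker = ⊥) :
    centerThompsonOf p (P.map f) = (centerThompsonOf p P).map f := by
  unfold centerThompsonOf
  rw [thompsonSubgroupOf_map_gen p hP]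
  have hJP : thompsonSubgroupOf p P ≤ P := thompsonSubgroupOf_le' p P
  ext y
  constructor
  · rintro ⟨⟨x, hx, rfl⟩, hy2⟩
    refine ⟨x, ⟨hx, ?_⟩, rfl⟩
    refine Subgroup.mem_centralizer_iff.mpr ?_
    intro j hj
    apply eq_of_map_eq_of_inf_ker hP (P.mul_mem (hJP hj) (hJP hx)) (P.mul_mem (hJP hx) (hJP hj))
    rw [map_mul, map_mul]
    exact Subgroup.mem_centralizer_iff.mp hy2 (f j) ⟨j, hj, rfl⟩
  · rintro ⟨x, ⟨hx1, hx2⟩, rfl⟩
    refine ⟨⟨x, hx1, rfl⟩, Subgroup.mem_centralizer_iff.mpr ?_⟩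
    rintro _ ⟨j, hj, rfl⟩
    rw [← map_mul, ← map_mul, Subgroup.mem_centralizer_iff.mp hx2 j hj]

theorem omegaOne_map_gen {H : Type u} [Group H] (p : ℕ) {f : G →* H} {Z : Subgroup G}
    (hZ : Z ⊓ f.ker = ⊥) : omegaOne p (Z.map f) = (omegaOne p Z).map f := by
  unfold omegaOne
  rw [MonoidHom.map_closure]
  congr 1
  ext y
  constructor
  · rintro ⟨⟨x, hx, rfl⟩, hyp⟩
    refine ⟨x, ⟨hx, ?_⟩, rfl⟩
    apply eq_of_map_eq_of_inf_ker hZ (Z.pow_mem hx p) Z.one_mem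
    rw [map_pow, map_one]; exact hyp
  · rintro ⟨x, ⟨hx, hxp⟩, rfl⟩
    refine ⟨Subgroup.mem_map_of_mem _ hx, ?_⟩
    show (f x) ^ p = 1
    rw [← map_pow, hxp, map_one]

theorem gtEA_ne_bot [Finite G] {p : ℕ} [Fact p.Prime] {D : Subgroup G} (hD : IsPGroup p D)
    (hne : D ≠ ⊥) : omegaOne p (centerThompsonOf p D) ≠ ⊥ := by
  have hp : p.Prime := Fact.out
  obtain ⟨z, hzD, hz1, hzc⟩ := pn_inf_center D D hD le_rfl
    (fun x hx d hd => D.mul_mem (D.mul_mem hx hd) (D.inv_mem hx)) hne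
  obtain ⟨k, hk⟩ := hD ⟨z, hzD⟩
  have hk' : z ^ (p ^ k) = 1 := congrArg Subtype.val hk
  obtain ⟨j, -, hj⟩ := (Nat.dvd_prime_pow hp).mp (orderOf_dvd_of_pow_eq_one hk')
  have hj0 : j ≠ 0 := by
    intro h
    rw [h, pow_zero] at hj
    exact hz1 (orderOf_eq_one_iff.mp hj)
  obtain ⟨i, rfl⟩ := Nat.exists_eq_succ_of_ne_zero hj0
  have hz'p : (z ^ (p ^ i)) ^ p = 1 := by
    rw [← pow_mul, ← pow_succ, ← hj, pow_orderOf_eq_one]
  have hz'1 : z ^ (p ^ i) ≠ 1 := by
    intro h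
    have h1 := orderOf_dvd_of_pow_eq_one h
    rw [hj] at h1
    have h2 := (Nat.pow_dvd_pow_iff_le_right hp.one_lt).mp h1
    omega
  have hz'D : z ^ (p ^ i) ∈ D := D.pow_mem hzD _
  have hz'c : ∀ x ∈ D, x * z ^ (p ^ i) = z ^ (p ^ i) * x := fun x hx =>
    (Commute.pow_right (hzc x hx) _).eq
  obtain ⟨A, hA⟩ := exists_maxIn (φ := IsElementaryAbelian p) isEA_bot D
  have hJD : sSup (maxIn (IsElementaryAbelian p) D) ≤ D := sSup_le (fun A hA => hA.1)
  have hzA : z ^ (p ^ i) ∈ A := by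
    have hEA : IsElementaryAbelian p (A ⊔ Subgroup.zpowers (z ^ (p ^ i))) := by
      apply isEA_sup hA.2.1 (isEA_zpowers hz'p)
      intro a ha c hc
      obtain ⟨n, rfl⟩ := Subgroup.mem_zpowers_iff.mp hc
      have h1 : Commute a (z ^ (p ^ i)) := hz'c a (hA.1 ha)
      exact (h1.zpow_right n).eq
    have hle : A ⊔ Subgroup.zpowers (z ^ (p ^ i)) ≤ D :=
      sup_le hA.1 (Subgroup.zpowers_le.mpr hz'D)
    have hcard := hA.2.2 _ hle hEA
    have heq := Subgroup.eq_of_le_of_card_ge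
      (le_sup_left : A ≤ A ⊔ Subgroup.zpowers (z ^ (p ^ i))) hcard
    rw [heq]
    exact Subgroup.mem_sup_right (Subgroup.mem_zpowers _)
  have hmem : z ^ (p ^ i) ∈ omegaOne p (centerThompsonOf p D) := by
    apply Subgroup.subset_closure
    refine ⟨?_, hz'p⟩
    unfold centerThompsonOf
    rw [thompsonSubgroupOf_eq_sSup]
    refine ⟨le_sSup hA hzA, Subgroup.mem_centralizer_iff.mpr ?_⟩
    intro j hj
    exact hz'c j (hJD hj)
  intro hbot
  rw [hbot, Subgroup.mem_bot] at hmem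
  exact hz'1 hmem

/-- the functor `D ↦ Ω₁(Z(J_e(D)))` (elementary abelian version of the Thompson subgroup) -/
noncomputable def gtEA (p : ℕ) [Fact p.Prime] (hp : p ≠ 2) : GTFunctor.{u} p where
  W := fun D => omegaOne p (centerThompsonOf p D)
  le := fun D => (omegaOne_le' p _).trans (centerThompsonOf_le' p D)
  map := fun f D h => by
    show omegaOne p (centerThompsonOf p (D.map f)) = (omegaOne p (centerThompsonOf p D)).map f
    rw [centerThompsonOf_map_gen p h, omegaOne_map_gen p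
      (le_bot_iff.mp ((inf_le_inf_right _ (centerThompsonOf_le' p D)).trans (le_of_eq h)))]
  ne_bot := fun _ hD hne => gtEA_ne_bot hD hne
  zj := fun P D hD hc hst => (sc_zj_normal hp P D hD hc hst).2

end EA

end Cfsg.Agent.Lib.Helper3
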