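import Cfsg.Agent.Lib.Helper3.GT5
import Cfsg.Agent.Lib.Helper3.GT6

set_option autoImplicit false
set_option linter.style.haveILetI false

namespace Cfsg.Agent.Lib.Helper3

open Cfsg

universe u

/-- a characteristic-subgroup functor on subgroups, for Thompson-type reductions -/
structure CFunctor (p : ℕ) where
  W : ∀ {X : Type u} [Group X], Subgroup X → Subgroup X
  le : ∀ {X : Type u} [Group X] [Finite X] (D : Subgroup X), W D ≤ D
  map : ∀ {X Y : Type u} [Group X] [Group Y] (f : X →* Y) (D : Subgroup X),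
    D ⊓ f.ker = ⊥ → W (D.map f) = (W D).map f
  ne_bot : ∀ {X : Type u} [Group X] [Finite X] (D : Subgroup X), IsPGroup p D → D ≠ ⊥ →
    W D ≠ ⊥

/-- `D ↦ J_e(D)` -/
noncomputable def cfJe (p : ℕ) [Fact p.Prime] : CFunctor.{u} p where
  W := fun D => thompsonSubgroupOf p D
  le := fun D => thompsonSubgroupOf_le' p D
  map := fun _ _ h => thompsonSubgroupOf_map_gen p h
  ne_bot := fun D hD hne h => by
    have h1 : omegaOne p (centerThompsonOf p D) ≤ thompsonSubgroupOf p D :=
      (omegaOne_le' p _).trans (by unfold centerThompsonOf; exact inf_le_left)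
    rw [h] at h1
    exact gtEA_ne_bot hD hne (le_bot_iff.mp h1)

/-- `D ↦ J_a(D)` -/
noncomputable def cfJa (p : ℕ) [Fact p.Prime] : CFunctor.{u} p where
  W := fun D => thompsonSubgroupAOf D
  le := fun D => by
    rw [thompsonSubgroupAOf_eq_sSup]; exact sSup_le (fun A hA => hA.1)
  map := fun f D h => by
    show thompsonSubgroupAOf (D.map f) = (thompsonSubgroupAOf D).map f
    rw [thompsonSubgroupAOf_eq_sSup, thompsonSubgroupAOf_eq_sSup, sSup_maxIn_commP_map h]
  ne_bot := fun D hD hne h => by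
    apply centerThompsonAOf_ne_bot hD hne
    unfold centerThompsonAOf
    rw [h]; exact bot_inf_eq _

theorem cfZ_map {X Y : Type*} [Group X] [Group Y] (f : X →* Y) (D : Subgroup X)
    (hD : D ⊓ f.ker = ⊥) :
    D.map f ⊓ Subgroup.centralizer ((D.map f : Subgroup Y) : Set Y) =
      (D ⊓ Subgroup.centralizer (D : Set X)).map f := by
  ext y
  constructor
  · rintro ⟨⟨x, hx, rfl⟩, hy2⟩
    refine ⟨x, ⟨hx, ?_⟩, rfl⟩
    refine Subgroup.mem_centralizer_iff.mpr ?_
    intro j hj
    apply eq_of_map_eq_of_inf_ker hD (D.mul_mem hj hx) (D.mul_mem hx hj)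
    rw [map_mul, map_mul]
    exact Subgroup.mem_centralizer_iff.mp hy2 (f j) ⟨j, hj, rfl⟩
  · rintro ⟨x, ⟨hx1, hx2⟩, rfl⟩
    refine ⟨⟨x, hx1, rfl⟩, Subgroup.mem_centralizer_iff.mpr ?_⟩
    rintro _ ⟨j, hj, rfl⟩
    rw [← map_mul, ← map_mul, Subgroup.mem_centralizer_iff.mp hx2 j hj]

/-- `D ↦ Z(D)` -/
noncomputable def cfZ (p : ℕ) [Fact p.Prime] : CFunctor.{u} p where
  W := fun {X} _ D => D ⊓ Subgroup.centralizer (D : Set X)
  le := fun _ => inf_le_left
  map := fun f D h => cfZ_map f D h
  ne_bot := fun D hD hne h => by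
    obtain ⟨z, hzD, hz1, hzc⟩ := pn_inf_center D D hD le_rfl
      (fun x hx d hd => D.mul_mem (D.mul_mem hx hd) (D.inv_mem hx)) hne
    have h1 : z ∈ D ⊓ Subgroup.centralizer (D : Set _) :=
      ⟨hzD, Subgroup.mem_centralizer_iff.mpr (fun x hx => hzc x hx)⟩
    rw [h, Subgroup.mem_bot] at h1
    exact hz1 h1

section

variable {p : ℕ} {G : Type u} [Group G]

theorem CFunctor.normalizer_le (W : CFunctor.{u} p) (D : Subgroup G) :
    Subgroup.normalizer (D : Set G) ≤ Subgroup.normalizer (W.W D : Set G) := by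
  intro g hg
  have h1 : D.map (MulAut.conj g).toMonoidHom = D := by
    ext x
    constructor
    · rintro ⟨d, hd, rfl⟩
      exact (Subgroup.mem_normalizer_iff.mp hg d).mp hd
    · intro hx
      refine ⟨g⁻¹ * x * g, (Subgroup.mem_normalizer_iff''.mp hg x).mp hx, ?_⟩
      show g * (g⁻¹ * x * g) * g⁻¹ = x
      group
  have h2 : W.W D = (W.W D).map (MulAut.conj g).toMonoidHom := by
    have h3 := W.map (MulAut.conj g).toMonoidHom D (by
      have h4 : (MulAut.conj g).toMonoidHom.ker = ⊥ :=
        (MonoidHom.ker_eq_bot_iff _).mpr (MulAut.conj g).injective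
      rw [h4, inf_bot_eq])
    rw [h1] at h3
    exact h3
  rw [Subgroup.mem_normalizer_iff]
  intro x
  constructor
  · intro hx
    rw [h2]
    exact ⟨x, hx, rfl⟩
  · intro hx
    rw [h2] at hx
    obtain ⟨y, hy, hyx⟩ := hx
    have h5 : y = x := (MulAut.conj g).injective hyx
    rw [← h5]; exact hy

theorem CFunctor.normal_of_normal (W : CFunctor.{u} p) (D : Subgroup G) [hD : D.Normal] :
    (W.W D).Normal := by
  rw [← Subgroup.normalizer_eq_top_iff, eq_top_iff]
  exact (Subgroup.normalizer_eq_top_iff.mpr hD).ge.trans (W.normalizer_le D)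

variable [Fact p.Prime] [Finite G]

theorem pn_centralizer_quot (L : Subgroup G) [L.Normal]
    (hL : (Nat.card L).Coprime p) (X : Subgroup G) (hX : IsPGroup p X)
    (h : HasNormalPComplement p ↥(Subgroup.centralizer (X : Set G))) :
    HasNormalPComplement p ↥(Subgroup.centralizer
      ((X.map (QuotientGroup.mk' L) : Subgroup (G ⧸ L)) : Set (G ⧸ L))) := by
  let f : ↥(Subgroup.centralizer (X : Set G)) →* ↥(Subgroup.centralizer
      ((X.map (QuotientGroup.mk' L) : Subgroup (G ⧸ L)) : Set (G ⧸ L))) :=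
    ((QuotientGroup.mk' L).comp (Subgroup.centralizer (X : Set G)).subtype).codRestrict _
      (fun c => by
        refine Subgroup.mem_centralizer_iff.mpr ?_
        rintro _ ⟨x, hx, rfl⟩
        show QuotientGroup.mk' L x * QuotientGroup.mk' L (c : G) =
          QuotientGroup.mk' L (c : G) * QuotientGroup.mk' L x
        rw [← map_mul, ← map_mul, Subgroup.mem_centralizer_iff.mp c.2 x hx])
  refine pn_of_surjective f ?_ h
  rintro ⟨y, hy⟩
  obtain ⟨n, hn⟩ := normMap_surj L hL X hX _ rfl y (Subgroup.centralizer_le_normalizer _ hy)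
  have hnc : (n : G) ∈ Subgroup.centralizer (X : Set G) :=
    normMap_ker L hL X hX _ rfl n (by rw [hn]; exact hy)
  exact ⟨⟨(n : G), hnc⟩, Subtype.ext hn⟩

theorem pn_centralizer_of_normalizer (X : Subgroup G)
    (h : HasNormalPComplement p ↥(Subgroup.normalizer (X : Set G))) :
    HasNormalPComplement p ↥(Subgroup.centralizer (X : Set G)) :=
  pn_of_injective (Subgroup.inclusion (Subgroup.centralizer_le_normalizer _))
    (Subgroup.inclusion_injective _) h

/-- transfer of the inductive hypothesis to a subgroup `M` with Sylow subgroup `R` -/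
theorem th_sub (W₁ W₂ : CFunctor.{u} p)
    (M : Subgroup G) (R : Sylow p ↥M) (S₁ : Subgroup G)
    (hS₁ : (R : Subgroup ↥M).map M.subtype = S₁)
    (hN : HasNormalPComplement p ↥(Subgroup.normalizer (W₁.W S₁ : Set G)))
    (hC : HasNormalPComplement p ↥(Subgroup.centralizer (W₂.W S₁ : Set G)))
    (IH : ∀ (R' : Sylow p ↥M),
      HasNormalPComplement p ↥(Subgroup.normalizer (W₁.W (R' : Subgroup ↥M) : Set ↥M)) →
      HasNormalPComplement p ↥(Subgroup.centralizer (W₂.W (R' : Subgroup ↥M) : Set ↥M)) →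
      HasNormalPComplement p ↥M) :
    HasNormalPComplement p ↥M := by
  apply IH R
  · have hmap : (W₁.W (R : Subgroup ↥M)).map M.subtype = W₁.W S₁ := by
      rw [← W₁.map M.subtype (R : Subgroup ↥M) (by rw [Subgroup.ker_subtype, inf_bot_eq]), hS₁]
    let f : ↥(Subgroup.normalizer (W₁.W (R : Subgroup ↥M) : Set ↥M)) →*
        ↥(Subgroup.normalizer (W₁.W S₁ : Set G)) :=
      (M.subtype.comp (Subgroup.normalizer (W₁.W (R : Subgroup ↥M) : Set ↥M)).subtype).codRestrict _
        (fun x => by
          have h1 := Subgroup.le_normalizer_map M.subtype (Subgroup.mem_map_of_mem M.subtype x.2)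
          rw [hmap] at h1
          exact h1)
    refine pn_of_injective f ?_ hN
    intro x y hxy
    have h1 : ((x : ↥M) : G) = ((y : ↥M) : G) :=
      congrArg (fun z : ↥(Subgroup.normalizer (W₁.W S₁ : Set G)) => (z : G)) hxy
    exact Subtype.ext (Subtype.ext h1)
  · have hmap : (W₂.W (R : Subgroup ↥M)).map M.subtype = W₂.W S₁ := by
      rw [← W₂.map M.subtype (R : Subgroup ↥M) (by rw [Subgroup.ker_subtype, inf_bot_eq]), hS₁]
    let f : ↥(Subgroup.centralizer (W₂.W (R : Subgroup ↥M) : Set ↥M)) →*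
        ↥(Subgroup.centralizer (W₂.W S₁ : Set G)) :=
      (M.subtype.comp (Subgroup.centralizer (W₂.W (R : Subgroup ↥M) : Set ↥M)).subtype).codRestrict _
        (fun x => by
          rw [← hmap]
          refine Subgroup.mem_centralizer_iff.mpr ?_
          rintro _ ⟨w, hw, rfl⟩
          show ((w : ↥M) : G) * ((x : ↥M) : G) = ((x : ↥M) : G) * ((w : ↥M) : G)
          exact congrArg Subtype.val (Subgroup.mem_centralizer_iff.mp x.2 w hw))
    refine pn_of_injective f ?_ hC
    intro x y hxy
    have h1 : ((x : ↥M) : G) = ((y : ↥M) : G) :=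
      congrArg (fun z : ↥(Subgroup.centralizer (W₂.W S₁ : Set G)) => (z : G)) hxy
    exact Subtype.ext (Subtype.ext h1)

local notation "NN(" Q ")" => Subgroup.normalizer ((Q : Subgroup G) : Set G)

/-- Step C of the Thompson argument: a minimal counterexample has `O_p(G) ≠ 1`. -/
theorem th_stepC (W₁ W₂ : CFunctor.{u} p) (P : Sylow p G) (hPne : (P : Subgroup G) ≠ ⊥)
    (hN : HasNormalPComplement p ↥(Subgroup.normalizer (W₁.W (P : Subgroup G) : Set G)))
    (hC : HasNormalPComplement p ↥(Subgroup.centralizer (W₂.W (P : Subgroup G) : Set G)))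
    (hnp : ¬ HasNormalPComplement p G)
    (IHM : ∀ M : Subgroup G, M ≠ ⊤ → ∀ (R' : Sylow p ↥M),
      HasNormalPComplement p ↥(Subgroup.normalizer (W₁.W (R' : Subgroup ↥M) : Set ↥M)) →
      HasNormalPComplement p ↥(Subgroup.centralizer (W₂.W (R' : Subgroup ↥M) : Set ↥M)) →
      HasNormalPComplement p ↥M) :
    pCore p G ≠ ⊥ := by
  obtain ⟨Q₀, hQ₀⟩ := pn_exists_local hnp
  obtain ⟨Q, hQ𝓗, hQmax⟩ := Set.exists_max_image
    {Q : Subgroup G | IsPGroup p Q ∧ Q ≠ ⊥ ∧ ¬ HasNormalPComplement p ↥NN(Q)}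
    (fun Q => Nat.card ↥((P : Subgroup G) ⊓ NN(Q)))
    (Set.toFinite _) ⟨Q₀, hQ₀⟩
  obtain ⟨hQp, hQne, hQnp⟩ := hQ𝓗
  by_cases hNtop : NN(Q) = ⊤
  · intro hbot
    have hQn : Q.Normal := Subgroup.normalizer_eq_top_iff.mp hNtop
    have h1 := le_pCore' hQn hQp
    rw [hbot] at h1
    exact hQne (le_bot_iff.mp h1)
  · exfalso
    apply hQnp
    have hS₀p : IsPGroup p ↥(((P : Subgroup G) ⊓ NN(Q)).subgroupOf NN(Q)) :=
      (P.isPGroup'.to_le inf_le_left).comap_subtype
    obtain ⟨R, hR⟩ := hS₀p.exists_le_sylow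
    have hS₁p : IsPGroup p ↥((R : Subgroup ↥NN(Q)).map NN(Q).subtype) := R.isPGroup'.map _
    obtain ⟨g, -, hg⟩ := exists_conj_le_sylow_of_le P (M := ⊤) le_top le_top hS₁p
    have hQ'𝓗 : Q.map (MulAut.conj g).toMonoidHom ∈
        {Q : Subgroup G | IsPGroup p Q ∧ Q ≠ ⊥ ∧ ¬ HasNormalPComplement p ↥NN(Q)} := by
      refine ⟨hQp.map _, ?_, ?_⟩
      · intro h
        exact hQne ((Subgroup.map_eq_bot_iff_of_injective _ (MulAut.conj g).injective).mp h)
      · intro h
        exact hQnp (pn_normalizer_conj Q g h)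
    have hle1 := hQmax _ hQ'𝓗
    have hS₁conj : ((R : Subgroup ↥NN(Q)).map NN(Q).subtype).map (MulAut.conj g).toMonoidHom ≤
        (P : Subgroup G) ⊓ NN(Q.map (MulAut.conj g).toMonoidHom) := by
      rintro _ ⟨x, hx, rfl⟩
      refine ⟨hg x hx, ?_⟩
      have hxN : x ∈ NN(Q) := Subgroup.map_subtype_le _ hx
      exact Subgroup.le_normalizer_map _ (Subgroup.mem_map_of_mem _ hxN)
    have hcard1 : Nat.card ↥((R : Subgroup ↥NN(Q)).map NN(Q).subtype) ≤
        Nat.card ↥((P : Subgroup G) ⊓ NN(Q)) := by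
      calc Nat.card ↥((R : Subgroup ↥NN(Q)).map NN(Q).subtype)
          = Nat.card ↥(((R : Subgroup ↥NN(Q)).map NN(Q).subtype).map
              (MulAut.conj g).toMonoidHom) :=
            (Subgroup.card_map_of_injective (MulAut.conj g).injective).symm
        _ ≤ Nat.card ↥((P : Subgroup G) ⊓ NN(Q.map (MulAut.conj g).toMonoidHom)) :=
            Subgroup.card_le_of_le hS₁conj
        _ ≤ _ := hle1
    have hS₀S₁ : (P : Subgroup G) ⊓ NN(Q) ≤ (R : Subgroup ↥NN(Q)).map NN(Q).subtype := by
      intro x hx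
      exact ⟨⟨x, hx.2⟩, hR (Subgroup.mem_subgroupOf.mpr hx), rfl⟩
    have hS₁eq : (R : Subgroup ↥NN(Q)).map NN(Q).subtype = (P : Subgroup G) ⊓ NN(Q) :=
      (Subgroup.eq_of_le_of_card_ge hS₀S₁ hcard1).symm
    have hQP : Q ≤ (P : Subgroup G) := by
      haveI hQn' : (Q.subgroupOf NN(Q)).Normal := inferInstance
      have hQp' : IsPGroup p ↥(Q.subgroupOf NN(Q)) := hQp.comap_subtype
      have hle := hQp'.le_sylow_of_normal R
      intro q hq
      have h1 : (⟨q, Subgroup.le_normalizer hq⟩ : ↥NN(Q)) ∈ (R : Subgroup ↥NN(Q)) :=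
        hle (Subgroup.mem_subgroupOf.mpr hq)
      have h2 : q ∈ (R : Subgroup ↥NN(Q)).map NN(Q).subtype := ⟨_, h1, rfl⟩
      rw [hS₁eq] at h2
      exact h2.1
    by_cases hPN : (P : Subgroup G) ≤ NN(Q)
    · have hS₀ : (P : Subgroup G) ⊓ NN(Q) = P := inf_eq_left.mpr hPN
      exact th_sub W₁ W₂ NN(Q) R _ (hS₁eq.trans hS₀) hN hC (IHM NN(Q) hNtop)
    · have key : ∀ W : CFunctor.{u} p,
          HasNormalPComplement p ↥NN(W.W ((P : Subgroup G) ⊓ NN(Q))) := by
        intro W
        have hlt : (P : Subgroup G) ⊓ NN(Q) < (P : Subgroup G) :=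
          lt_of_le_of_ne inf_le_left (fun h => hPN (inf_eq_left.mp h))
        obtain ⟨x, hxP, hxN, hxS⟩ := exists_mem_normalizer_not_mem P.isPGroup' hlt
        obtain ⟨z, hzP, hz1, hzc⟩ := pn_inf_center (P : Subgroup G) (P : Subgroup G)
          P.isPGroup' le_rfl
          (fun y hy d hd => Subgroup.mul_mem _ (Subgroup.mul_mem _ hy hd) (Subgroup.inv_mem _ hy))
          hPne
        have hzN : z ∈ NN(Q) := by
          apply fin_mem_normalizer
          intro q hq
          rw [← hzc q (hQP hq), mul_inv_cancel_right]; exact hq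
        have hS₀ne : (P : Subgroup G) ⊓ NN(Q) ≠ ⊥ := by
          intro h
          have h1 : z ∈ (P : Subgroup G) ⊓ NN(Q) := ⟨hzP, hzN⟩
          rw [h, Subgroup.mem_bot] at h1
          exact hz1 h1
        have hS₀p' : IsPGroup p ↥((P : Subgroup G) ⊓ NN(Q)) := P.isPGroup'.to_le inf_le_left
        have hWp : IsPGroup p ↥(W.W ((P : Subgroup G) ⊓ NN(Q))) := hS₀p'.to_le (W.le _)
        have hWne := W.ne_bot _ hS₀p' hS₀ne
        have hlt2 : (P : Subgroup G) ⊓ NN(Q) <
            (P : Subgroup G) ⊓ NN(W.W ((P : Subgroup G) ⊓ NN(Q))) := by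
          refine lt_of_le_of_ne
            (le_inf inf_le_left (Subgroup.le_normalizer.trans (W.normalizer_le _))) ?_
          intro h
          apply hxS
          rw [h]
          exact ⟨hxP, W.normalizer_le _ hxN⟩
        by_contra hcon
        have hmem : W.W ((P : Subgroup G) ⊓ NN(Q)) ∈
            {Q : Subgroup G | IsPGroup p Q ∧ Q ≠ ⊥ ∧ ¬ HasNormalPComplement p ↥NN(Q)} :=
          ⟨hWp, hWne, hcon⟩
        have h1 := hQmax _ hmem
        have h2 := card_lt_of_lt hlt2
        exact absurd h1 (not_le.mpr h2)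
      exact th_sub W₁ W₂ NN(Q) R _ hS₁eq (key W₁) (pn_centralizer_of_normalizer _ (key W₂))
        (IHM NN(Q) hNtop)

end

section Main

variable {p : ℕ} [Fact p.Prime]

theorem th_main_aux (W₁ W₂ : CFunctor.{u} p) (Φ : ∀ (X : Type u) [Group X], Prop)
    (hΦsub : ∀ (X : Type u) [Group X] [Finite X] (M : Subgroup X), Φ X → Φ ↥M)
    (hΦquot : ∀ (X : Type u) [Group X] [Finite X] (L : Subgroup X) [L.Normal],
      Φ X → Φ (X ⧸ L))
    (final : ∀ (G : Type u) [Group G] [Finite G] (P : Sylow p G), Φ G → pPrimeCore p G = ⊥ →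
      (∀ M : Subgroup G, (P : Subgroup G) ≤ M → M ≠ ⊤ → HasNormalPComplement p ↥M) →
      HasNormalPComplement p (G ⧸ pCore p G) →
      HasNormalPComplement p ↥(Subgroup.normalizer (W₁.W (P : Subgroup G) : Set G)) →
      HasNormalPComplement p ↥(Subgroup.centralizer (W₂.W (P : Subgroup G) : Set G)) →
      HasNormalPComplement p G) :
    ∀ n : ℕ, ∀ (G : Type u) [Group G] [Finite G], Nat.card G = n → ∀ (P : Sylow p G), Φ G →
      HasNormalPComplement p ↥(Subgroup.normalizer (W₁.W (P : Subgroup G) : Set G)) →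
      HasNormalPComplement p ↥(Subgroup.centralizer (W₂.W (P : Subgroup G) : Set G)) →
      HasNormalPComplement p G := by
  intro n
  induction n using Nat.strong_induction_on with
  | _ n ih =>
    intro G _ _ hcard P hΦ hN hC
    by_contra hnp
    have hp : p.Prime := Fact.out
    have hPne : (P : Subgroup G) ≠ ⊥ := by
      intro h
      apply hnp
      have h1 : W₁.W (P : Subgroup G) = ⊥ := le_bot_iff.mp (h ▸ W₁.le (P : Subgroup G))
      apply pn_of_eq_top _ _ hN
      rw [h1]
      exact Subgroup.normalizer_eq_top_iff.mpr inferInstance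
    have IHM : ∀ M : Subgroup G, M ≠ ⊤ → ∀ (R' : Sylow p ↥M),
        HasNormalPComplement p ↥(Subgroup.normalizer (W₁.W (R' : Subgroup ↥M) : Set ↥M)) →
        HasNormalPComplement p ↥(Subgroup.centralizer (W₂.W (R' : Subgroup ↥M) : Set ↥M)) →
        HasNormalPComplement p ↥M := by
      intro M hM R' h1 h2
      refine ih (Nat.card ↥M) ?_ ↥M rfl R' (hΦsub G M hΦ) h1 h2
      rw [← hcard, ← Subgroup.card_top (G := G)]
      exact card_lt_of_lt (lt_top_iff_ne_top.mpr hM)
    have IHQ : ∀ (L : Subgroup G) [L.Normal], L ≠ ⊥ → ∀ (P' : Sylow p (G ⧸ L)),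
        HasNormalPComplement p
          ↥(Subgroup.normalizer (W₁.W (P' : Subgroup (G ⧸ L)) : Set (G ⧸ L))) →
        HasNormalPComplement p
          ↥(Subgroup.centralizer (W₂.W (P' : Subgroup (G ⧸ L)) : Set (G ⧸ L))) →
        HasNormalPComplement p (G ⧸ L) := by
      intro L _ hL P' h1 h2
      refine ih (Nat.card (G ⧸ L)) ?_ (G ⧸ L) rfl P' (hΦquot G L hΦ) h1 h2
      rw [← hcard, Subgroup.card_eq_card_quotient_mul_card_subgroup L]
      have h3 : 1 < Nat.card ↥L := (Subgroup.one_lt_card_iff_ne_bot L).mpr hL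
      have h4 : 0 < Nat.card (G ⧸ L) := Nat.card_pos
      exact lt_mul_of_one_lt_right h4 h3
    have hHP : pCore p G ≤ (P : Subgroup G) := (pCore_isPGroup' p G).le_sylow_of_normal P
    -- Step A: O_{p'}(G) = 1
    have hO' : pPrimeCore p G = ⊥ := by
      by_contra hL
      apply hnp
      have hLc := pPrimeCore_coprime' p G
      apply pn_of_quot (pPrimeCore p G) hLc
      have hker : (P : Subgroup G) ⊓ (QuotientGroup.mk' (pPrimeCore p G)).ker = ⊥ := by
        rw [QuotientGroup.ker_mk']
        exact inf_eq_bot_of_coprime' P.isPGroup' hLc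
      refine IHQ (pPrimeCore p G) hL (P.mapSurjective (QuotientGroup.mk'_surjective _)) ?_ ?_
      · rw [Sylow.coe_mapSurjective, W₁.map _ _ hker]
        have hXp : IsPGroup p ↥(W₁.W (P : Subgroup G)) := P.isPGroup'.to_le (W₁.le _)
        refine pn_of_surjective (normMap (pPrimeCore p G) (W₁.W (P : Subgroup G)) _ rfl) ?_ hN
        rintro ⟨y, hy⟩
        obtain ⟨n, hn⟩ := normMap_surj (pPrimeCore p G) hLc (W₁.W (P : Subgroup G)) hXp _ rfl
          y hy
        exact ⟨n, Subtype.ext hn⟩
      · rw [Sylow.coe_mapSurjective, W₂.map _ _ hker]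
        exact pn_centralizer_quot (pPrimeCore p G) hLc _ (P.isPGroup'.to_le (W₂.le _)) hC
    -- Step B: proper subgroups containing P have normal p-complements
    have star : ∀ M : Subgroup G, (P : Subgroup G) ≤ M → M ≠ ⊤ →
        HasNormalPComplement p ↥M := by
      intro M hPM hM
      have hRP : ((P.subtype hPM : Sylow p ↥M) : Subgroup ↥M).map M.subtype =
          (P : Subgroup G) := by
        rw [Sylow.coe_subtype, Subgroup.map_subgroupOf_eq_of_le hPM]
      exact th_sub W₁ W₂ M (P.subtype hPM) _ hRP hN hC (IHM M hM)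
    -- Step C
    have hH : pCore p G ≠ ⊥ := th_stepC W₁ W₂ P hPne hN hC hnp IHM
    -- Step D
    have hquot : HasNormalPComplement p (G ⧸ pCore p G) := by
      have hPbp : IsPGroup p ↥((P : Subgroup G).map (QuotientGroup.mk' (pCore p G))) :=
        P.isPGroup'.map _
      have hPbne : (P : Subgroup G).map (QuotientGroup.mk' (pCore p G)) ≠ ⊥ := by
        intro h
        have hPH : (P : Subgroup G) ≤ pCore p G := by
          have h1 := (Subgroup.map_eq_bot_iff _).mp h
          rwa [QuotientGroup.ker_mk'] at h1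
        have hPn : (P : Subgroup G).Normal := by
          rw [le_antisymm hPH hHP]; exact pCore_normal' p G
        apply hnp
        apply pn_of_eq_top _ _ hN
        rw [eq_top_iff]
        exact (Subgroup.normalizer_eq_top_iff.mpr hPn).ge.trans (W₁.normalizer_le _)
      have hprop : ∀ W : CFunctor.{u} p, HasNormalPComplement p ↥(Subgroup.normalizer
          (W.W ((P : Subgroup G).map (QuotientGroup.mk' (pCore p G))) :
            Set (G ⧸ pCore p G))) := by
        intro W
        have hMP : (P : Subgroup G) ≤ (Subgroup.normalizer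
            (W.W ((P : Subgroup G).map (QuotientGroup.mk' (pCore p G))) :
              Set (G ⧸ pCore p G))).comap (QuotientGroup.mk' (pCore p G)) := by
          intro x hx
          rw [Subgroup.mem_comap]
          exact (W.normalizer_le _) (Subgroup.le_normalizer (Subgroup.mem_map_of_mem _ hx))
        have hMtop : (Subgroup.normalizer
            (W.W ((P : Subgroup G).map (QuotientGroup.mk' (pCore p G))) :
              Set (G ⧸ pCore p G))).comap (QuotientGroup.mk' (pCore p G)) ≠ ⊤ := by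
          intro h
          have hnorm : Subgroup.normalizer
              (W.W ((P : Subgroup G).map (QuotientGroup.mk' (pCore p G))) :
                Set (G ⧸ pCore p G)) = ⊤ := by
            rw [eq_top_iff]
            intro y _
            obtain ⟨g, rfl⟩ := QuotientGroup.mk'_surjective _ y
            have h1 : g ∈ (Subgroup.normalizer
                (W.W ((P : Subgroup G).map (QuotientGroup.mk' (pCore p G))) :
                  Set (G ⧸ pCore p G))).comap (QuotientGroup.mk' (pCore p G)) :=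
              h ▸ Subgroup.mem_top g
            exact h1
          have hWn : (W.W ((P : Subgroup G).map (QuotientGroup.mk' (pCore p G)))).Normal :=
            Subgroup.normalizer_eq_top_iff.mp hnorm
          have hWp : IsPGroup p ↥(W.W ((P : Subgroup G).map (QuotientGroup.mk' (pCore p G)))) :=
            hPbp.to_le (W.le _)
          have h2 := le_pCore' hWn hWp
          rw [pCore_quot_pCore_eq_bot] at h2
          exact W.ne_bot _ hPbp hPbne (le_bot_iff.mp h2)
        have hMpn := star _ hMP hMtop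
        exact pn_of_surjective ((QuotientGroup.mk' (pCore p G)).subgroupComap _)
          (MonoidHom.subgroupComap_surjective_of_surjective _ _ (QuotientGroup.mk'_surjective _))
          hMpn
      refine IHQ (pCore p G) hH (P.mapSurjective (QuotientGroup.mk'_surjective _)) ?_ ?_
      · rw [Sylow.coe_mapSurjective]; exact hprop W₁
      · rw [Sylow.coe_mapSurjective]; exact pn_centralizer_of_normalizer _ (hprop W₂)
    -- Step E
    exact hnp (final G P hΦ hO' star hquot hN hC)

end Main

end Cfsg.Agent.Lib.Helper3
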