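import Cfsg.Agent.Lib.Helper3.Replacement
import Cfsg.Agent.Lib.Helper3.ZJ

set_option autoImplicit false

namespace Cfsg.Agent.Lib.Helper3

open Cfsg
open scoped commutatorElement

section R2

variable {S : Type*} [Group S]

theorem mem_omegaOne_of_comm {p : ℕ} {X : Subgroup S}
    (hX : ∀ x ∈ X, ∀ y ∈ X, x * y = y * x) {x : S} :
    x ∈ omegaOne p X ↔ x ∈ X ∧ x ^ p = 1 := by
  constructor
  · intro hx
    unfold omegaOne at hx
    induction hx using Subgroup.closure_induction with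
    | mem y hy => exact hy
    | one => exact ⟨X.one_mem, one_pow p⟩
    | mul y z _ _ ihy ihz =>
      refine ⟨X.mul_mem ihy.1 ihz.1, ?_⟩
      have hc : Commute y z := hX y ihy.1 z ihz.1
      rw [hc.mul_pow, ihy.2, ihz.2, one_mul]
    | inv y _ ihy => exact ⟨X.inv_mem ihy.1, by rw [inv_pow, ihy.2, inv_one]⟩
  · intro hx
    exact Subgroup.subset_closure hx

theorem relIndex_le_of_map [Finite S] (Z A A' : Subgroup S) (f : S → S)
    (hf : ∀ a ∈ A, f a ∈ A')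
    (h1 : ∀ a ∈ A, ∀ a' ∈ A, a⁻¹ * a' ∈ Z ↔ (f a)⁻¹ * f a' ∈ Z) :
    Z.relIndex A ≤ Z.relIndex A' := by
  unfold Subgroup.relIndex Subgroup.index
  let F : A ⧸ Z.subgroupOf A → A' ⧸ Z.subgroupOf A' :=
    Quotient.map' (fun a => (⟨f a, hf a a.2⟩ : A')) (by
      intro a a' h
      rw [QuotientGroup.leftRel_apply] at h ⊢
      rw [Subgroup.mem_subgroupOf] at h ⊢
      exact (h1 a a.2 a' a'.2).mp h)
  apply Nat.card_le_card_of_injective F
  intro x y
  induction x using Quotient.inductionOn' with | _ a => ?_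
  induction y using Quotient.inductionOn' with | _ a' => ?_
  intro h
  have h' : (Quotient.mk'' (⟨f a, hf a a.2⟩ : A') : A' ⧸ Z.subgroupOf A') =
      Quotient.mk'' (⟨f a', hf a' a'.2⟩ : A') := h
  rw [Quotient.eq''] at h' ⊢
  rw [QuotientGroup.leftRel_apply] at h' ⊢
  rw [Subgroup.mem_subgroupOf] at h' ⊢
  exact (h1 a a.2 a' a'.2).mpr h'

variable {A B : Subgroup S} {u : S}

theorem gr_coset_iff [hBn : B.Normal] (hA : ∀ x ∈ A, ∀ y ∈ A, x * y = y * x) (hBA : ⁅B, B⁆ ≤ A)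
    (hu : u ∈ B)
    (huN : u ∈ Subgroup.normalizer ((Subgroup.normalizer (A : Set S) : Subgroup S) : Set S))
    {a a' : S} (ha : a ∈ A) (ha' : a' ∈ A) :
    a⁻¹ * a' ∈ A ⊓ grA1 A u ↔ ⁅a, u⁆⁻¹ * ⁅a', u⁆ ∈ A ⊓ grA1 A u := by
  have e : ⁅a⁻¹ * a', u⁆ = a⁻¹ * (⁅a', u⁆ * ⁅a, u⁆⁻¹) * a⁻¹⁻¹ := by
    simp only [commutatorElement_def]; group
  have e2 : ⁅a, u⁆⁻¹ * ⁅a', u⁆ = ⁅a, u⁆⁻¹ * (⁅a', u⁆ * ⁅a, u⁆⁻¹) * ⁅a, u⁆⁻¹⁻¹ := by group
  have hn : ⁅a, u⁆⁻¹ ∈ Subgroup.normalizer ((A ⊓ grA1 A u : Subgroup S) : Set S) := by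
    apply le_normalizer_of_commutator_le (gr_H'_le_Z hA huN) (inf_le_left.trans le_sup_left)
    exact Subgroup.inv_mem _ (gr_c_mem_H ha)
  have h1 : a⁻¹ * a' ∈ A ⊓ grA1 A u ↔ ⁅a⁻¹ * a', u⁆ ∈ A ⊓ grA1 A u := by
    rw [gr_ker hA hBA hu (A.mul_mem (A.inv_mem ha) ha')]
    constructor
    · exact fun h => h.2
    · exact fun h => ⟨A.mul_mem (A.inv_mem ha) ha', h⟩
  rw [h1, e, gr_A_le_NZ huN (A.inv_mem ha), e2]
  exact Subgroup.mem_normalizer_iff.mp hn _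

theorem gr_c_pow (hA : ∀ x ∈ A, ∀ y ∈ A, x * y = y * x)
    (huN : u ∈ Subgroup.normalizer ((Subgroup.normalizer (A : Set S) : Subgroup S) : Set S))
    {n : ℕ} (hn : Odd n) {a : S} (ha : a ∈ A) (han : a ^ n = 1) : ⁅a, u⁆ ^ n = 1 := by
  rw [gr_c_eq]
  have hy : u * a⁻¹ * u⁻¹ ∈ grA1 A u := gr_conj_mem_A1 (A.inv_mem ha)
  have hw : ⁅u * a⁻¹ * u⁻¹, a⁆ ∈ A ⊓ grA1 A u :=
    gr_comm_mem_Z hA huN (Subgroup.mem_sup_right hy) (Subgroup.mem_sup_left ha)
  apply class2_mul_pow_eq_one (gr_Z_central hA hw a (Subgroup.mem_sup_left ha))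
    (gr_Z_central hA hw _ (Subgroup.mem_sup_right hy)) hn han
  rw [conj_pow, inv_pow, han, inv_one, mul_one, mul_inv_cancel]

/-- the replacement subgroup has at least as large an `Ω₁` -/
theorem gr_omega [Finite S] {p : ℕ} [Fact p.Prime] (hS : IsPGroup p S) [hBn : B.Normal]
    (hp : p ≠ 2) (hA : ∀ x ∈ A, ∀ y ∈ A, x * y = y * x) (hBA : ⁅B, B⁆ ≤ A) (hu : u ∈ B)
    (huN : u ∈ Subgroup.normalizer ((Subgroup.normalizer (A : Set S) : Subgroup S) : Set S)) :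
    Nat.card (omegaOne p A) ≤ Nat.card (omegaOne p (grStar A u)) := by
  have hodd : Odd p := (Fact.out : p.Prime).eq_two_or_odd'.resolve_left hp
  have hstar : ∀ x ∈ grStar A u, ∀ y ∈ grStar A u, x * y = y * x :=
    gr_star_comm hS (fun h => absurd h hp) hA hBA hu huN
  have hZc : ∀ x ∈ A ⊓ grA1 A u, ∀ y ∈ A ⊓ grA1 A u, x * y = y * x :=
    fun x hx y hy => hA x hx.1 y hy.1
  have hZA : omegaOne p (A ⊓ grA1 A u) ≤ omegaOne p A := by
    intro x hx
    rw [mem_omegaOne_of_comm hZc] at hx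
    rw [mem_omegaOne_of_comm hA]
    exact ⟨hx.1.1, hx.2⟩
  have hZS : omegaOne p (A ⊓ grA1 A u) ≤ omegaOne p (grStar A u) := by
    intro x hx
    rw [mem_omegaOne_of_comm hZc] at hx
    rw [mem_omegaOne_of_comm hstar]
    exact ⟨gr_Z_le_star hx.1, hx.2⟩
  rw [card_eq_mul_relIndex hZA, card_eq_mul_relIndex hZS]
  apply Nat.mul_le_mul_left
  apply relIndex_le_of_map _ _ _ (fun a => ⁅a, u⁆)
  · intro a ha
    rw [mem_omegaOne_of_comm hA] at ha
    rw [mem_omegaOne_of_comm hstar]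
    exact ⟨gr_c_mem_star ha.1, gr_c_pow hA huN hodd ha.1 ha.2⟩
  · intro a ha a' ha'
    rw [mem_omegaOne_of_comm hA] at ha ha'
    rw [mem_omegaOne_of_comm hZc, mem_omegaOne_of_comm hZc,
      ← gr_coset_iff hA hBA hu huN ha.1 ha'.1]
    have e1 : (a⁻¹ * a') ^ p = 1 := by
      have hc : Commute a⁻¹ a' := hA _ (A.inv_mem ha.1) _ ha'.1
      rw [hc.mul_pow, inv_pow, ha.2, ha'.2, inv_one, one_mul]
    have e2 : (⁅a, u⁆⁻¹ * ⁅a', u⁆) ^ p = 1 := by
      have hc : Commute ⁅a, u⁆⁻¹ ⁅a', u⁆ :=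
        hstar _ (Subgroup.inv_mem _ (gr_c_mem_star ha.1)) _ (gr_c_mem_star ha'.1)
      rw [hc.mul_pow, inv_pow, gr_c_pow hA huN hodd ha.1 ha.2,
        gr_c_pow hA huN hodd ha'.1 ha'.2, inv_one, one_mul]
    constructor
    · exact fun h => ⟨h.1, e2⟩
    · exact fun h => ⟨h.1, e1⟩

end R2

section R3

variable {G : Type*} [Group G]

/-- the replacement theorem for a subgroup `B` normalized by `A` -/
theorem gr_replacement_rel [Finite G] {p : ℕ} [Fact p.Prime] (hp : p ≠ 2) (hG : IsPGroup p G)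
    (A B : Subgroup G) (hA : IsMulCommutative A) (hBA : ⁅B, B⁆ ≤ A)
    (hAB : A ≤ Subgroup.normalizer (B : Set G))
    (hBnA : ¬ B ≤ Subgroup.normalizer (A : Set G)) :
    ∃ Astar : Subgroup G, IsMulCommutative Astar ∧ Nat.card Astar = Nat.card A ∧
      A ⊓ B < Astar ⊓ B ∧ Astar ≤ Subgroup.normalizer (A : Set G) ∧
      Astar ≤ Subgroup.normalClosure (A : Set G) ∧
      Monoid.exponent Astar ∣ Monoid.exponent A ∧
      Nat.card (omegaOne p A) ≤ Nat.card (omegaOne p Astar) := by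
  have hAH : A ≤ A ⊔ B := le_sup_left
  have hBH : B ≤ A ⊔ B := le_sup_right
  have hHp : IsPGroup p ↥(A ⊔ B) := hG.to_subgroup _
  haveI hBn : (B.subgroupOf (A ⊔ B)).Normal :=
    Subgroup.normal_subgroupOf_of_le_normalizer (sup_le hAB Subgroup.le_normalizer)
  have hAc := comm_of_isMulCommutative hA
  have hAc₀ : ∀ x ∈ A.subgroupOf (A ⊔ B), ∀ y ∈ A.subgroupOf (A ⊔ B), x * y = y * x := by
    intro x hx y hy
    apply Subtype.ext
    exact hAc x (Subgroup.mem_subgroupOf.mp hx) y (Subgroup.mem_subgroupOf.mp hy)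
  have hBA₀ : ⁅B.subgroupOf (A ⊔ B), B.subgroupOf (A ⊔ B)⁆ ≤ A.subgroupOf (A ⊔ B) := by
    rw [Subgroup.commutator_le]
    intro b₁ hb₁ b₂ hb₂
    rw [Subgroup.mem_subgroupOf]
    exact hBA (Subgroup.commutator_mem_commutator
      (Subgroup.mem_subgroupOf.mp hb₁) (Subgroup.mem_subgroupOf.mp hb₂))
  have hN₀ : ¬ B.subgroupOf (A ⊔ B) ≤ Subgroup.normalizer
      ((A.subgroupOf (A ⊔ B) : Subgroup ↥(A ⊔ B)) : Set ↥(A ⊔ B)) := by
    intro h
    apply hBnA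
    intro b hb
    apply fin_mem_normalizer
    intro a ha
    have hb' : (⟨b, hBH hb⟩ : ↥(A ⊔ B)) ∈ B.subgroupOf (A ⊔ B) := Subgroup.mem_subgroupOf.mpr hb
    have h2 := (Subgroup.mem_normalizer_iff.mp (h hb') ⟨a, hAH ha⟩).mp
      (Subgroup.mem_subgroupOf.mpr ha)
    exact Subgroup.mem_subgroupOf.mp h2
  obtain ⟨u, hu, huN, huA⟩ := Cfsg.Agent.S0649.result hHp (B.subgroupOf (A ⊔ B))
    (fun h => absurd h hp) (A.subgroupOf (A ⊔ B)) (isMulCommutative_of_comm hAc₀) hBA₀ hN₀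
  obtain ⟨h1, h2, -, h4, -, -, h7, -, -, h10⟩ :=
    gr_main hHp (fun h => absurd h hp) hAc₀ hBA₀ hu huN huA
  have hω := gr_omega hHp hp hAc₀ hBA₀ hu huN
  have hmapA : (A.subgroupOf (A ⊔ B)).map (A ⊔ B).subtype = A :=
    Subgroup.map_subgroupOf_eq_of_le hAH
  have hmapB : (B.subgroupOf (A ⊔ B)).map (A ⊔ B).subtype = B :=
    Subgroup.map_subgroupOf_eq_of_le hBH
  refine ⟨(grStar (A.subgroupOf (A ⊔ B)) u).map (A ⊔ B).subtype,
    isMulCommutative_of_comm (comm_map_subtype h2), ?_, ?_, ?_, ?_, ?_, ?_⟩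
  · rw [card_map_subtype, h1, card_subgroupOf_of_le hAH]
  · have h := (Subgroup.map_lt_map_iff_of_injective (A ⊔ B).subtype_injective).mpr h4
    rw [Subgroup.map_inf _ _ _ (A ⊔ B).subtype_injective,
      Subgroup.map_inf _ _ _ (A ⊔ B).subtype_injective, hmapA, hmapB] at h
    exact h
  · rintro _ ⟨x, hx, rfl⟩
    apply fin_mem_normalizer
    intro a ha
    have h2 := (Subgroup.mem_normalizer_iff.mp (h7 hx) ⟨a, hAH ha⟩).mp
      (Subgroup.mem_subgroupOf.mpr ha)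
    exact Subgroup.mem_subgroupOf.mp h2
  · rintro _ ⟨x, hx, rfl⟩
    have hx2 := gr_star_le_H hx
    have hle : A.subgroupOf (A ⊔ B) ⊔ grA1 (A.subgroupOf (A ⊔ B)) u ≤
        (Subgroup.normalClosure (A : Set G)).subgroupOf (A ⊔ B) := by
      refine sup_le ?_ ?_
      · intro y hy
        exact Subgroup.mem_subgroupOf.mpr
          (Subgroup.le_normalClosure (Subgroup.mem_subgroupOf.mp hy))
      · rintro _ ⟨a, ha, rfl⟩
        rw [Subgroup.mem_subgroupOf]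
        exact Subgroup.normalClosure_normal.conj_mem _
          (Subgroup.le_normalClosure (Subgroup.mem_subgroupOf.mp ha)) (u : G)
    exact Subgroup.mem_subgroupOf.mp (hle hx2)
  · have e1 : Monoid.exponent ↥((grStar (A.subgroupOf (A ⊔ B)) u).map (A ⊔ B).subtype) =
        Monoid.exponent ↥(grStar (A.subgroupOf (A ⊔ B)) u) :=
      (Monoid.exponent_eq_of_mulEquiv (Subgroup.equivMapOfInjective _ _
        (Subgroup.subtype_injective _))).symm
    have e2 : Monoid.exponent ↥(A.subgroupOf (A ⊔ B)) = Monoid.exponent A :=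
      Monoid.exponent_eq_of_mulEquiv (Subgroup.subgroupOfEquivOfLe hAH)
    rw [e1, ← e2]; exact h10 hp
  · have e1 : omegaOne p ((grStar (A.subgroupOf (A ⊔ B)) u).map (A ⊔ B).subtype) =
        (omegaOne p (grStar (A.subgroupOf (A ⊔ B)) u)).map (A ⊔ B).subtype :=
      (omegaOne_map_injective p _ _ (A ⊔ B).subtype_injective).symm
    have e2 : omegaOne p A = (omegaOne p (A.subgroupOf (A ⊔ B))).map (A ⊔ B).subtype := by
      rw [omegaOne_map_injective p _ _ (A ⊔ B).subtype_injective, hmapA]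
    rw [e1, e2, card_map_subtype, card_map_subtype]
    exact hω

end R3

end Cfsg.Agent.Lib.Helper3
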