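import Mathlib.GroupTheory.Sylow
import Mathlib.GroupTheory.Index
import Mathlib.GroupTheory.Subgroup.Centralizer
import Mathlib.GroupTheory.Commutator.Basic
import Mathlib.GroupTheory.PGroup
import Mathlib.GroupTheory.Perm.Cycle.Type
import Cfsg.Prelude.Def_Transfer
import Cfsg.Prelude.Def_PLocal
import Cfsg.Agent.Lib.Helper3.EA
import Cfsg.Agent.Lib.Helper3.Offender

set_option autoImplicit false

namespace Cfsg.Agent.Lib.Helper3

open Cfsg
open scoped commutatorElement

theorem comm_mul_left_of_abelian {G : Type*} [Group G] {V : Subgroup G}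
    (hVc : ∀ x ∈ V, ∀ y ∈ V, x * y = y * x) {v w a : G} (hv : v ∈ V) (hw : w ∈ V)
    (ha : a ∈ Subgroup.normalizer (V : Set G)) : ⁅v * w, a⁆ = ⁅v, a⁆ * ⁅w, a⁆ := by
  rw [commutatorElement_mul_left_eq_conj_mul]
  have h1 : ⁅w, a⁆ ∈ V := comm_mem_of_normalizer hw ha
  have h2 : ⁅v, a⁆ ∈ V := comm_mem_of_normalizer hv ha
  rw [hVc v hv _ h1, mul_inv_cancel_right]
  exact hVc _ h1 _ h2

theorem comm_inv_left_of_abelian {G : Type*} [Group G] {V : Subgroup G}
    (hVc : ∀ x ∈ V, ∀ y ∈ V, x * y = y * x) {v a : G} (hv : v ∈ V)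
    (ha : a ∈ Subgroup.normalizer (V : Set G)) : ⁅v⁻¹, a⁆ = ⁅v, a⁆⁻¹ := by
  have h := comm_mul_left_of_abelian hVc (V.inv_mem hv) hv ha
  rw [inv_mul_cancel, commutatorElement_one_left] at h
  exact eq_inv_of_mul_eq_one_left h.symm

theorem comm_comm_swap {G : Type*} [Group G] {V A : Subgroup G}
    (hVc : ∀ x ∈ V, ∀ y ∈ V, x * y = y * x)
    (hAV : A ≤ Subgroup.normalizer (V : Set G)) (hab : ⁅A, A⁆ ≤ Subgroup.centralizer (V : Set G))
    {a b v : G} (ha : a ∈ A) (hb : b ∈ A) (hv : v ∈ V) :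
    ⁅⁅v, b⁆, a⁆ = ⁅⁅v, a⁆, b⁆ := by
  have hva : a * v * a⁻¹ ∈ V := (Subgroup.mem_normalizer_iff.mp (hAV ha) v).mp hv
  have e1 : ⁅⁅v, b⁆, a⁆ = ⁅v, b⁆ * (a * ⁅v, b⁆ * a⁻¹)⁻¹ := by
    simp [commutatorElement_def, mul_assoc]
  have e2 : ⁅v, a⁆ = v * (a * v * a⁻¹)⁻¹ := by
    simp [commutatorElement_def, mul_assoc]
  rw [e1, conj_comm_eq hAV hab ha hb hv, e2,
    comm_mul_left_of_abelian hVc hv (V.inv_mem hva) (hAV hb),
    comm_inv_left_of_abelian hVc hva (hAV hb)]

theorem eq_bot_of_le_commutator {G : Type*} [Group G] [Finite G] {p : ℕ} [Fact p.Prime]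
    {V A : Subgroup G} (hV : IsElementaryAbelian p V)
    (hAV : A ≤ Subgroup.normalizer (V : Set G)) (hab : ⁅A, A⁆ ≤ Subgroup.centralizer (V : Set G))
    (hp : ∀ a ∈ A, a ^ p ∈ Subgroup.centralizer (V : Set G)) :
    ∀ (n : ℕ) (W : Subgroup G), Nat.card W = n → W ≤ V → A ≤ Subgroup.normalizer (W : Set G) →
      W ≤ ⁅W, A⁆ → W = ⊥ := by
  classical
  have hVc := (isEA_iff.mp hV).1
  intro n
  induction n using Nat.strong_induction_on with
  | _ n ih =>
    intro W hn hWV hAW hW
    by_contra hne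
    have hWa : ∀ a ∈ A, ∀ w ∈ W, ⁅w, a⁆ = 1 := by
      intro a ha
      have hS_le : Subgroup.closure {g : G | ∃ w ∈ W, g = ⁅w, a⁆} ≤ W := by
        rw [Subgroup.closure_le]
        rintro _ ⟨w, hw, rfl⟩
        exact comm_mem_of_normalizer hw (hAW ha)
      have hS_form : ∀ g ∈ Subgroup.closure {g : G | ∃ w ∈ W, g = ⁅w, a⁆}, ∃ w ∈ W, g = ⁅w, a⁆ := by
        intro g hg
        induction hg using Subgroup.closure_induction with
        | mem x hx => exact hx
        | one => exact ⟨1, W.one_mem, by simp⟩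
        | mul x y _ _ ihx ihy =>
          obtain ⟨w1, hw1, rfl⟩ := ihx
          obtain ⟨w2, hw2, rfl⟩ := ihy
          exact ⟨w1 * w2, W.mul_mem hw1 hw2,
            (comm_mul_left_of_abelian hVc (hWV hw1) (hWV hw2) (hAV ha)).symm⟩
        | inv x _ ihx =>
          obtain ⟨w1, hw1, rfl⟩ := ihx
          exact ⟨w1⁻¹, W.inv_mem hw1, (comm_inv_left_of_abelian hVc (hWV hw1) (hAV ha)).symm⟩
      have hS_norm : A ≤ Subgroup.normalizer
          ((Subgroup.closure {g : G | ∃ w ∈ W, g = ⁅w, a⁆} : Subgroup G) : Set G) := by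
        intro b hb
        apply Subgroup.normalizer_le_normalizer_closure
        rw [Subgroup.mem_set_normalizer_iff]
        intro g
        constructor
        · rintro ⟨w, hw, rfl⟩
          exact ⟨b * w * b⁻¹, (Subgroup.mem_normalizer_iff.mp (hAW hb) w).mp hw,
            conj_comm_eq hAV hab hb ha (hWV hw)⟩
        · rintro ⟨w, hw, hg⟩
          refine ⟨b⁻¹ * w * b, (Subgroup.mem_normalizer_iff''.mp (hAW hb) w).mp hw, ?_⟩
          have h1 := conj_comm_eq hAV hab (A.inv_mem hb) ha (hWV hw)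
          rw [inv_inv] at h1
          rw [← h1, ← hg]
          group
      have hS_comm : Subgroup.closure {g : G | ∃ w ∈ W, g = ⁅w, a⁆} ≤
          ⁅Subgroup.closure {g : G | ∃ w ∈ W, g = ⁅w, a⁆}, A⁆ := by
        rw [Subgroup.closure_le]
        rintro _ ⟨w, hw, rfl⟩
        have hw' : w ∈ ⁅W, A⁆ := hW hw
        rw [Subgroup.commutator_def] at hw'
        have key : ∀ x ∈ Subgroup.closure {g | ∃ g₁ ∈ W, ∃ g₂ ∈ A, ⁅g₁, g₂⁆ = g},
            x ∈ V ∧ ⁅x, a⁆ ∈ ⁅Subgroup.closure {g : G | ∃ w ∈ W, g = ⁅w, a⁆}, A⁆ := by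
          intro x hx
          induction hx using Subgroup.closure_induction with
          | mem x hx =>
            obtain ⟨w', hw', b, hb, rfl⟩ := hx
            refine ⟨comm_mem_of_normalizer (hWV hw') (hAV hb), ?_⟩
            rw [comm_comm_swap hVc hAV hab ha hb (hWV hw')]
            exact Subgroup.commutator_mem_commutator (Subgroup.subset_closure ⟨w', hw', rfl⟩) hb
          | one => exact ⟨V.one_mem, by rw [commutatorElement_one_left]; exact Subgroup.one_mem _⟩
          | mul x y _ _ ihx ihy =>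
            refine ⟨V.mul_mem ihx.1 ihy.1, ?_⟩
            rw [comm_mul_left_of_abelian hVc ihx.1 ihy.1 (hAV ha)]
            exact Subgroup.mul_mem _ ihx.2 ihy.2
          | inv x _ ihx =>
            refine ⟨V.inv_mem ihx.1, ?_⟩
            rw [comm_inv_left_of_abelian hVc ihx.1 (hAV ha)]
            exact Subgroup.inv_mem _ ihx.2
        exact (key w hw').2
      have hlt : Nat.card ↥(Subgroup.closure {g : G | ∃ w ∈ W, g = ⁅w, a⁆}) < n := by
        by_contra hge
        have hge' : Nat.card W ≤ Nat.card ↥(Subgroup.closure {g : G | ∃ w ∈ W, g = ⁅w, a⁆}) := by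
          rw [hn]; exact Nat.le_of_not_lt hge
        have heq : Subgroup.closure {g : G | ∃ w ∈ W, g = ⁅w, a⁆} = W :=
          Subgroup.eq_of_le_of_card_ge hS_le hge'
        let φ : W → W := fun w => ⟨⁅(w : G), a⁆, comm_mem_of_normalizer w.2 (hAW ha)⟩
        have hφs : Function.Surjective φ := by
          intro y
          have hy : (y : G) ∈ Subgroup.closure {g : G | ∃ w ∈ W, g = ⁅w, a⁆} := by
            rw [heq]; exact y.2
          obtain ⟨w, hw, hyw⟩ := hS_form _ hy
          exact ⟨⟨w, hw⟩, Subtype.ext hyw.symm⟩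
        have hφi : Function.Injective φ := Finite.injective_iff_surjective.mpr hφs
        let f : W → W := fun w =>
          ⟨a * (w : G) * a⁻¹, (Subgroup.mem_normalizer_iff.mp (hAW ha) w).mp w.2⟩
        have hiter : ∀ k : ℕ, ∀ w : W, ((f^[k] w : W) : G) = a ^ k * (w : G) * (a ^ k)⁻¹ := by
          intro k
          induction k with
          | zero => intro w; rw [Function.iterate_zero, pow_zero]; simp
          | succ k ihk =>
            intro w
            rw [Function.iterate_succ_apply']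
            show a * ((f^[k] w : W) : G) * a⁻¹ = _
            rw [ihk w, pow_succ']
            group
        haveI : Fintype W := Fintype.ofFinite W
        let g : Function.End W := f
        have hfp : g ^ p ^ 1 = 1 := by
          have h1 := hom_coe_pow (fun g : Function.End W ↦ (g : W → W)) rfl (fun g h ↦ rfl) g (p ^ 1)
          have h3 : f^[p ^ 1] = id := by
            funext w
            rw [pow_one]
            apply Subtype.ext
            rw [hiter p w]
            have h2 := Subgroup.mem_centralizer_iff.mp (hp a ha) (w : G) (hWV w.2)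
            show a ^ p * (w : G) * (a ^ p)⁻¹ = (w : G)
            rw [← h2]; group
          exact h1.trans h3
        have hmod := Equiv.Perm.card_fixedPoints_modEq (f := g) (p := p) (n := 1) hfp
        rw [Fintype.card_eq_nat_card, Fintype.card_eq_nat_card] at hmod
        have hpW : p ∣ Nat.card W := by
          have hWp : IsPGroup p W := (isPGroup_of_isEA hV).to_le hWV
          rcases hWp.card_eq_or_dvd with h1 | h1
          · exact absurd (Subgroup.card_eq_one.mp h1) hne
          · exact h1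
        have hpF : p ∣ Nat.card (Function.fixedPoints f) := by
          have := (Nat.modEq_zero_iff_dvd.mpr hpW).symm.trans hmod
          exact Nat.modEq_zero_iff_dvd.mp this.symm
        have h1mem : (1 : W) ∈ Function.fixedPoints f := by
          show f 1 = 1
          apply Subtype.ext
          show a * ((1 : W) : G) * a⁻¹ = 1
          simp
        haveI : Nonempty (Function.fixedPoints f) := ⟨⟨1, h1mem⟩⟩
        have hcard : 1 < Nat.card (Function.fixedPoints f) := by
          have hpos : 0 < Nat.card (Function.fixedPoints f) := Nat.card_pos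
          have := Nat.le_of_dvd hpos hpF
          have := (Fact.out : p.Prime).two_le
          omega
        haveI : Nontrivial (Function.fixedPoints f) := Finite.one_lt_card_iff_nontrivial.mp hcard
        obtain ⟨⟨w₀, hw₀f⟩, hw₀⟩ := exists_ne (⟨1, h1mem⟩ : Function.fixedPoints f)
        have hw₀1 : w₀ ≠ 1 := fun h => hw₀ (Subtype.ext h)
        have hw₀a : a * (w₀ : G) * a⁻¹ = (w₀ : G) := congrArg Subtype.val hw₀f
        have hφ0 : φ w₀ = φ 1 := by
          apply Subtype.ext
          show ⁅(w₀ : G), a⁆ = ⁅((1 : W) : G), a⁆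
          rw [Subgroup.coe_one, commutatorElement_one_left, commutatorElement_eq_one_iff_mul_comm]
          calc (w₀ : G) * a = (a * (w₀ : G) * a⁻¹) * a := by rw [hw₀a]
            _ = a * (w₀ : G) := by group
        exact hw₀1 (hφi hφ0)
      have hbot := ih _ hlt _ rfl (hS_le.trans hWV) hS_norm hS_comm
      intro w hw
      have : ⁅w, a⁆ ∈ Subgroup.closure {g : G | ∃ w ∈ W, g = ⁅w, a⁆} :=
        Subgroup.subset_closure ⟨w, hw, rfl⟩
      rw [hbot, Subgroup.mem_bot] at this
      exact this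
    have hWA : ⁅W, A⁆ = ⊥ := by
      rw [eq_bot_iff, Subgroup.commutator_le]
      intro w hw a ha
      rw [Subgroup.mem_bot]
      exact hWa a ha w hw
    rw [hWA] at hW
    exact hne (le_bot_iff.mp hW)

theorem timmesfeld_nontrivial {G : Type*} [Group G] [Finite G] {p : ℕ} [Fact p.Prime]
    {V A : Subgroup G} (hV : IsElementaryAbelian p V)
    (hAV : A ≤ Subgroup.normalizer (V : Set G)) (hab : ⁅A, A⁆ ≤ Subgroup.centralizer (V : Set G))
    (hp : ∀ a ∈ A, a ^ p ∈ Subgroup.centralizer (V : Set G))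
    (hbest : ∀ B : Subgroup G, B ≤ A → offM V B ≤ offM V A) (U : Subgroup G) (hU : U ≤ V)
    (hVA : ⁅V, A⁆ ≠ ⊥) :
    ⁅V, A ⊓ Subgroup.centralizer ((⁅U, A⁆ : Subgroup G) : Set G)⁆ ≠ ⊥ := by
  obtain ⟨h1, h2⟩ := timmesfeld_core hV hAV hab hbest U hU
  have hVc := (isEA_iff.mp hV).1
  intro hVB
  apply hVA
  have hVC : V ≤ Subgroup.centralizer
      ((A ⊓ Subgroup.centralizer ((⁅U, A⁆ : Subgroup G) : Set G) : Subgroup G) : Set G) :=
    Subgroup.commutator_eq_bot_iff_le_centralizer.mp hVB
  have hVle : V ≤ ⁅U, A⁆ ⊔ (V ⊓ Subgroup.centralizer (A : Set G)) := by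
    rw [← h2]; exact le_inf le_rfl hVC
  have hWV : ⁅V, A⁆ ≤ V := (Subgroup.le_normalizer_iff_commutator_le_left).mp hAV
  have hUAV : ⁅U, A⁆ ≤ V := (Subgroup.commutator_mono hU le_rfl).trans hWV
  have hAW : A ≤ Subgroup.normalizer ((⁅V, A⁆ : Subgroup G) : Set G) :=
    Subgroup.normalizer_commutator_ge_right _ _
  have hW : ⁅V, A⁆ ≤ ⁅⁅V, A⁆, A⁆ := by
    rw [Subgroup.commutator_le]
    intro v hv a ha
    have hn : ⁅U, A⁆ ≤ Subgroup.normalizer
        ((V ⊓ Subgroup.centralizer (A : Set G) : Subgroup G) : Set G) := by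
      refine le_trans ?_ (Subgroup.centralizer_le_normalizer _)
      intro x hx
      refine Subgroup.mem_centralizer_iff.mpr ?_
      intro y hy
      exact hVc y hy.1 x (hUAV hx)
    have hv' : v ∈ ((⁅U, A⁆ ⊔ (V ⊓ Subgroup.centralizer (A : Set G)) : Subgroup G) : Set G) :=
      hVle hv
    rw [Subgroup.coe_mul_of_left_le_normalizer_right _ _ hn] at hv'
    obtain ⟨x, hx, c, hc, rfl⟩ := hv'
    rw [commutatorElement_mul_left_eq_conj_mul]
    have hca : ⁅c, a⁆ = 1 := by
      rw [commutatorElement_eq_one_iff_mul_comm]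
      exact (Subgroup.mem_centralizer_iff.mp hc.2 a ha).symm
    rw [hca, mul_one, mul_inv_cancel, one_mul]
    exact Subgroup.commutator_mem_commutator (Subgroup.commutator_mono hU le_rfl hx) ha
  exact eq_bot_of_le_commutator hV hAV hab hp _ _ rfl hWV hAW hW

theorem offM_EA_formula {G : Type*} [Group G] [Finite G] {p : ℕ} {V A : Subgroup G}
    (hV : IsElementaryAbelian p V) (hAEA : IsElementaryAbelian p A) (B : Subgroup G) (hBA : B ≤ A) :
    offM V B = Nat.card ↥(B ⊔ (V ⊓ Subgroup.centralizer (B : Set G))) * Nat.card ↥(B ⊓ V) ∧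
      IsElementaryAbelian p (B ⊔ (V ⊓ Subgroup.centralizer (B : Set G))) := by
  have hA' := isEA_iff.mp hAEA
  have hBEA : IsElementaryAbelian p B := isEA_of_le hBA hAEA
  have hCEA : IsElementaryAbelian p (V ⊓ Subgroup.centralizer (B : Set G)) :=
    isEA_of_le inf_le_left hV
  have hcomm : ∀ b ∈ B, ∀ c ∈ V ⊓ Subgroup.centralizer (B : Set G), b * c = c * b :=
    fun b hb c hc => (Subgroup.mem_centralizer_iff.mp hc.2 b hb)
  have hnorm : B ≤ Subgroup.normalizer ((V ⊓ Subgroup.centralizer (B : Set G) : Subgroup G) : Set G) :=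
    (Subgroup.le_centralizer_iff.mp inf_le_right).trans (Subgroup.centralizer_le_normalizer _)
  have h2 := card_sup_mul_card_inf B (V ⊓ Subgroup.centralizer (B : Set G)) hnorm
  have h3 : B ⊓ (V ⊓ Subgroup.centralizer (B : Set G)) = B ⊓ V := by
    apply le_antisymm
    · exact inf_le_inf_left B inf_le_left
    · intro x hx
      exact ⟨hx.1, hx.2, Subgroup.mem_centralizer_iff.mpr
        (fun b hb => hA'.1 b (hBA hb) x (hBA hx.1))⟩
  rw [h3] at h2
  exact ⟨h2.symm, isEA_sup hBEA hCEA hcomm⟩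

theorem maxEA_best {G : Type*} [Group G] [Finite G] {p : ℕ} {V A : Subgroup G}
    (hV : IsElementaryAbelian p V) (hA : A ∈ maxElementaryAbelianSubgroups p G) :
    (∀ B : Subgroup G, B ≤ A → offM V B ≤ offM V A) ∧
      offM V A = Nat.card A * Nat.card ↥(A ⊓ V) ∧
      V ⊓ Subgroup.centralizer (A : Set G) = A ⊓ V := by
  have hA' := isEA_iff.mp hA.1
  have hAsup : A ⊔ (V ⊓ Subgroup.centralizer (A : Set G)) = A :=
    eq_of_le_of_maxEA hA (offM_EA_formula hV hA.1 A le_rfl).2 le_sup_left
  have hmA : offM V A = Nat.card A * Nat.card ↥(A ⊓ V) := by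
    rw [(offM_EA_formula hV hA.1 A le_rfl).1, hAsup]
  refine ⟨?_, hmA, ?_⟩
  · intro B hB
    rw [hmA, (offM_EA_formula hV hA.1 B hB).1]
    exact Nat.mul_le_mul (hA.2 _ (offM_EA_formula hV hA.1 B hB).2)
      (Subgroup.card_le_of_le (inf_le_inf_right V hB))
  · apply le_antisymm
    · exact le_inf (le_sup_right.trans hAsup.le) inf_le_left
    · intro x hx
      exact ⟨hx.2, Subgroup.mem_centralizer_iff.mpr (fun a ha => hA'.1 a ha x hx.1)⟩

end Cfsg.Agent.Lib.Helper3
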