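import Cfsg.Agent.Lib.Helper3.GT7
import Cfsg.Agent.Lib.Helper8.AbelianSylowNPC
import Cfsg.Agent.S0607
import Cfsg.Agent.Lib.Helper3.Replacement2

set_option autoImplicit false
set_option linter.style.haveILetI false

namespace Cfsg.Agent.Lib.Helper3

open Cfsg

universe u

theorem isPGroup_of_coprime_trivial {G : Type*} [Group G] [Finite G] {p : ℕ} [Fact p.Prime]
    (K : Subgroup G) (h : ∀ y ∈ K, (orderOf y).Coprime p → y = 1) : IsPGroup p ↥K := by
  have hp : p.Prime := Fact.out
  rintro ⟨g, hg⟩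
  obtain ⟨e, m, hm, hord⟩ := Nat.exists_eq_pow_mul_and_not_dvd (orderOf_pos g).ne' p hp.ne_one
  refine ⟨e, Subtype.ext ?_⟩
  show g ^ (p ^ e) = 1
  apply h _ (K.pow_mem hg _)
  have h1 : (g ^ (p ^ e)) ^ m = 1 := by rw [← pow_mul, ← hord, pow_orderOf_eq_one]
  have h2 : orderOf (g ^ (p ^ e)) ∣ m := orderOf_dvd_of_pow_eq_one h1
  exact Nat.Coprime.coprime_dvd_left h2 ((Nat.Prime.coprime_iff_not_dvd hp).mpr hm).symm

section

variable {p : ℕ} [Fact p.Prime]

/-- common set-up for the final step of Thompson-type arguments: with `C_G(O_p(G)) ≤ O_p(G)`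
and `C_G(Z(P))` having a normal `p`-complement, `V₁ = Ω₁(⟨Z(P)^G⟩)` is a normal elementary
abelian subgroup of `Z(O_p(G))` whose centralizer is `O_p(G)`-contained. -/
theorem th_V1 (G : Type u) [Group G] [Finite G] (P : Sylow p G)
    (hE1 : Subgroup.centralizer (pCore p G : Set G) ≤ pCore p G)
    (hC : HasNormalPComplement p ↥(Subgroup.centralizer
      (((P : Subgroup G) ⊓ Subgroup.centralizer ((P : Subgroup G) : Set G) : Subgroup G) :
        Set G))) :
    ∃ V₁ : Subgroup G, V₁.Normal ∧ IsElementaryAbelian p V₁ ∧ V₁ ≤ pCore p G ∧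
      pCore p G ≤ Subgroup.centralizer (V₁ : Set G) ∧
      Subgroup.centralizer (V₁ : Set G) ≤ pCore p G := by
  have hHp : IsPGroup p ↥(pCore p G) := pCore_isPGroup' p G
  have hHP : pCore p G ≤ (P : Subgroup G) := hHp.le_sylow_of_normal P
  haveI hHn : (pCore p G).Normal := pCore_normal' p G
  obtain ⟨Z, hZdef⟩ : ∃ Z : Subgroup G,
      Z = (P : Subgroup G) ⊓ Subgroup.centralizer ((P : Subgroup G) : Set G) := ⟨_, rfl⟩
  rw [← hZdef] at hC
  have hZmem : ∀ z ∈ Z, ∀ x ∈ (P : Subgroup G), x * z = z * x := by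
    intro z hz x hx
    rw [hZdef] at hz
    exact Subgroup.mem_centralizer_iff.mp hz.2 x hx
  have hHCZ : pCore p G ≤ Subgroup.centralizer (Z : Set G) := by
    intro h hh
    refine Subgroup.mem_centralizer_iff.mpr ?_
    intro z hz
    exact (hZmem z hz h (hHP hh)).symm
  have hCZp : IsPGroup p ↥(Subgroup.centralizer (Z : Set G)) :=
    pn_isPGroup_of_centralizer_le _ (pCore p G) hHCZ hHp hE1 hC
  have hZC : Z ≤ Subgroup.centralizer ((pCore p G : Subgroup G) : Set G) := by
    intro z hz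
    refine Subgroup.mem_centralizer_iff.mpr ?_
    intro h hh
    exact hZmem z hz h (hHP hh)
  have hZH : Z ≤ pCore p G := hZC.trans hE1
  haveI hCHn : (Subgroup.centralizer ((pCore p G : Subgroup G) : Set G)).Normal := inferInstance
  obtain ⟨V, hVdef⟩ : ∃ V : Subgroup G, V = Subgroup.normalClosure (Z : Set G) := ⟨_, rfl⟩
  haveI hVn : V.Normal := by rw [hVdef]; exact Subgroup.normalClosure_normal
  have hVH : V ≤ pCore p G := by rw [hVdef]; exact Subgroup.normalClosure_le_normal hZH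
  have hVC : V ≤ Subgroup.centralizer ((pCore p G : Subgroup G) : Set G) := by
    rw [hVdef]; exact Subgroup.normalClosure_le_normal hZC
  have hZV : Z ≤ V := by rw [hVdef]; exact Subgroup.subset_normalClosure
  have hVcomm : ∀ x ∈ V, ∀ y ∈ V, x * y = y * x := by
    intro x hx y hy
    exact Subgroup.mem_centralizer_iff.mp (hVC hy) x (hVH hx)
  have hVp : IsPGroup p ↥V := hHp.to_le hVH
  have hV₁V : omegaOne p V ≤ V := omegaOne_le' p V
  have hV₁mem : ∀ x, x ∈ omegaOne p V ↔ x ∈ V ∧ x ^ p = 1 :=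
    fun x => mem_omegaOne_of_comm hVcomm
  have hV₁n : (omegaOne p V).Normal := by
    constructor
    intro x hx g
    rw [hV₁mem] at hx ⊢
    exact ⟨hVn.conj_mem x hx.1 g, by rw [conj_pow, hx.2, mul_one, mul_inv_cancel]⟩
  have hV₁EA : IsElementaryAbelian p (omegaOne p V) := by
    rw [isEA_iff]
    exact ⟨fun x hx y hy => hVcomm x (hV₁V hx) y (hV₁V hy), fun x hx => ((hV₁mem x).mp hx).2⟩
  have hC₁p : IsPGroup p ↥(Subgroup.centralizer ((omegaOne p V : Subgroup G) : Set G)) := by
    apply isPGroup_of_coprime_trivial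
    intro y hy hcop
    have hyV : ∀ x ∈ V, y * x * y⁻¹ = x := by
      apply Cfsg.Agent.Lib.Helper8.h8_centralizes_of_omega V hVp hVcomm y
        (fun x hx => hVn.conj_mem x hx y) hcop
      intro x hx hxp
      have h0 : x ∈ omegaOne p V := (hV₁mem x).mpr ⟨hx, hxp⟩
      have h1 := Subgroup.mem_centralizer_iff.mp hy x h0
      rw [← h1, mul_inv_cancel_right]
    have hyZ : y ∈ Subgroup.centralizer (Z : Set G) := by
      refine Subgroup.mem_centralizer_iff.mpr ?_
      intro z hz
      have h1 := hyV z (hZV hz)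
      calc z * y = (y * z * y⁻¹) * y := by rw [h1]
        _ = y * z := by group
    obtain ⟨k, hk⟩ := hCZp ⟨y, hyZ⟩
    have hk' : y ^ (p ^ k) = 1 := congrArg Subtype.val hk
    have h1 : orderOf y ∣ p ^ k := orderOf_dvd_of_pow_eq_one hk'
    exact orderOf_eq_one_iff.mp (Nat.Coprime.eq_one_of_dvd (Nat.Coprime.pow_right k hcop) h1)
  haveI := hV₁n
  have hC₁n : (Subgroup.centralizer ((omegaOne p V : Subgroup G) : Set G)).Normal :=
    inferInstance
  refine ⟨omegaOne p V, hV₁n, hV₁EA, hV₁V.trans hVH, ?_, le_pCore' hC₁n hC₁p⟩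
  intro h hh
  refine Subgroup.mem_centralizer_iff.mpr ?_
  intro v hv
  exact (Subgroup.mem_centralizer_iff.mp (hVC (hV₁V hv)) h hh).symm

/-- the final step of Thompson's normal `p`-complement theorem, `p` odd -/
theorem th_final_Je (hp2 : p ≠ 2) (G : Type u) [Group G] [Finite G] (P : Sylow p G)
    (hO' : pPrimeCore p G = ⊥)
    (star : ∀ M : Subgroup G, (P : Subgroup G) ≤ M → M ≠ ⊤ → HasNormalPComplement p ↥M)
    (hquot : HasNormalPComplement p (G ⧸ pCore p G))
    (hN : HasNormalPComplement p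
      ↥(Subgroup.normalizer (thompsonSubgroupOf p (P : Subgroup G) : Set G)))
    (hC : HasNormalPComplement p ↥(Subgroup.centralizer
      (((P : Subgroup G) ⊓ Subgroup.centralizer ((P : Subgroup G) : Set G) : Subgroup G) :
        Set G))) :
    HasNormalPComplement p G := by
  obtain ⟨hE1, hst⟩ := gt_stepE hp2 P hO' star hquot
  have hHp : IsPGroup p ↥(pCore p G) := pCore_isPGroup' p G
  have hHP : pCore p G ≤ (P : Subgroup G) := hHp.le_sylow_of_normal P
  haveI hHn : (pCore p G).Normal := pCore_normal' p G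
  obtain ⟨V₁, hV₁n, hV₁EA, hV₁H, hHC₁, hC₁H⟩ := th_V1 G P hE1 hC
  haveI := hV₁n
  have hV₁p : IsPGroup p ↥V₁ := hHp.to_le hV₁H
  have hV₁P : V₁ ≤ (P : Subgroup G) := hV₁H.trans hHP
  have hLp : IsPGroup p ↥(stabL p V₁) := by
    apply (pCore_isPGroup' p _).comap_of_ker_isPGroup
    rw [QuotientGroup.ker_mk']
    exact hHp.to_le hC₁H
  have hLH : stabL p V₁ ≤ pCore p G := le_pCore' (stabL_normal p V₁) hLp
  have hstV₁ : IsPStableOn p V₁ := hst V₁ hV₁p
  have hAH : ∀ A ∈ maxIn (IsElementaryAbelian p) (P : Subgroup G), A ≤ pCore p G := by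
    intro A hA
    have hA' : A.subgroupOf (P : Subgroup G) ∈
        maxElementaryAbelianSubgroups p ↥(P : Subgroup G) := by
      refine ⟨isEA_subgroupOf _ hA.2.1, fun B hB => ?_⟩
      rw [card_subgroupOf_of_le hA.1, ← card_map_subtype B]
      exact hA.2.2 _ (Subgroup.map_subtype_le B) (isEA_map _ hB)
    haveI hV'n : (V₁.subgroupOf (P : Subgroup G)).Normal := inferInstance
    have hV'EA : IsElementaryAbelian p (V₁.subgroupOf (P : Subgroup G)) :=
      isEA_subgroupOf _ hV₁EA
    obtain ⟨-, hquad, hnt⟩ := Cfsg.Agent.S0607.result (V₁.subgroupOf (P : Subgroup G)) hV'EA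
      (A.subgroupOf (P : Subgroup G)) hA'
    obtain ⟨A₀', hA₀'⟩ : ∃ A₀' : Subgroup ↥(P : Subgroup G), A₀' =
        ⁅V₁.subgroupOf (P : Subgroup G), A.subgroupOf (P : Subgroup G)⁆ ⊔
        (A.subgroupOf (P : Subgroup G) ⊓ Subgroup.centralizer
          ((⁅V₁.subgroupOf (P : Subgroup G), A.subgroupOf (P : Subgroup G)⁆ :
            Subgroup ↥(P : Subgroup G)) : Set ↥(P : Subgroup G))) := ⟨_, rfl⟩
    rw [← hA₀'] at hquad hnt
    have hmapV : (V₁.subgroupOf (P : Subgroup G)).map (P : Subgroup G).subtype = V₁ :=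
      Subgroup.map_subgroupOf_eq_of_le hV₁P
    have hmapA : (A.subgroupOf (P : Subgroup G)).map (P : Subgroup G).subtype = A :=
      Subgroup.map_subgroupOf_eq_of_le hA.1
    have hquadG : ⁅⁅V₁, A₀'.map (P : Subgroup G).subtype⁆, A₀'.map (P : Subgroup G).subtype⁆ =
        ⊥ := by
      rw [← hmapV, ← Subgroup.map_commutator, ← Subgroup.map_commutator, hquad,
        Subgroup.map_bot]
    have hA₀L : A₀'.map (P : Subgroup G).subtype ≤ stabL p V₁ := by
      intro a ha
      apply mem_stabL_of_quad hstV₁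
      rw [eq_bot_iff, ← hquadG]
      exact Subgroup.commutator_mono
        (Subgroup.commutator_mono le_rfl (Subgroup.zpowers_le.mpr ha))
        (Subgroup.zpowers_le.mpr ha)
    have hA₀C : A₀'.map (P : Subgroup G).subtype ≤ Subgroup.centralizer (V₁ : Set G) :=
      hA₀L.trans (hLH.trans hHC₁)
    have hcomm0 : ⁅V₁, A₀'.map (P : Subgroup G).subtype⁆ = ⊥ :=
      Subgroup.commutator_eq_bot_iff_le_centralizer.mpr (Subgroup.le_centralizer_iff.mp hA₀C)
    have hcomm0' : ⁅V₁.subgroupOf (P : Subgroup G), A₀'⁆ = ⊥ := by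
      apply (Subgroup.map_eq_bot_iff_of_injective _
        (Subgroup.subtype_injective (P : Subgroup G))).mp
      rw [Subgroup.map_commutator, hmapV]
      exact hcomm0
    have hcommA' : ⁅V₁.subgroupOf (P : Subgroup G), A.subgroupOf (P : Subgroup G)⁆ = ⊥ := by
      by_contra h
      exact hnt h hcomm0'
    have hcommA : ⁅V₁, A⁆ = ⊥ := by
      rw [← hmapV, ← hmapA, ← Subgroup.map_commutator, hcommA', Subgroup.map_bot]
    have hAC : A ≤ Subgroup.centralizer (V₁ : Set G) :=
      Subgroup.le_centralizer_iff.mp (Subgroup.commutator_eq_bot_iff_le_centralizer.mp hcommA)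
    exact hAC.trans hC₁H
  have hmax : maxIn (IsElementaryAbelian p) (pCore p G) =
      maxIn (IsElementaryAbelian p) (P : Subgroup G) := maxIn_mono isEA_bot hHP hAH
  have hJ : thompsonSubgroupOf p (P : Subgroup G) = thompsonSubgroupOf p (pCore p G) := by
    rw [thompsonSubgroupOf_eq_sSup, thompsonSubgroupOf_eq_sSup]
    show sSup (maxIn (IsElementaryAbelian p) (P : Subgroup G)) =
      sSup (maxIn (IsElementaryAbelian p) (pCore p G))
    rw [hmax]
  have hJn : (thompsonSubgroupOf p (P : Subgroup G)).Normal := by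
    rw [hJ]
    exact (cfJe.{u} p).normal_of_normal (pCore p G)
  exact pn_of_eq_top _ (Subgroup.normalizer_eq_top_iff.mpr hJn) hN

/-- **Thompson's normal `p`-complement theorem**, `p` odd -/
theorem th_Je_main (hp2 : p ≠ 2) {G : Type u} [Group G] [Finite G] (P : Sylow p G)
    (hN : HasNormalPComplement p
      ↥(Subgroup.normalizer (thompsonSubgroupOf p (P : Subgroup G) : Set G)))
    (hC : HasNormalPComplement p ↥(Subgroup.centralizer
      (((P : Subgroup G) ⊓ Subgroup.centralizer ((P : Subgroup G) : Set G) : Subgroup G) :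
        Set G))) :
    HasNormalPComplement p G :=
  th_main_aux (cfJe.{u} p) (cfZ.{u} p) (fun _ _ => True) (fun _ _ _ _ _ => trivial)
    (fun _ _ _ _ _ _ => trivial)
    (fun G _ _ P _ hO' star hquot hN hC => th_final_Je hp2 G P hO' star hquot hN hC)
    _ G rfl P trivial hN hC

end

end Cfsg.Agent.Lib.Helper3
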