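import Cfsg.Agent.Lib.Helper3.GT8

set_option autoImplicit false
set_option linter.style.haveILetI false

namespace Cfsg.Agent.Lib.Helper3

open Cfsg
open scoped commutatorElement
open Cfsg.Agent.Lib.Helper2 (hasNormalPComplement_iff mem_of_index_pow_of_coprime_orderOf
  coprime_orderOf_of_mem_of_coprime_card exists_normal_complement_of_central_sylow)

universe u

section

variable {G : Type*} [Group G]

theorem commP_sup {B N : Subgroup G} (hB : commP B) (hN : commP N)
    (h : ∀ b ∈ B, ∀ n ∈ N, b * n = n * b) : commP (B ⊔ N) := by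
  have h1 : B ⊔ N ≤ Subgroup.centralizer ((B ⊔ N : Subgroup G) : Set G) := by
    apply sup_le
    · apply Subgroup.le_centralizer_iff.mp
      apply sup_le
      · intro x hx; exact Subgroup.mem_centralizer_iff.mpr (fun y hy => hB y hy x hx)
      · intro x hx; exact Subgroup.mem_centralizer_iff.mpr (fun y hy => h y hy x hx)
    · apply Subgroup.le_centralizer_iff.mp
      apply sup_le
      · intro x hx; exact Subgroup.mem_centralizer_iff.mpr (fun y hy => (h x hx y hy).symm)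
      · intro x hx; exact Subgroup.mem_centralizer_iff.mpr (fun y hy => hN y hy x hx)
  intro x hx y hy
  exact (Subgroup.mem_centralizer_iff.mp (h1 hy) x hx)

theorem offM_ab_le [Finite G] {P V A B : Subgroup G} (hV : commP V) (hVP : V ≤ P)
    (hA : A ∈ maxIn commP P) (hBA : B ≤ A) :
    offM V B ≤ Nat.card A * Nat.card ↥(A ⊓ V) := by
  have hN : B ≤ Subgroup.normalizer
      ((V ⊓ Subgroup.centralizer (B : Set G) : Subgroup G) : Set G) := by
    refine le_trans ?_ (Subgroup.centralizer_le_normalizer _)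
    apply Subgroup.le_centralizer_iff.mp
    exact inf_le_right
  have h1 := card_sup_mul_card_inf B (V ⊓ Subgroup.centralizer (B : Set G)) hN
  have hcomm : commP (B ⊔ (V ⊓ Subgroup.centralizer (B : Set G))) := by
    apply commP_sup
    · intro x hx y hy; exact hA.2.1 x (hBA hx) y (hBA hy)
    · intro x hx y hy; exact hV x hx.1 y hy.1
    · intro b hb n hn; exact Subgroup.mem_centralizer_iff.mp hn.2 b hb
  have hle : B ⊔ (V ⊓ Subgroup.centralizer (B : Set G)) ≤ P :=
    sup_le (hBA.trans hA.1) (inf_le_left.trans hVP)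
  have h2 := hA.2.2 _ hle hcomm
  have h3 : Nat.card ↥(B ⊓ (V ⊓ Subgroup.centralizer (B : Set G))) ≤ Nat.card ↥(A ⊓ V) :=
    Subgroup.card_le_of_le (le_inf (inf_le_left.trans hBA) (inf_le_right.trans inf_le_left))
  unfold offM
  rw [← h1]
  exact Nat.mul_le_mul h2 h3

theorem maxAb_best [Finite G] {P V A : Subgroup G} (hV : commP V) (hVP : V ≤ P)
    (hA : A ∈ maxIn commP P) : ∀ B : Subgroup G, B ≤ A → offM V B ≤ offM V A := by
  intro B hBA
  refine (offM_ab_le hV hVP hA hBA).trans ?_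
  unfold offM
  apply Nat.mul_le_mul_left
  apply Subgroup.card_le_of_le
  intro x hx
  exact ⟨hx.2, Subgroup.mem_centralizer_iff.mpr (fun a ha => hA.2.1 a ha x hx.1)⟩

theorem timmesfeld_nontrivial_pg [Finite G] {p : ℕ} [Fact p.Prime]
    {V A : Subgroup G} (hV : IsElementaryAbelian p V)
    (hAV : A ≤ Subgroup.normalizer (V : Set G)) (hab : ⁅A, A⁆ ≤ Subgroup.centralizer (V : Set G))
    (O : Subgroup G) (hO : IsPGroup p O) (hVO : V ≤ O) (hAO : A ≤ O)
    (hbest : ∀ B : Subgroup G, B ≤ A → offM V B ≤ offM V A) (U : Subgroup G) (hU : U ≤ V)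
    (hVA : ⁅V, A⁆ ≠ ⊥) :
    ⁅V, A ⊓ Subgroup.centralizer ((⁅U, A⁆ : Subgroup G) : Set G)⁆ ≠ ⊥ := by
  obtain ⟨h1, h2⟩ := timmesfeld_core hV hAV hab hbest U hU
  have hVc := (isEA_iff.mp hV).1
  intro hVB
  apply hVA
  have hVC : V ≤ Subgroup.centralizer
      ((A ⊓ Subgroup.centralizer ((⁅U, A⁆ : Subgroup G) : Set G) : Subgroup G) : Set G) :=
    Subgroup.commutator_eq_bot_iff_le_centralizer.mp hVB
  have hVle : V ≤ ⁅U, A⁆ ⊔ (V ⊓ Subgroup.centralizer (A : Set G)) := by
    rw [← h2]; exact le_inf le_rfl hVC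
  have hWV : ⁅V, A⁆ ≤ V := (Subgroup.le_normalizer_iff_commutator_le_left).mp hAV
  have hUAV : ⁅U, A⁆ ≤ V := (Subgroup.commutator_mono hU le_rfl).trans hWV
  have hW : ⁅V, A⁆ ≤ ⁅⁅V, A⁆, A⁆ := by
    rw [Subgroup.commutator_le]
    intro v hv a ha
    have hn : ⁅U, A⁆ ≤ Subgroup.normalizer
        ((V ⊓ Subgroup.centralizer (A : Set G) : Subgroup G) : Set G) := by
      refine le_trans ?_ (Subgroup.centralizer_le_normalizer _)
      intro x hx
      refine Subgroup.mem_centralizer_iff.mpr ?_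
      intro y hy
      exact hVc y hy.1 x (hUAV hx)
    have hv' : v ∈ ((⁅U, A⁆ ⊔ (V ⊓ Subgroup.centralizer (A : Set G)) : Subgroup G) : Set G) :=
      hVle hv
    rw [Subgroup.coe_mul_of_left_le_normalizer_right _ _ hn] at hv'
    obtain ⟨x, hx, c, hc, rfl⟩ := hv'
    rw [commutatorElement_mul_left_eq_conj_mul]
    have hca : ⁅c, a⁆ = 1 := by
      rw [commutatorElement_eq_one_iff_mul_comm]
      exact (Subgroup.mem_centralizer_iff.mp hc.2 a ha).symm
    rw [hca, mul_one, mul_inv_cancel, one_mul]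
    exact Subgroup.commutator_mem_commutator (Subgroup.commutator_mono hU le_rfl hx) ha
  exact eq_bot_of_le_commutator_gt hO (hWV.trans hVO)
    (hW.trans (Subgroup.commutator_mono le_rfl hAO))

theorem th_quad_offender [Finite G] {p : ℕ} [Fact p.Prime] {P V A : Subgroup G}
    (hP : IsPGroup p P) (hV : IsElementaryAbelian p V) [hVn : V.Normal] (hVP : V ≤ P)
    (hA : A ∈ maxIn commP P) (hVA : ⁅V, A⁆ ≠ ⊥) :
    ∃ A₁ : Subgroup G, A₁ ≤ A ∧ A ⊓ Subgroup.centralizer (V : Set G) ≤ A₁ ∧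
      ⁅⁅V, A₁⁆, A₁⁆ = ⊥ ∧ ⁅V, A₁⁆ ≠ ⊥ ∧
      Nat.card ↥(A ⊓ Subgroup.centralizer (V : Set G)) * Nat.card V ≤
        Nat.card A₁ * Nat.card ↥(V ⊓ Subgroup.centralizer (A₁ : Set G)) := by
  have hVc := (isEA_iff.mp hV).1
  have hAV : A ≤ Subgroup.normalizer (V : Set G) := by
    rw [Subgroup.normalizer_eq_top]; exact le_top
  have hAc : ⁅A, A⁆ = ⊥ := by
    rw [Subgroup.commutator_eq_bot_iff_le_centralizer]
    intro x hx
    exact Subgroup.mem_centralizer_iff.mpr (fun y hy => hA.2.1 y hy x hx)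
  have hab : ⁅A, A⁆ ≤ Subgroup.centralizer (V : Set G) := by rw [hAc]; exact bot_le
  have hbest := maxAb_best (P := P) hVc hVP hA
  obtain ⟨h1, -⟩ := timmesfeld_core hV hAV hab hbest V le_rfl
  have hnt := timmesfeld_nontrivial_pg hV hAV hab P hP hVP hA.1 hbest V le_rfl hVA
  have hXV : ⁅V, A⁆ ≤ V := (Subgroup.le_normalizer_iff_commutator_le_left).mp hAV
  refine ⟨A ⊓ Subgroup.centralizer ((⁅V, A⁆ : Subgroup G) : Set G), inf_le_left, ?_, ?_, hnt, ?_⟩
  · refine le_inf inf_le_left ?_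
    intro x hx
    refine Subgroup.mem_centralizer_iff.mpr ?_
    intro y hy
    exact Subgroup.mem_centralizer_iff.mp hx.2 y (hXV hy)
  · rw [eq_bot_iff]
    refine (Subgroup.commutator_mono (Subgroup.commutator_mono le_rfl inf_le_left) le_rfl).trans ?_
    rw [le_bot_iff, Subgroup.commutator_eq_bot_iff_le_centralizer]
    exact Subgroup.le_centralizer_iff.mp inf_le_right
  · have h2 := hbest (A ⊓ Subgroup.centralizer (V : Set G)) inf_le_left
    rw [← h1] at h2
    unfold offM at h2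
    have h3 : V ⊓ Subgroup.centralizer
        ((A ⊓ Subgroup.centralizer (V : Set G) : Subgroup G) : Set G) = V :=
      inf_eq_left.mpr (Subgroup.le_centralizer_iff.mp inf_le_right)
    rw [h3] at h2
    exact h2

end

section

variable {p : ℕ} [Fact p.Prime] {G : Type u} [Group G] [Finite G]

/-- structure of a minimal counterexample (no parity assumption) -/
theorem th_struct (P : Sylow p G) (hO' : pPrimeCore p G = ⊥)
    (star : ∀ M : Subgroup G, (P : Subgroup G) ≤ M → M ≠ ⊤ → HasNormalPComplement p ↥M)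
    (hquot : HasNormalPComplement p (G ⧸ pCore p G)) :
    Subgroup.centralizer (pCore p G : Set G) ≤ pCore p G ∧
    ∃ K : Subgroup G, K.Normal ∧ pCore p G ≤ K ∧ (∃ a : ℕ, K.index = p ^ a) ∧
      ⁅K, K⁆ ≤ pCore p G ∧ ∃ m : ℕ, m.Coprime p ∧ ∀ k ∈ K, k ^ m ∈ pCore p G := by
  have hp : p.Prime := Fact.out
  rw [hasNormalPComplement_iff] at hquot
  obtain ⟨Kb, hKbn, hKbc, a, ha⟩ := hquot
  haveI := hKbn
  have hHp : IsPGroup p ↥(pCore p G) := pCore_isPGroup' p G
  obtain ⟨K, hKdef⟩ : ∃ K, K = Kb.comap (QuotientGroup.mk' (pCore p G)) := ⟨_, rfl⟩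
  haveI hKn : K.Normal := by rw [hKdef]; exact Subgroup.Normal.comap hKbn _
  have hKi : K.index = p ^ a := by
    rw [hKdef, Subgroup.index_comap_of_surjective Kb (QuotientGroup.mk'_surjective _)]; exact ha
  have hmemK : ∀ x : G, x ∈ K ↔ QuotientGroup.mk' (pCore p G) x ∈ Kb := by
    intro x; rw [hKdef]; exact Subgroup.mem_comap
  have hE1 : Subgroup.centralizer (pCore p G : Set G) ≤ pCore p G := by
    haveI hCn : (Subgroup.centralizer (pCore p G : Set G)).Normal := inferInstance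
    obtain ⟨X, hXdef⟩ : ∃ X, X = Subgroup.centralizer (pCore p G : Set G) ⊓ K := ⟨_, rfl⟩
    haveI hXn : X.Normal := by rw [hXdef]; infer_instance
    have hXC : X ≤ Subgroup.centralizer (pCore p G : Set G) := by rw [hXdef]; exact inf_le_left
    have hXK : X ≤ K := by rw [hXdef]; exact inf_le_right
    have hXp : IsPGroup p ↥X := by
      obtain ⟨S⟩ : Nonempty (Sylow p ↥X) := inferInstance
      have hSH : ∀ s ∈ (S : Subgroup ↥X), ((s : ↥X) : G) ∈ pCore p G := by
        intro s hs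
        have hSp : IsPGroup p ↥(((S : Subgroup ↥X).map X.subtype).map
            (QuotientGroup.mk' (pCore p G))) := (S.isPGroup'.map _).map _
        have hbot := inf_eq_bot_of_coprime' hSp hKbc
        have h1 : QuotientGroup.mk' (pCore p G) ((s : ↥X) : G) ∈
            ((S : Subgroup ↥X).map X.subtype).map (QuotientGroup.mk' (pCore p G)) ⊓ Kb :=
          ⟨⟨_, ⟨s, hs, rfl⟩, rfl⟩, (hmemK _).mp (hXK s.2)⟩
        rw [hbot, Subgroup.mem_bot] at h1
        exact (QuotientGroup.eq_one_iff _).mp h1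
      have hcen : (S : Subgroup ↥X) ≤ Subgroup.center ↥X := by
        intro s hs
        rw [Subgroup.mem_center_iff]
        intro x
        apply Subtype.ext
        show (x : G) * (s : G) = (s : G) * (x : G)
        exact (Subgroup.mem_centralizer_iff.mp (hXC x.2) _ (hSH s hs)).symm
      obtain ⟨Y₀, hY₀n, hY₀compl⟩ := exists_normal_complement_of_central_sylow S hcen
      have hpnX : HasNormalPComplement p ↥X := ⟨S, Y₀, hY₀n, hY₀compl⟩
      rw [hasNormalPComplement_iff] at hpnX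
      obtain ⟨Y, hYn, hYc, b, hb⟩ := hpnX
      haveI := hYn
      have hYGn : (Y.map X.subtype).Normal := by
        constructor
        rintro _ ⟨y, hy, rfl⟩ g
        have hyX : g * (y : G) * g⁻¹ ∈ X := hXn.conj_mem _ y.2 g
        refine ⟨⟨g * (y : G) * g⁻¹, hyX⟩, ?_, rfl⟩
        apply mem_of_index_pow_of_coprime_orderOf Y hb
        have h1 : (orderOf (y : ↥X)).Coprime p :=
          coprime_orderOf_of_mem_of_coprime_card Y hYc y hy
        have h2 : orderOf (⟨g * (y : G) * g⁻¹, hyX⟩ : ↥X) = orderOf (y : ↥X) := by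
          rw [← Subgroup.orderOf_coe, ← Subgroup.orderOf_coe]
          exact (MulAut.conj g).orderOf_eq (y : G)
        rw [h2]; exact h1
      have hYGc : (Nat.card ↥(Y.map X.subtype)).Coprime p := by
        rw [Subgroup.card_map_of_injective (Subgroup.subtype_injective _)]; exact hYc
      have hYbot : Y.map X.subtype = ⊥ := le_bot_iff.mp (hO' ▸ le_pPrimeCore' hYGn hYGc)
      have hY0 : Y = ⊥ :=
        (Subgroup.map_eq_bot_iff_of_injective _ (Subgroup.subtype_injective _)).mp hYbot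
      rw [hY0, Subgroup.index_bot] at hb
      exact IsPGroup.of_card hb
    have hCp : IsPGroup p ↥(Subgroup.centralizer (pCore p G : Set G)) := by
      rintro ⟨c, hc⟩
      have h1 : c ^ (p ^ a) ∈ K := by
        rw [← hKi]; exact Subgroup.pow_index_mem K c
      have h2 : c ^ (p ^ a) ∈ X := by rw [hXdef]; exact ⟨Subgroup.pow_mem _ hc _, h1⟩
      obtain ⟨j, hj⟩ := hXp ⟨_, h2⟩
      refine ⟨a + j, Subtype.ext ?_⟩
      show c ^ (p ^ (a + j)) = 1
      rw [pow_add, pow_mul]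
      exact congrArg Subtype.val hj
    exact le_pCore' hCn hCp
  have hPbp : IsPGroup p ↥((P : Subgroup G).map (QuotientGroup.mk' (pCore p G))) :=
    P.isPGroup'.map _
  have hE2 : ∀ Qb : Subgroup (G ⧸ pCore p G), Qb ≤ Kb →
      (P : Subgroup G).map (QuotientGroup.mk' (pCore p G)) ≤
        Subgroup.normalizer (Qb : Set (G ⧸ pCore p G)) →
      Qb = ⊥ ∨ Qb = Kb := by
    intro Qb hQK hPQ
    obtain ⟨M, hMdef⟩ : ∃ M, M = (Qb ⊔ (P : Subgroup G).map
        (QuotientGroup.mk' (pCore p G))).comap (QuotientGroup.mk' (pCore p G)) := ⟨_, rfl⟩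
    have hmemM : ∀ x : G, x ∈ M ↔ QuotientGroup.mk' (pCore p G) x ∈
        Qb ⊔ (P : Subgroup G).map (QuotientGroup.mk' (pCore p G)) := by
      intro x; rw [hMdef]; exact Subgroup.mem_comap
    have hPM : (P : Subgroup G) ≤ M := by
      intro x hx
      rw [hmemM]
      exact Subgroup.mem_sup_right (Subgroup.mem_map_of_mem _ hx)
    have hHM : pCore p G ≤ M := by
      intro h hh
      have h1 : QuotientGroup.mk' (pCore p G) h = 1 := (QuotientGroup.eq_one_iff h).mpr hh
      rw [hmemM, h1]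
      exact Subgroup.one_mem _
    by_cases hM : M = ⊤
    · right
      have htop : Qb ⊔ (P : Subgroup G).map (QuotientGroup.mk' (pCore p G)) = ⊤ := by
        rw [eq_top_iff]
        intro y _
        obtain ⟨g, rfl⟩ := QuotientGroup.mk'_surjective (pCore p G) y
        exact (hmemM g).mp (hM ▸ Subgroup.mem_top g)
      haveI hQn : Qb.Normal := by
        rw [← Subgroup.normalizer_eq_top_iff, eq_top_iff, ← htop]
        exact sup_le Subgroup.le_normalizer hPQ
      apply le_antisymm hQK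
      intro k hk
      have hk' : k ∈ Qb ⊔ (P : Subgroup G).map (QuotientGroup.mk' (pCore p G)) :=
        htop ▸ Subgroup.mem_top k
      obtain ⟨q, hq, s, hs, rfl⟩ := Subgroup.mem_sup_of_normal_left.mp hk'
      have hsK : s ∈ Kb := by
        have h1 : s = q⁻¹ * (q * s) := by group
        rw [h1]
        exact Kb.mul_mem (Kb.inv_mem (hQK hq)) hk
      have hbot := inf_eq_bot_of_coprime' hPbp hKbc
      have hs1 : s ∈ (P : Subgroup G).map (QuotientGroup.mk' (pCore p G)) ⊓ Kb := ⟨hs, hsK⟩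
      rw [hbot, Subgroup.mem_bot] at hs1
      rw [hs1, mul_one]; exact hq
    · left
      have hMpn := star M hPM hM
      have hMp : IsPGroup p ↥M := pn_isPGroup_of_centralizer_le M (pCore p G) hHM hHp hE1 hMpn
      have hQbp : IsPGroup p ↥Qb := by
        apply (hMp.map (QuotientGroup.mk' (pCore p G))).to_le
        intro q hq
        obtain ⟨g, rfl⟩ := QuotientGroup.mk'_surjective (pCore p G) q
        exact ⟨g, (hmemM g).mpr (Subgroup.mem_sup_left hq), rfl⟩
      have hbot := inf_eq_bot_of_coprime' hQbp hKbc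
      exact le_bot_iff.mp ((le_inf le_rfl hQK).trans (le_of_eq hbot))
  have hKbab : ⁅Kb, Kb⁆ = ⊥ := by
    by_cases hKb : Kb = ⊥
    · rw [hKb]; exact Subgroup.commutator_bot_left ⊥
    · have hcne : Nat.card ↥Kb ≠ 1 := fun h => hKb (Subgroup.eq_bot_of_card_eq _ h)
      obtain ⟨q, hq, hqdvd⟩ := Nat.exists_prime_and_dvd hcne
      haveI : Fact q.Prime := ⟨hq⟩
      obtain ⟨Q, hQ⟩ := Cfsg.Agent.Lib.Helper8.h8_exists_invariant_sylow Kb hKbc
        ((P : Subgroup G).map (QuotientGroup.mk' (pCore p G))) hPbp q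
      rcases hE2 _ (Subgroup.map_subtype_le _) hQ with h | h
      · exfalso
        have h1 : (Q : Subgroup ↥Kb) = ⊥ :=
          (Subgroup.map_eq_bot_iff_of_injective _ (Subgroup.subtype_injective _)).mp h
        exact Q.ne_bot_of_dvd_card hqdvd h1
      · have hKbq : IsPGroup q ↥Kb := by
          have h1 : IsPGroup q ↥((Q : Subgroup ↥Kb).map Kb.subtype) := Q.isPGroup'.map _
          rw [h] at h1; exact h1
        have hlt : ⁅Kb, Kb⁆ < Kb := commutator_lt_of_isPGroup hKbq hKb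
        have hnorm : (P : Subgroup G).map (QuotientGroup.mk' (pCore p G)) ≤
            Subgroup.normalizer ((⁅Kb, Kb⁆ : Subgroup (G ⧸ pCore p G)) : Set (G ⧸ pCore p G)) :=
          le_normalizer_of_normal _ _
        rcases hE2 _ hlt.le hnorm with h2 | h2
        · exact h2
        · exact absurd h2 hlt.ne
  have hKK : ⁅K, K⁆ ≤ pCore p G := by
    have h1 : K.map (QuotientGroup.mk' (pCore p G)) = Kb := by
      rw [hKdef]; exact Subgroup.map_comap_eq_self_of_surjective (QuotientGroup.mk'_surjective _) Kb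
    have h2 : (⁅K, K⁆).map (QuotientGroup.mk' (pCore p G)) = ⊥ := by
      rw [Subgroup.map_commutator, h1, hKbab]
    have h3 := (Subgroup.map_eq_bot_iff _).mp h2
    rwa [QuotientGroup.ker_mk'] at h3
  have hKm : ∀ k ∈ K, k ^ Nat.card ↥Kb ∈ pCore p G := by
    intro k hk
    have h1 : (⟨QuotientGroup.mk' (pCore p G) k, (hmemK k).mp hk⟩ : ↥Kb) ^ Nat.card ↥Kb = 1 :=
      pow_card_eq_one'
    have h2 : (QuotientGroup.mk' (pCore p G) k) ^ Nat.card ↥Kb = 1 := congrArg Subtype.val h1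
    rw [← map_pow] at h2
    exact (QuotientGroup.eq_one_iff _).mp h2
  have hHK : pCore p G ≤ K := by
    intro h hh
    have h1 : QuotientGroup.mk' (pCore p G) h = 1 := (QuotientGroup.eq_one_iff h).mpr hh
    rw [hmemK, h1]
    exact Subgroup.one_mem _
  exact ⟨hE1, K, hKn, hHK, ⟨a, hKi⟩, hKK, Nat.card ↥Kb, hKbc, hKm⟩


/-- the common part of the final step of the Thompson argument for `J_a`: in a minimal
counterexample there is a quadratic offender `B` on `V₁` not inside `O_p(G)` -/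
theorem th_final_common (P : Sylow p G) (hO' : pPrimeCore p G = ⊥)
    (star : ∀ M : Subgroup G, (P : Subgroup G) ≤ M → M ≠ ⊤ → HasNormalPComplement p ↥M)
    (hquot : HasNormalPComplement p (G ⧸ pCore p G))
    (hN : HasNormalPComplement p
      ↥(Subgroup.normalizer (thompsonSubgroupAOf (P : Subgroup G) : Set G)))
    (hC : HasNormalPComplement p ↥(Subgroup.centralizer
      (((P : Subgroup G) ⊓ Subgroup.centralizer ((P : Subgroup G) : Set G) : Subgroup G) :
        Set G)))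
    (hnp : ¬ HasNormalPComplement p G) :
    ∃ V₁ K B : Subgroup G, V₁.Normal ∧ IsElementaryAbelian p V₁ ∧ V₁ ≤ pCore p G ∧
      pCore p G ≤ Subgroup.centralizer (V₁ : Set G) ∧
      Subgroup.centralizer (V₁ : Set G) ≤ pCore p G ∧
      K.Normal ∧ pCore p G ≤ K ∧ (∃ a : ℕ, K.index = p ^ a) ∧ ⁅K, K⁆ ≤ pCore p G ∧
      (∃ m : ℕ, m.Coprime p ∧ ∀ k ∈ K, k ^ m ∈ pCore p G) ∧
      pCore p G ≤ B ∧ B ≤ (P : Subgroup G) ∧ ¬ B ≤ pCore p G ∧
      (∀ v ∈ V₁, ∀ b ∈ B, ∀ b' ∈ B,
        b' * (b * v * b⁻¹ * v⁻¹) * b'⁻¹ = b * v * b⁻¹ * v⁻¹) ∧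
      Nat.card V₁ * Nat.card ↥(pCore p G) ≤
        Nat.card B * Nat.card ↥(V₁ ⊓ Subgroup.centralizer (B : Set G)) := by
  obtain ⟨hE1, K, hKn, hHK, hKi, hKK, hKm⟩ := th_struct P hO' star hquot
  have hHp : IsPGroup p ↥(pCore p G) := pCore_isPGroup' p G
  have hHP : pCore p G ≤ (P : Subgroup G) := hHp.le_sylow_of_normal P
  haveI hHn : (pCore p G).Normal := pCore_normal' p G
  obtain ⟨V₁, hV₁n, hV₁EA, hV₁H, hHC₁, hC₁H⟩ := th_V1 G P hE1 hC
  haveI := hV₁n
  have hV₁P : V₁ ≤ (P : Subgroup G) := hV₁H.trans hHP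
  have hbot : commP (⊥ : Subgroup G) := by
    intro x hx y hy; rw [Subgroup.mem_bot] at hx hy; rw [hx, hy]
  have hex : ∃ A ∈ maxIn commP (P : Subgroup G), ¬ A ≤ pCore p G := by
    by_contra hcon
    push Not at hcon
    apply hnp
    have hmax : maxIn commP (pCore p G) = maxIn commP (P : Subgroup G) :=
      maxIn_mono hbot hHP hcon
    have hJ : thompsonSubgroupAOf (P : Subgroup G) = thompsonSubgroupAOf (pCore p G) := by
      rw [thompsonSubgroupAOf_eq_sSup, thompsonSubgroupAOf_eq_sSup, hmax]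
    have hJn : (thompsonSubgroupAOf (P : Subgroup G)).Normal := by
      rw [hJ]; exact (cfJa.{u} p).normal_of_normal (pCore p G)
    exact pn_of_eq_top _ (Subgroup.normalizer_eq_top_iff.mpr hJn) hN
  obtain ⟨A, hA, hAH⟩ := hex
  have hVA : ⁅V₁, A⁆ ≠ ⊥ := by
    intro h
    apply hAH
    exact (Subgroup.le_centralizer_iff.mp
      (Subgroup.commutator_eq_bot_iff_le_centralizer.mp h)).trans hC₁H
  obtain ⟨A₁, hA₁A, hAC, hquad, hnt, hoff⟩ :=
    th_quad_offender P.isPGroup' hV₁EA hV₁P hA hVA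
  have hA₁P : A₁ ≤ (P : Subgroup G) := hA₁A.trans hA.1
  have hCeq : Subgroup.centralizer (V₁ : Set G) = pCore p G := le_antisymm hC₁H hHC₁
  rw [hCeq] at hAC hoff
  have hV₁2 : ⁅V₁, A₁⁆ ≤ V₁ := Subgroup.commutator_le_left V₁ A₁
  refine ⟨V₁, K, A₁ ⊔ pCore p G, hV₁n, hV₁EA, hV₁H, hHC₁, hC₁H, hKn, hHK, hKi, hKK, hKm,
    le_sup_right, sup_le hA₁P hHP, ?_, ?_, ?_⟩
  · intro h
    apply hnt
    rw [Subgroup.commutator_eq_bot_iff_le_centralizer]
    exact Subgroup.le_centralizer_iff.mp ((le_sup_left.trans h).trans hHC₁)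
  · intro v hv b hb b' hb'
    obtain ⟨a, ha, h, hh, rfl⟩ := Subgroup.mem_sup_of_normal_right.mp hb
    obtain ⟨a', ha', h', hh', rfl⟩ := Subgroup.mem_sup_of_normal_right.mp hb'
    have hhv : h * v * h⁻¹ = v := by
      have h0 := Subgroup.mem_centralizer_iff.mp (hHC₁ hh) v hv
      rw [← h0, mul_inv_cancel_right]
    have e1 : (a * h) * v * (a * h)⁻¹ * v⁻¹ = a * v * a⁻¹ * v⁻¹ := by
      have h0 : (a * h) * v * (a * h)⁻¹ = a * (h * v * h⁻¹) * a⁻¹ := by group
      rw [h0, hhv]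
    rw [e1]
    have hc : a * v * a⁻¹ * v⁻¹ ∈ ⁅V₁, A₁⁆ := by
      have h0 : ⁅v, a⁆ ∈ ⁅V₁, A₁⁆ := Subgroup.commutator_mem_commutator hv ha
      have h1 : a * v * a⁻¹ * v⁻¹ = ⁅v, a⁆⁻¹ := by rw [commutatorElement_def]; group
      rw [h1]; exact Subgroup.inv_mem _ h0
    have hcV : a * v * a⁻¹ * v⁻¹ ∈ V₁ := hV₁2 hc
    have hh'c : h' * (a * v * a⁻¹ * v⁻¹) * h'⁻¹ = a * v * a⁻¹ * v⁻¹ := by
      have h0 := Subgroup.mem_centralizer_iff.mp (hHC₁ hh') _ hcV
      rw [← h0, mul_inv_cancel_right]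
    have ha'c : a' * (a * v * a⁻¹ * v⁻¹) * a'⁻¹ = a * v * a⁻¹ * v⁻¹ := by
      have h0 : ⁅a * v * a⁻¹ * v⁻¹, a'⁆ ∈ ⁅⁅V₁, A₁⁆, A₁⁆ :=
        Subgroup.commutator_mem_commutator hc ha'
      rw [hquad, Subgroup.mem_bot, commutatorElement_eq_one_iff_mul_comm] at h0
      rw [← h0, mul_inv_cancel_right]
    calc (a' * h') * (a * v * a⁻¹ * v⁻¹) * (a' * h')⁻¹
        = a' * (h' * (a * v * a⁻¹ * v⁻¹) * h'⁻¹) * a'⁻¹ := by group
      _ = a * v * a⁻¹ * v⁻¹ := by rw [hh'c, ha'c]
  · have h1 := card_sup_mul_card_inf A₁ (pCore p G) (le_normalizer_of_normal _ _)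
    have h2 : A₁ ⊓ pCore p G = A ⊓ pCore p G :=
      le_antisymm (inf_le_inf_right _ hA₁A) (le_inf hAC inf_le_right)
    have h3 : V₁ ⊓ Subgroup.centralizer ((A₁ ⊔ pCore p G : Subgroup G) : Set G) =
        V₁ ⊓ Subgroup.centralizer (A₁ : Set G) := by
      apply le_antisymm
      · exact inf_le_inf_left _
          (Subgroup.centralizer_le (SetLike.coe_subset_coe.mpr le_sup_left))
      · intro x hx
        refine ⟨hx.1, ?_⟩
        have h4 : A₁ ⊔ pCore p G ≤ Subgroup.centralizer (Subgroup.zpowers x : Set G) := by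
          apply sup_le
          · exact Subgroup.le_centralizer_iff.mp (Subgroup.zpowers_le.mpr hx.2)
          · exact Subgroup.le_centralizer_iff.mp
              (Subgroup.zpowers_le.mpr (Subgroup.le_centralizer_iff.mp hHC₁ hx.1))
        exact Subgroup.le_centralizer_iff.mp h4 (Subgroup.mem_zpowers x)
    rw [h3]
    have hx : 0 < Nat.card ↥(A₁ ⊓ pCore p G) := Nat.card_pos
    rw [← h2] at hoff
    apply Nat.le_of_mul_le_mul_left _ hx
    calc Nat.card ↥(A₁ ⊓ pCore p G) * (Nat.card V₁ * Nat.card ↥(pCore p G))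
        = (Nat.card ↥(A₁ ⊓ pCore p G) * Nat.card V₁) * Nat.card ↥(pCore p G) := by ring
      _ ≤ (Nat.card A₁ * Nat.card ↥(V₁ ⊓ Subgroup.centralizer (A₁ : Set G))) *
            Nat.card ↥(pCore p G) := Nat.mul_le_mul_right _ hoff
      _ = (Nat.card A₁ * Nat.card ↥(pCore p G)) *
            Nat.card ↥(V₁ ⊓ Subgroup.centralizer (A₁ : Set G)) := by ring
      _ = (Nat.card ↥(A₁ ⊔ pCore p G) * Nat.card ↥(A₁ ⊓ pCore p G)) *
            Nat.card ↥(V₁ ⊓ Subgroup.centralizer (A₁ : Set G)) := by rw [h1]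
      _ = Nat.card ↥(A₁ ⊓ pCore p G) * (Nat.card ↥(A₁ ⊔ pCore p G) *
            Nat.card ↥(V₁ ⊓ Subgroup.centralizer (A₁ : Set G))) := by ring

/-- the final step of Thompson's normal `p`-complement theorem for `J_a`, `p` odd -/
theorem th_final_Ja_odd (hp2 : p ≠ 2) (P : Sylow p G) (hO' : pPrimeCore p G = ⊥)
    (star : ∀ M : Subgroup G, (P : Subgroup G) ≤ M → M ≠ ⊤ → HasNormalPComplement p ↥M)
    (hquot : HasNormalPComplement p (G ⧸ pCore p G))
    (hN : HasNormalPComplement p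
      ↥(Subgroup.normalizer (thompsonSubgroupAOf (P : Subgroup G) : Set G)))
    (hC : HasNormalPComplement p ↥(Subgroup.centralizer
      (((P : Subgroup G) ⊓ Subgroup.centralizer ((P : Subgroup G) : Set G) : Subgroup G) :
        Set G))) :
    HasNormalPComplement p G := by
  by_contra hnp
  obtain ⟨V₁, K, B, hV₁n, hV₁EA, hV₁H, hHC₁, hC₁H, hKn, hHK, ⟨a, hKi⟩, hKK, ⟨m, hm, hKm⟩,
    hHB, hBP, hBH, hquad, -⟩ := th_final_common P hO' star hquot hN hC hnp
  haveI := hV₁n
  haveI := hKn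
  have hHp : IsPGroup p ↥(pCore p G) := pCore_isPGroup' p G
  have hst := pstable_of_structure hp2 K hKK hm hKm hKi V₁ (hHp.to_le hV₁H)
  have hLp : IsPGroup p ↥(stabL p V₁) := by
    apply (pCore_isPGroup' p _).comap_of_ker_isPGroup
    rw [QuotientGroup.ker_mk']
    exact hHp.to_le hC₁H
  have hLH : stabL p V₁ ≤ pCore p G := le_pCore' (stabL_normal p V₁) hLp
  apply hBH
  intro b hb
  apply hLH
  apply mem_stabL_of_quad hst
  have key : ⁅V₁, Subgroup.zpowers b⁆ ≤ Subgroup.centralizer (B : Set G) := by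
    rw [Subgroup.commutator_le]
    intro v hv g hg
    have hgB : g ∈ B := (Subgroup.zpowers_le.mpr hb) hg
    refine Subgroup.mem_centralizer_iff.mpr ?_
    intro y hy
    have h1 := hquad v hv g hgB y hy
    have h2 : ⁅v, g⁆ = (g * v * g⁻¹ * v⁻¹)⁻¹ := by rw [commutatorElement_def]; group
    rw [h2]
    have hc : Commute y (g * v * g⁻¹ * v⁻¹) := mul_inv_eq_iff_eq_mul.mp h1
    exact hc.inv_right.eq
  rw [eq_bot_iff, Subgroup.commutator_le]
  intro c hc y hy
  rw [Subgroup.mem_bot, commutatorElement_eq_one_iff_mul_comm]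
  exact (Subgroup.mem_centralizer_iff.mp (key hc) y ((Subgroup.zpowers_le.mpr hb) hy)).symm

end

end Cfsg.Agent.Lib.Helper3
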