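import Cfsg.Agent.Lib.Helper9.FrobThm
import Cfsg.Agent.Lib.Helper3.ZJ

/-! An isolated `p`-element which centralizes every `p'`-subgroup it normalizes is central.
A minimal counterexample `G` is generated by `x` and any conjugate `≠ x`; then `C_G(x)/Z(G)` is a
Frobenius complement in `G/Z(G)`, and Frobenius' theorem gives a contradiction. -/

set_option autoImplicit false
set_option linter.style.haveILetI false

namespace Cfsg.Agent.Lib.Helper3

open Cfsg

universe u

section IsoCentral

theorem isoCentral_isPGroup_zpowers_of_pow {G : Type*} [Group G] {p : ℕ} {x : G} {j : ℕ}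
    (hx : x ^ (p ^ j) = 1) : IsPGroup p (Subgroup.zpowers x) := by
  rintro ⟨y, hy⟩
  obtain ⟨n, rfl⟩ := Subgroup.mem_zpowers_iff.mp hy
  refine ⟨j, Subtype.ext ?_⟩
  show (x ^ n) ^ (p ^ j) = 1
  rw [← zpow_natCast, ← zpow_mul, mul_comm, zpow_mul, zpow_natCast, hx, one_zpow]

/-- two conjugates of an isolated element lying in a common `p`-subgroup are equal -/
theorem iso_eq_of_pgroup {G : Type*} [Group G] [Finite G] {p : ℕ} [Fact p.Prime]
    (S : Sylow p G) (x : G) (hU : ∀ g : G, g⁻¹ * x * g ∈ S → g⁻¹ * x * g = x)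
    (D : Subgroup G) (hD : IsPGroup p D) (hxD : x ∈ D) (g : G) (hy : g⁻¹ * x * g ∈ D) :
    g⁻¹ * x * g = x := by
  obtain ⟨S₁, hS₁⟩ := hD.exists_le_sylow
  obtain ⟨k, hk⟩ := MulAction.exists_smul_eq G S S₁
  have hmem : ∀ d ∈ D, k⁻¹ * d * k ∈ S := by
    intro d hd
    have h1 : d ∈ ((k • S : Sylow p G) : Subgroup G) := by rw [hk]; exact hS₁ hd
    exact mem_sylow_smul_iff.mp h1
  have h1 := hU k (hmem x hxD)
  have h2 : (g * k)⁻¹ * x * (g * k) ∈ S := by
    have h3 := hmem _ hy
    have h4 : (g * k)⁻¹ * x * (g * k) = k⁻¹ * (g⁻¹ * x * g) * k := by group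
    rw [h4]; exact h3
  have h3 := hU (g * k) h2
  calc g⁻¹ * x * g = k * ((g * k)⁻¹ * x * (g * k)) * k⁻¹ := by group
    _ = k * (k⁻¹ * x * k) * k⁻¹ := by rw [h3, h1]
    _ = x := by group

theorem iso_central_aux {p : ℕ} [Fact p.Prime] : ∀ n : ℕ, ∀ (G : Type u) [Group G] [Finite G],
    Nat.card G = n → ∀ (S : Sylow p G) (x : G), x ∈ S →
    (∀ g : G, g⁻¹ * x * g ∈ S → g⁻¹ * x * g = x) →
    (∀ H : Subgroup G, (Nat.card H).Coprime p → (∀ h ∈ H, x * h * x⁻¹ ∈ H) →
      ∀ h ∈ H, x * h = h * x) → x ∈ Subgroup.center G := by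
  intro n
  induction n using Nat.strong_induction_on with
  | _ n ih =>
    intro G _ _ hcard S x hx hU hb
    have hp : p.Prime := Fact.out
    by_contra hxZ
    obtain ⟨M, hMdef⟩ : ∃ M, M = Subgroup.centralizer ({x} : Set G) := ⟨_, rfl⟩
    have hmemM : ∀ g : G, g ∈ M ↔ g * x = x * g := by
      intro g; rw [hMdef]; exact Subgroup.mem_centralizer_singleton_iff
    have hxM : x ∈ M := (hmemM x).mpr rfl
    obtain ⟨j, hj⟩ := S.isPGroup' ⟨x, hx⟩
    have hxj : x ^ (p ^ j) = 1 := congrArg Subtype.val hj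
    -- Step 1: proper subgroups containing `x` centralize `x`
    have hprop : ∀ H : Subgroup G, H ≠ ⊤ → x ∈ H → H ≤ M := by
      intro H hH hxH
      have hlt : Nat.card ↥H < n := by
        rw [← hcard, ← Subgroup.card_top (G := G)]
        exact card_lt_of_lt (lt_top_iff_ne_top.mpr hH)
      obtain ⟨x', hx'⟩ : ∃ x' : ↥H, (x' : G) = x := ⟨⟨x, hxH⟩, rfl⟩
      have hx'j : x' ^ (p ^ j) = 1 := by
        apply Subtype.ext
        rw [Subgroup.coe_pow, hx', hxj]; rfl
      obtain ⟨T, hT⟩ := (isoCentral_isPGroup_zpowers_of_pow hx'j).exists_le_sylow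
      have hx'T : x' ∈ (T : Subgroup ↥H) := hT (Subgroup.mem_zpowers x')
      obtain ⟨D, hDdef⟩ : ∃ D, D = (T : Subgroup ↥H).map H.subtype := ⟨_, rfl⟩
      have hD : IsPGroup p D := by rw [hDdef]; exact T.isPGroup'.map _
      have hxD : x ∈ D := by rw [hDdef]; exact ⟨x', hx'T, hx'⟩
      have hU' : ∀ h : ↥H, h⁻¹ * x' * h ∈ T → h⁻¹ * x' * h = x' := by
        intro h hh
        have h1 : (h : G)⁻¹ * x * (h : G) ∈ D := by
          rw [hDdef]; exact ⟨h⁻¹ * x' * h, hh, by rw [← hx']; rfl⟩
        have h2 := iso_eq_of_pgroup S x hU D hD hxD (h : G) h1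
        apply Subtype.ext
        rw [Subgroup.coe_mul, Subgroup.coe_mul, Subgroup.coe_inv, hx']
        exact h2
      have hb' : ∀ H' : Subgroup ↥H, (Nat.card H').Coprime p →
          (∀ h ∈ H', x' * h * x'⁻¹ ∈ H') → ∀ h ∈ H', x' * h = h * x' := by
        intro H' hc hn h hh
        have hc' : (Nat.card (H'.map H.subtype)).Coprime p := by
          rw [Subgroup.card_map_of_injective H.subtype_injective]; exact hc
        have hn' : ∀ h₁ ∈ H'.map H.subtype, x * h₁ * x⁻¹ ∈ H'.map H.subtype := by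
          rintro _ ⟨h₁, hh₁, rfl⟩
          exact ⟨x' * h₁ * x'⁻¹, hn h₁ hh₁, by rw [← hx']; rfl⟩
        have h1 := hb (H'.map H.subtype) hc' hn' (h : G) ⟨h, hh, rfl⟩
        apply Subtype.ext
        rw [Subgroup.coe_mul, Subgroup.coe_mul, hx']
        exact h1
      have hcen := ih (Nat.card ↥H) hlt ↥H rfl T x' hx'T hU' hb'
      intro h hh
      rw [hmemM]
      have h1 := Subgroup.mem_center_iff.mp hcen ⟨h, hh⟩
      have h2 := congrArg Subtype.val h1
      rw [Subgroup.coe_mul, Subgroup.coe_mul, hx'] at h2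
      exact h2
    -- Step 2: `x` and a conjugate different from `x` generate `G`
    have hgen : ∀ g : G, g ∉ M → ∀ H : Subgroup G, x ∈ H → g⁻¹ * x * g ∈ H → H = ⊤ := by
      intro g hg H hxH hyH
      by_contra hH
      have hHM := hprop H hH hxH
      have hy : g⁻¹ * x * g ∈ M := hHM hyH
      obtain ⟨y, hydef⟩ : ∃ y, y = g⁻¹ * x * g := ⟨_, rfl⟩
      rw [← hydef] at hy
      have hpow : ∀ n : ℕ, y ^ n = g⁻¹ * x ^ n * g := by
        intro n
        induction n with
        | zero => simp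
        | succ n ihn => rw [pow_succ, ihn, hydef, pow_succ]; group
      have hyj : y ^ (p ^ j) = 1 := by rw [hpow, hxj]; group
      have hcomm : y * x = x * y := (hmemM y).mp hy
      have hD : IsPGroup p (Subgroup.zpowers x ⊔ Subgroup.zpowers y : Subgroup G) := by
        apply IsPGroup.to_sup_of_normal_right' (isoCentral_isPGroup_zpowers_of_pow hxj)
          (isoCentral_isPGroup_zpowers_of_pow hyj)
        rw [Subgroup.zpowers_le]
        apply fin_mem_normalizer
        intro z hz
        obtain ⟨k, rfl⟩ := Subgroup.mem_zpowers_iff.mp hz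
        have hc : Commute (y ^ k) x := (show Commute y x from hcomm).zpow_left k
        have : x * y ^ k * x⁻¹ = y ^ k := by rw [← hc.eq]; group
        rw [this]; exact hz
      have h1 := iso_eq_of_pgroup S x hU _ hD (Subgroup.mem_sup_left (Subgroup.mem_zpowers x)) g
        (by rw [← hydef]; exact Subgroup.mem_sup_right (Subgroup.mem_zpowers y))
      apply hg
      rw [hmemM]
      calc g * x = g * (g⁻¹ * x * g) := by rw [h1]
        _ = x * g := by group
    -- `S ≤ M`
    have hSM : (S : Subgroup G) ≤ M := by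
      intro s hs
      rw [hmemM]
      have h1 : s⁻¹ * x * s ∈ S :=
        (S : Subgroup G).mul_mem ((S : Subgroup G).mul_mem ((S : Subgroup G).inv_mem hs) hx) hs
      have h2 := hU s h1
      calc s * x = s * (s⁻¹ * x * s) := by rw [h2]
        _ = x * s := by group
    have hMtop : M ≠ ⊤ := by
      intro h
      apply hxZ
      rw [Subgroup.mem_center_iff]
      intro g
      exact (hmemM g).mp (h ▸ Subgroup.mem_top g)
    -- the quotient by the center
    obtain ⟨Z, hZdef⟩ : ∃ Z, Z = Subgroup.center G := ⟨_, rfl⟩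
    haveI hZn : Z.Normal := by rw [hZdef]; infer_instance
    have hZM : Z ≤ M := by
      intro z hz
      rw [hZdef, Subgroup.mem_center_iff] at hz
      rw [hmemM]
      exact (hz x).symm
    obtain ⟨π, hπ⟩ : ∃ π : G →* G ⧸ Z, π = QuotientGroup.mk' Z := ⟨_, rfl⟩
    have hπs : Function.Surjective π := by rw [hπ]; exact QuotientGroup.mk'_surjective Z
    have hker : π.ker = Z := by rw [hπ]; exact QuotientGroup.ker_mk' Z
    have hcomapM : ∀ g : G, π g ∈ M.map π → g ∈ M := by
      rintro g ⟨m, hm, hmg⟩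
      have h1 : m⁻¹ * g ∈ Z :=
        hker.le (by rw [MonoidHom.mem_ker, map_mul, map_inv, hmg, inv_mul_cancel])
      have h2 : g = m * (m⁻¹ * g) := by group
      rw [h2]; exact M.mul_mem hm (hZM h1)
    have hFrob : IsFrobeniusComplement (M.map π) := by
      refine ⟨?_, ?_, ?_⟩
      · intro h
        have h1 := (Subgroup.map_eq_bot_iff _).mp h
        rw [hker] at h1
        have h2 := h1 hxM
        rw [hZdef] at h2
        exact hxZ h2
      · intro h
        apply hMtop
        rw [eq_top_iff]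
        intro g _
        exact hcomapM g (h ▸ Subgroup.mem_top (π g))
      · intro gb hgb
        obtain ⟨g, rfl⟩ := hπs gb
        have hgM : g ∉ M := fun h => hgb (Subgroup.mem_map_of_mem π h)
        rw [eq_bot_iff]
        rintro _ ⟨⟨m, hm, rfl⟩, h2⟩
        rw [Subgroup.mem_bot]
        obtain ⟨_, ⟨m', hm', rfl⟩, h3⟩ := (Subgroup.mem_smul_pointwise_iff_exists _ _ _).mp h2
        have h4 : π (g * m' * g⁻¹) = π m := by
          rw [map_mul, map_mul, map_inv]; exact h3
        have h5 : (g * m' * g⁻¹)⁻¹ * m ∈ Z :=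
          hker.le (by rw [MonoidHom.mem_ker, map_mul, map_inv, h4, inv_mul_cancel])
        obtain ⟨z, hz⟩ : ∃ z, z = (g * m' * g⁻¹)⁻¹ * m := ⟨_, rfl⟩
        rw [← hz] at h5
        have hd : g * m' * g⁻¹ = m * z⁻¹ := by rw [hz]; group
        have hdM : g * m' * g⁻¹ ∈ M := by rw [hd]; exact M.mul_mem hm (M.inv_mem (hZM h5))
        have hxc : x ∈ Subgroup.centralizer ({g * m' * g⁻¹} : Set G) := by
          rw [Subgroup.mem_centralizer_singleton_iff]
          exact ((hmemM _).mp hdM).symm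
        have hyc : g⁻¹⁻¹ * x * g⁻¹ ∈ Subgroup.centralizer ({g * m' * g⁻¹} : Set G) := by
          rw [Subgroup.mem_centralizer_singleton_iff, inv_inv]
          have hm'x := (hmemM m').mp hm'
          calc g * x * g⁻¹ * (g * m' * g⁻¹) = g * (x * m') * g⁻¹ := by group
            _ = g * (m' * x) * g⁻¹ := by rw [hm'x]
            _ = g * m' * g⁻¹ * (g * x * g⁻¹) := by group
        have htop := hgen g⁻¹ (fun h => hgM (by simpa using M.inv_mem h))
          (Subgroup.centralizer ({g * m' * g⁻¹} : Set G)) hxc hyc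
        have hdZ : g * m' * g⁻¹ ∈ Z := by
          rw [hZdef, Subgroup.mem_center_iff]
          intro k
          have : k ∈ Subgroup.centralizer ({g * m' * g⁻¹} : Set G) := htop ▸ Subgroup.mem_top k
          exact Subgroup.mem_centralizer_singleton_iff.mp this
        rw [← h4]
        exact MonoidHom.mem_ker.mp (hker.ge hdZ)
    -- Frobenius' theorem
    obtain ⟨Nb, -, hNbn, hNbc⟩ :=
      Cfsg.Agent.Lib.Helper9.frobenius_kernel_subgroup (M.map π) hFrob
    haveI := hNbn
    have hidx : (M.map π).index = Nat.card Nb := hNbc.index_eq_card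
    have hNbcard : (Nat.card Nb).Coprime p := by
      have h2 : (M.map π).index ∣ M.index := Subgroup.index_map_dvd M hπs
      have h3 : M.index ∣ (S : Subgroup G).index := Subgroup.index_dvd_of_le hSM
      have h4 : ¬ p ∣ (S : Subgroup G).index := S.not_dvd_index
      rw [← hidx]
      exact Nat.Coprime.coprime_dvd_left (h2.trans h3)
        ((Nat.Prime.coprime_iff_not_dvd hp).mpr h4).symm
    obtain ⟨N, hNdef⟩ : ∃ N, N = Nb.comap π := ⟨_, rfl⟩
    haveI hNn : N.Normal := by rw [hNdef]; exact hNbn.comap π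
    have hmemN : ∀ a : G, a ∈ N ↔ π a ∈ Nb := by
      intro a; rw [hNdef]; exact Subgroup.mem_comap
    -- `p`-elements of `N` are central
    have hNp : ∀ a ∈ N, ∀ i : ℕ, a ^ (p ^ i) = 1 → a ∈ Z := by
      intro a ha i hai
      rw [hmemN] at ha
      apply hker.le
      rw [MonoidHom.mem_ker]
      have h1 : orderOf (π a) ∣ p ^ i :=
        orderOf_dvd_of_pow_eq_one (by rw [← map_pow, hai, map_one])
      have h2 : orderOf (π a) ∣ Nat.card Nb := by
        have := orderOf_dvd_natCard (⟨π a, ha⟩ : ↥Nb)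
        rwa [Subgroup.orderOf_mk] at this
      have h3 : orderOf (π a) = 1 :=
        Nat.eq_one_of_dvd_coprimes (Nat.Coprime.pow_right i hNbcard) h2 h1
      exact orderOf_eq_one_iff.mp h3
    -- Burnside in `N`
    obtain ⟨P⟩ : Nonempty (Sylow p ↥N) := inferInstance
    have hPZ : ∀ q ∈ (P : Subgroup ↥N), (q : G) ∈ Z := by
      intro q hq
      obtain ⟨i, hi⟩ := P.isPGroup' ⟨q, hq⟩
      have h1 : q ^ (p ^ i) = 1 := congrArg Subtype.val hi
      have h2 : (q : G) ^ (p ^ i) = 1 := by
        rw [← Subgroup.coe_pow, h1]; rfl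
      exact hNp (q : G) q.2 i h2
    have hP : Subgroup.normalizer ((P : Subgroup ↥N) : Set ↥N) ≤
        Subgroup.centralizer ((P : Subgroup ↥N) : Set ↥N) := by
      intro a _
      rw [Subgroup.mem_centralizer_iff]
      intro q hq
      have h1 := hPZ q hq
      rw [hZdef, Subgroup.mem_center_iff] at h1
      apply Subtype.ext
      rw [Subgroup.coe_mul, Subgroup.coe_mul]
      exact (h1 (a : G)).symm
    obtain ⟨L₀, hL₀def⟩ : ∃ L₀, L₀ = (MonoidHom.transferSylow P hP).ker := ⟨_, rfl⟩
    have hcomp : Subgroup.IsComplement' L₀ (P : Subgroup ↥N) := by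
      rw [hL₀def]; exact MonoidHom.ker_transferSylow_isComplement' P hP
    have hL₀card : (Nat.card L₀).Coprime p := by
      rw [← hcomp.index_eq_card]
      exact ((Nat.Prime.coprime_iff_not_dvd hp).mpr P.not_dvd_index).symm
    have hL₀mem : ∀ a : ↥N, (orderOf a).Coprime p → a ∈ L₀ := by
      intro a ha
      rw [hL₀def, MonoidHom.mem_ker]
      obtain ⟨i, hi⟩ := P.isPGroup' (MonoidHom.transferSylow P hP a)
      have h1 : orderOf (MonoidHom.transferSylow P hP a) ∣ p ^ i := orderOf_dvd_of_pow_eq_one hi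
      have h2 : orderOf (MonoidHom.transferSylow P hP a) ∣ orderOf a := orderOf_map_dvd _ a
      have h3 : orderOf (MonoidHom.transferSylow P hP a) = 1 :=
        Nat.eq_one_of_dvd_coprimes (Nat.Coprime.pow_right i ha) h2 h1
      exact orderOf_eq_one_iff.mp h3
    obtain ⟨L, hLdef⟩ : ∃ L, L = L₀.map N.subtype := ⟨_, rfl⟩
    have hLcard : (Nat.card L).Coprime p := by
      rw [hLdef, Subgroup.card_map_of_injective N.subtype_injective]; exact hL₀card
    have hLinv : ∀ h ∈ L, x * h * x⁻¹ ∈ L := by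
      intro h hh
      rw [hLdef] at hh ⊢
      obtain ⟨l, hl, rfl⟩ := hh
      refine ⟨⟨x * (l : G) * x⁻¹, hNn.conj_mem (l : G) l.2 x⟩, ?_, rfl⟩
      apply hL₀mem
      have h1 : orderOf (⟨x * (l : G) * x⁻¹, hNn.conj_mem (l : G) l.2 x⟩ : ↥N) = orderOf l := by
        rw [Subgroup.orderOf_mk, ← Subgroup.orderOf_coe l]
        exact (MulAut.conj x).orderOf_eq (l : G)
      rw [h1]
      have h2 : orderOf l ∣ Nat.card L₀ := by
        have := orderOf_dvd_natCard (⟨l, hl⟩ : ↥L₀)
        rwa [Subgroup.orderOf_mk] at this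
      exact Nat.Coprime.coprime_dvd_left h2 hL₀card
    have hLM := hb L hLcard hLinv
    have hL₀Z : L₀ ≤ Z.subgroupOf N := by
      intro l hl
      rw [Subgroup.mem_subgroupOf]
      have h1 : (l : G) ∈ L := by rw [hLdef]; exact ⟨l, hl, rfl⟩
      have h2 : (l : G) ∈ M := (hmemM _).mpr (hLM _ h1).symm
      have h3 : π (l : G) ∈ Nb := (hmemN _).mp l.2
      have h4 : π (l : G) = 1 :=
        Subgroup.disjoint_def.mp hNbc.disjoint h3 (Subgroup.mem_map_of_mem π h2)
      exact hker.le (MonoidHom.mem_ker.mpr h4)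
    have hPZ' : (P : Subgroup ↥N) ≤ Z.subgroupOf N := by
      intro q hq
      rw [Subgroup.mem_subgroupOf]
      exact hPZ q hq
    have hNZ : N ≤ Z := by
      intro a ha
      have h1 : (⟨a, ha⟩ : ↥N) ∈ L₀ ⊔ (P : Subgroup ↥N) := by
        rw [hcomp.sup_eq_top]; exact Subgroup.mem_top _
      have h2 := (sup_le hL₀Z hPZ') h1
      rw [Subgroup.mem_subgroupOf] at h2
      exact h2
    have hNb : Nb = ⊥ := by
      rw [eq_bot_iff]
      intro nb hnb
      obtain ⟨a, rfl⟩ := hπs nb
      rw [Subgroup.mem_bot]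
      exact MonoidHom.mem_ker.mp (hker.ge (hNZ ((hmemN a).mpr hnb)))
    have h1 : (M.map π).index = 1 := by rw [hidx, hNb, Subgroup.card_bot]
    exact hFrob.2.1 (Subgroup.index_eq_one.mp h1)

end IsoCentral

end Cfsg.Agent.Lib.Helper3
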