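import Cfsg.Agent.Lib.Helper3.ZJ3
import Cfsg.Prelude.Def_IsolatedElements
import Cfsg.Prelude.Def_TwoFusion
import Cfsg.Agent.Lib.Helper2.Burnside
import Cfsg.Agent.Lib.Helper8.CyclicAut
import Cfsg.Agent.Lib.Helper8.DirectFactor

set_option autoImplicit false

namespace Cfsg.Agent.Lib.Helper3

open Cfsg
open scoped commutatorElement

section Isolated

variable {G : Type*} [Group G] [Finite G] {p : ℕ} [Fact p.Prime]

/-- an isolated element of a Sylow `p`-subgroup is central in it -/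
theorem isolated_central (P : Sylow p G) (x : G) (hxP : x ∈ (P : Subgroup G))
    (hiso : IsIsolated x) : x ∈ Subgroup.centralizer ((P : Subgroup G) : Set G) := by
  by_contra hcon
  have hlt : (P : Subgroup G) ⊓ Subgroup.centralizer ({x} : Set G) < (P : Subgroup G) := by
    refine lt_of_le_of_ne inf_le_left ?_
    intro h
    apply hcon
    refine Subgroup.mem_centralizer_iff.mpr (fun y hy => ?_)
    have hy' : y ∈ (P : Subgroup G) ⊓ Subgroup.centralizer ({x} : Set G) := by rw [h]; exact hy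
    exact (Subgroup.mem_centralizer_iff.mp hy'.2 x rfl).symm
  obtain ⟨u, huP, huN, huC⟩ := exists_mem_normalizer_not_mem P.isPGroup' hlt
  apply huC
  have hxC : x ∈ (P : Subgroup G) ⊓ Subgroup.centralizer ({x} : Set G) :=
    ⟨hxP, Subgroup.mem_centralizer_iff.mpr (fun h hh => by rw [Set.mem_singleton_iff.mp hh])⟩
  have h1 : u * x * u⁻¹ ∈ (P : Subgroup G) ⊓ Subgroup.centralizer ({x} : Set G) :=
    (Subgroup.mem_normalizer_iff.mp huN x).mp hxC
  have h2 : Commute x (u * x * u⁻¹) := Subgroup.mem_centralizer_iff.mp h1.2 x rfl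
  have h3 := hiso u h2
  refine ⟨huP, Subgroup.mem_centralizer_iff.mpr ?_⟩
  intro h hh
  rw [Set.mem_singleton_iff.mp hh]
  calc x * u = (u * x * u⁻¹) * u := by rw [h3]
    _ = u * x := by group

/-- an isolated element has no other conjugate in a `p`-subgroup containing it -/
theorem isolated_eq_of_pgroup (x : G) (hiso : IsIsolated x) (R : Subgroup G) (hR : IsPGroup p R)
    (hxR : x ∈ R) (g : G) (hg : g * x * g⁻¹ ∈ R) : g * x * g⁻¹ = x := by
  obtain ⟨P, hP⟩ := hR.exists_le_sylow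
  have hc := isolated_central P x (hP hxR) hiso
  exact hiso g (Subgroup.mem_centralizer_iff.mp hc _ (hP hg)).symm

omit [Finite G] [Fact p.Prime] in
theorem isPGroup_zpowers_of_mem {R : Subgroup G} (hR : IsPGroup p R) {x : G} (hx : x ∈ R) :
    IsPGroup p (Subgroup.zpowers x) := hR.to_le (Subgroup.zpowers_le.mpr hx)

omit [Finite G] [Fact p.Prime] in
theorem isPGroup_zpowers_conj {x : G} (hx : IsPGroup p (Subgroup.zpowers x)) (g : G) :
    IsPGroup p (Subgroup.zpowers (g * x * g⁻¹)) := by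
  have h := hx.map (MulAut.conj g).toMonoidHom
  rw [MonoidHom.map_zpowers] at h
  exact h

omit [Finite G] [Fact p.Prime] in
theorem isPGroup_zpowers_of_orderOf {x : G} (hx : ∃ k : ℕ, orderOf x = p ^ k) :
    IsPGroup p (Subgroup.zpowers x) := by
  obtain ⟨k, hk⟩ := hx
  exact IsPGroup.of_card (n := k) (by rw [Nat.card_zpowers, hk])

/-- conjugates of powers of an isolated `p`-element inside a Sylow subgroup are unchanged -/
theorem isolated_conj_zpow (P : Sylow p G) (x : G) (hxP : x ∈ (P : Subgroup G))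
    (hiso : IsIsolated x) (n : ℤ) (g : G) (hg : g * x ^ n * g⁻¹ ∈ (P : Subgroup G)) :
    g * x ^ n * g⁻¹ = x ^ n := by
  have hxZ := isolated_central P x hxP hiso
  have hPC : (P : Subgroup G) ≤ Subgroup.centralizer ({x ^ n} : Set G) := by
    intro y hy
    refine Subgroup.mem_centralizer_iff.mpr ?_
    intro h hh
    rw [Set.mem_singleton_iff.mp hh]
    have hc : Commute y x := Subgroup.mem_centralizer_iff.mp hxZ y hy
    exact (hc.zpow_right n).symm.eq
  have hx'C : g⁻¹ * x * g ∈ Subgroup.centralizer ({x ^ n} : Set G) := by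
    refine Subgroup.mem_centralizer_iff.mpr ?_
    intro h hh
    rw [Set.mem_singleton_iff.mp hh]
    have hc : (g * x ^ n * g⁻¹) * x = x * (g * x ^ n * g⁻¹) :=
      Subgroup.mem_centralizer_iff.mp hxZ _ hg
    calc x ^ n * (g⁻¹ * x * g) = g⁻¹ * ((g * x ^ n * g⁻¹) * x) * g := by group
      _ = g⁻¹ * (x * (g * x ^ n * g⁻¹)) * g := by rw [hc]
      _ = g⁻¹ * x * g * x ^ n := by group
  have hxp : IsPGroup p (Subgroup.zpowers x) := isPGroup_zpowers_of_mem P.isPGroup' hxP
  have hx'p : IsPGroup p (Subgroup.zpowers (g⁻¹ * x * g)) := by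
    have := isPGroup_zpowers_conj hxp g⁻¹
    rwa [inv_inv] at this
  obtain ⟨c, hc, hcP⟩ := exists_conj_le_sylow_of_le P hPC (Subgroup.zpowers_le.mpr hx'C) hx'p
  have h1 : c * (g⁻¹ * x * g) * c⁻¹ ∈ (P : Subgroup G) := hcP _ (Subgroup.mem_zpowers _)
  have e1 : c * (g⁻¹ * x * g) * c⁻¹ = (c * g⁻¹) * x * (c * g⁻¹)⁻¹ := by group
  rw [e1] at h1
  have h3 := isolated_eq_of_pgroup x hiso P P.isPGroup' hxP (c * g⁻¹) h1
  have hcg : Commute (c * g⁻¹) x := mul_inv_eq_iff_eq_mul.mp h3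
  have hcx : Commute (x ^ n) c := Subgroup.mem_centralizer_iff.mp hc (x ^ n) rfl
  have h4 : Commute (x ^ n) (c⁻¹ * (c * g⁻¹)) := hcx.inv_right.mul_right (hcg.zpow_right n).symm
  rw [inv_mul_cancel_left] at h4
  have h5 : Commute (x ^ n) g := by
    have := h4.inv_right
    rwa [inv_inv] at this
  calc g * x ^ n * g⁻¹ = x ^ n * g * g⁻¹ := by rw [h5.eq]
    _ = x ^ n := by group

omit [Finite G] [Fact p.Prime] in
theorem isPGroup_zpowers_subtype {N : Subgroup G} {x : G} (hxN : x ∈ N)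
    (hx : IsPGroup p (Subgroup.zpowers x)) : IsPGroup p (Subgroup.zpowers (⟨x, hxN⟩ : ↥N)) := by
  have h1 : (Subgroup.zpowers (⟨x, hxN⟩ : ↥N)).map N.subtype = Subgroup.zpowers x := by
    rw [MonoidHom.map_zpowers]; rfl
  have h2 : IsPGroup p ↥((Subgroup.zpowers (⟨x, hxN⟩ : ↥N)).map N.subtype) := by
    rw [h1]; exact hx
  exact h2.of_equiv ((Subgroup.zpowers (⟨x, hxN⟩ : ↥N)).equivMapOfInjective N.subtype
    N.subtype_injective).symm

/-- two conjugates of an isolated `p`-element lying in a subgroup `K` are conjugate in `K`;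
stated for `x` itself -/
theorem isolated_exists_conj (x : G) (hx : IsPGroup p (Subgroup.zpowers x)) (hiso : IsIsolated x)
    (K : Subgroup G) (hxK : x ∈ K) (g : G) (hyK : g * x * g⁻¹ ∈ K) :
    ∃ m ∈ K, (m * g) * x * (m * g)⁻¹ = x := by
  have hxp' := isPGroup_zpowers_subtype hxK hx
  have hyp' : IsPGroup p (Subgroup.zpowers (⟨g * x * g⁻¹, hyK⟩ : ↥K)) :=
    isPGroup_zpowers_subtype hyK (isPGroup_zpowers_conj hx g)
  obtain ⟨S, hS⟩ := hxp'.exists_le_sylow
  obtain ⟨S', hS'⟩ := hyp'.exists_le_sylow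
  obtain ⟨m, hm⟩ := MulAction.exists_smul_eq ↥K S' S
  have h1 : m * ⟨g * x * g⁻¹, hyK⟩ * m⁻¹ ∈ (S : Subgroup ↥K) := by
    rw [← hm, mem_sylow_smul_iff]
    have e : m⁻¹ * (m * ⟨g * x * g⁻¹, hyK⟩ * m⁻¹) * m = (⟨g * x * g⁻¹, hyK⟩ : ↥K) := by group
    rw [e]; exact hS' (Subgroup.mem_zpowers _)
  have hRp : IsPGroup p ↥((S : Subgroup ↥K).map K.subtype) := S.isPGroup'.map _
  have hxR : x ∈ (S : Subgroup ↥K).map K.subtype := ⟨⟨x, hxK⟩, hS (Subgroup.mem_zpowers _), rfl⟩
  have hgR : ((m : G) * g) * x * ((m : G) * g)⁻¹ ∈ (S : Subgroup ↥K).map K.subtype := by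
    refine ⟨_, h1, ?_⟩
    show (m : G) * (g * x * g⁻¹) * (m : G)⁻¹ = _
    group
  exact ⟨m, m.2, isolated_eq_of_pgroup x hiso _ hRp hxR _ hgR⟩

/-- S2969 (second part): a Frattini-type factorization for an isolated `p`-element -/
theorem isolated_frattini (x : G) (hx : IsPGroup p (Subgroup.zpowers x)) (hiso : IsIsolated x)
    (H N : Subgroup G) (hNH : N ≤ H) (hHN : H ≤ Subgroup.normalizer (N : Set G)) (hxN : x ∈ N) :
    N ⊔ (H ⊓ Subgroup.centralizer ({x} : Set G)) = H := by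
  apply le_antisymm (sup_le hNH inf_le_left)
  intro h hh
  have hyN : h * x * h⁻¹ ∈ N := (Subgroup.mem_normalizer_iff.mp (hHN hh) x).mp hxN
  obtain ⟨m, hm, h3⟩ := isolated_exists_conj x hx hiso N hxN h hyN
  have h4 : m * h ∈ H ⊓ Subgroup.centralizer ({x} : Set G) := by
    refine ⟨H.mul_mem (hNH hm) hh, Subgroup.mem_centralizer_iff.mpr ?_⟩
    intro z hz
    rw [Set.mem_singleton_iff.mp hz]
    exact (mul_inv_eq_iff_eq_mul.mp h3).symm
  have e : h = m⁻¹ * (m * h) := by group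
  rw [e]
  exact Subgroup.mul_mem _ (Subgroup.mem_sup_left (N.inv_mem hm)) (Subgroup.mem_sup_right h4)

/-- S2970 (first part): isolation passes to quotients -/
theorem isolated_quotient (x : G) (hx : IsPGroup p (Subgroup.zpowers x)) (hiso : IsIsolated x)
    (N : Subgroup G) [N.Normal] : IsIsolated (QuotientGroup.mk x : G ⧸ N) := by
  intro gbar hcomm
  obtain ⟨g, rfl⟩ := QuotientGroup.mk_surjective gbar
  have hcomm' : Commute (QuotientGroup.mk' N x) (QuotientGroup.mk' N (g * x * g⁻¹)) := by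
    rw [map_mul, map_mul, map_inv]; exact hcomm
  have hxK : x ∈ (Subgroup.centralizer ({QuotientGroup.mk' N (g * x * g⁻¹)} : Set (G ⧸ N))).comap
      (QuotientGroup.mk' N) := by
    refine Subgroup.mem_centralizer_iff.mpr ?_
    intro h hh
    rw [Set.mem_singleton_iff.mp hh]
    exact hcomm'.eq.symm
  have hyK : g * x * g⁻¹ ∈
      (Subgroup.centralizer ({QuotientGroup.mk' N (g * x * g⁻¹)} : Set (G ⧸ N))).comap
      (QuotientGroup.mk' N) := by
    refine Subgroup.mem_centralizer_iff.mpr ?_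
    intro h hh
    rw [Set.mem_singleton_iff.mp hh]
  obtain ⟨m, hm, h3⟩ := isolated_exists_conj x hx hiso _ hxK g hyK
  have hm' : QuotientGroup.mk' N (g * x * g⁻¹) * QuotientGroup.mk' N m =
      QuotientGroup.mk' N m * QuotientGroup.mk' N (g * x * g⁻¹) :=
    Subgroup.mem_centralizer_iff.mp hm _ rfl
  have e : (m * g) * x * (m * g)⁻¹ = m * (g * x * g⁻¹) * m⁻¹ := by group
  rw [e] at h3
  have h4 : QuotientGroup.mk' N x =
      QuotientGroup.mk' N m * QuotientGroup.mk' N (g * x * g⁻¹) * (QuotientGroup.mk' N m)⁻¹ := by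
    rw [← map_inv, ← map_mul, ← map_mul, h3]
  rw [← hm', mul_inv_cancel_right] at h4
  have h5 : QuotientGroup.mk' N (g * x * g⁻¹) =
      (QuotientGroup.mk g : G ⧸ N) * (QuotientGroup.mk x : G ⧸ N) * (QuotientGroup.mk g : G ⧸ N)⁻¹ := by
    rw [map_mul, map_mul, map_inv]; rfl
  rw [← h5]
  exact h4.symm

/-- S2970 (second part) -/
theorem isolated_npc (x : G) (hx : IsPGroup p (Subgroup.zpowers x)) (hiso : IsIsolated x)
    (hx1 : x ≠ 1) (hcyc : ∀ P : Sylow p G, IsCyclic ↥(P : Subgroup G)) :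
    HasNormalPComplement p G := by
  have hp : p.Prime := Fact.out
  obtain ⟨P, hP⟩ := hx.exists_le_sylow
  have hxP : x ∈ (P : Subgroup G) := hP (Subgroup.mem_zpowers x)
  apply Cfsg.Agent.Lib.Helper2.hasNormalPComplement_of_normalizer_le_centralizer P
  intro n hn
  obtain ⟨⟨y, hyP⟩, hgen⟩ := (hcyc P).exists_generator
  have hPy : ∀ z ∈ (P : Subgroup G), z ∈ Subgroup.zpowers y := by
    intro z hz
    obtain ⟨k, hk⟩ := hgen ⟨z, hz⟩
    exact ⟨k, congrArg Subtype.val hk⟩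
  suffices hny : n * y = y * n by
    refine Subgroup.mem_centralizer_iff.mpr (fun z hz => ?_)
    obtain ⟨k, rfl⟩ := hPy z hz
    exact ((Commute.zpow_right (show Commute n y from hny) k).eq).symm
  obtain ⟨e, he⟩ : ∃ e : ℕ, orderOf y = p ^ e := by
    obtain ⟨e, he⟩ := (IsPGroup.iff_orderOf.mp P.isPGroup') ⟨y, hyP⟩
    exact ⟨e, by rw [← he]; exact (Subgroup.orderOf_mk y hyP).symm⟩
  have hnx : n * x = x * n :=
    mul_inv_eq_iff_eq_mul.mp (isolated_eq_of_pgroup x hiso P P.isPGroup' hxP n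
      ((Subgroup.mem_normalizer_iff.mp hn x).mp hxP))
  obtain ⟨j, m', hm', hord⟩ := Nat.exists_eq_pow_mul_and_not_dvd (orderOf_pos n).ne' p hp.ne_one
  have hcop : m'.Coprime p := ((Nat.Prime.coprime_iff_not_dvd hp).2 hm').symm
  have hd : (n ^ p ^ j) ^ m' = 1 := by rw [← pow_mul, ← hord, pow_orderOf_eq_one]
  have hdN : n ^ p ^ j ∈ Subgroup.normalizer ((P : Subgroup G) : Set G) := Subgroup.pow_mem _ hn _
  have hdy : n ^ p ^ j * y * (n ^ p ^ j)⁻¹ ∈ Subgroup.zpowers y :=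
    hPy _ ((Subgroup.mem_normalizer_iff.mp hdN y).mp hyP)
  have hdx : n ^ p ^ j * x = x * n ^ p ^ j := (Commute.pow_left (show Commute n x from hnx) _).eq
  have h1 : n ^ p ^ j * y = y * n ^ p ^ j :=
    Cfsg.Agent.Lib.Helper8.h8_cyclic_coprime_aut hp hcop (n ^ p ^ j) hd e y x he hdy (hPy x hxP)
      hx1 hdx
  have h2 : n ^ m' ∈ (P : Subgroup G) := by
    have h21 : (n ^ m') ^ p ^ j = 1 := by
      rw [← pow_mul, mul_comm, ← hord, pow_orderOf_eq_one]
    obtain ⟨i, -, hi⟩ := (Nat.dvd_prime_pow hp).1 (orderOf_dvd_of_pow_eq_one h21)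
    have hp1 : IsPGroup p (Subgroup.zpowers (n ^ m')) :=
      IsPGroup.of_card (n := i) (by rw [Nat.card_zpowers, hi])
    have hle : Subgroup.zpowers (n ^ m') ≤ Subgroup.normalizer ((P : Subgroup G) : Set G) :=
      Subgroup.zpowers_le.mpr (Subgroup.pow_mem _ hn _)
    have hsup := IsPGroup.to_sup_of_normal_left' P.isPGroup' hp1 hle
    have hmax := P.is_maximal' hsup le_sup_left
    rw [← hmax]; exact Subgroup.mem_sup_right (Subgroup.mem_zpowers _)
  have h3 : n ^ m' * y = y * n ^ m' := by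
    obtain ⟨k, hk⟩ := hPy _ h2
    rw [← hk]
    exact (Commute.zpow_left (Commute.refl y) k).eq
  have hmem : n ∈ Subgroup.centralizer ({y} : Set G) := by
    apply Cfsg.Agent.Lib.Helper8.h8_mem_of_pow_mem_of_coprime (a := p ^ j) (b := m')
      (Nat.Coprime.pow_left j hcop.symm)
    · refine Subgroup.mem_centralizer_iff.mpr (fun z hz => ?_)
      rw [Set.mem_singleton_iff.mp hz]; exact h1.symm
    · refine Subgroup.mem_centralizer_iff.mpr (fun z hz => ?_)
      rw [Set.mem_singleton_iff.mp hz]; exact h3.symm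
  exact (Subgroup.mem_centralizer_iff.mp hmem y rfl).symm

end Isolated

end Cfsg.Agent.Lib.Helper3
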