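import Cfsg.Agent.Lib.Helper3.ParaChar
import Cfsg.Agent.Lib.Helper3.ZJ

/-! Large subgroups (`Cfsg.IsLarge`): weak closure, disjoint centralizers of conjugates,
characteristic `p` of overgroups. -/

set_option autoImplicit false

namespace Cfsg.Agent.Lib.Helper3

open Cfsg
open scoped commutatorElement

section Large

variable {H : Type*} [Group H]

theorem mem_map_conj_iff {Q : Subgroup H} {g x : H} :
    x ∈ Q.map (MulAut.conj g).toMonoidHom ↔ g⁻¹ * x * g ∈ Q := by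
  constructor
  · rintro ⟨q, hq, rfl⟩
    have h0 : g⁻¹ * ((MulAut.conj g).toMonoidHom q) * g = q := by
      show g⁻¹ * (g * q * g⁻¹) * g = q
      group
    rw [h0]; exact hq
  · intro h
    exact ⟨g⁻¹ * x * g, h, by show g * (g⁻¹ * x * g) * g⁻¹ = x; group⟩

theorem map_conj_one (Q : Subgroup H) : Q.map (MulAut.conj (1 : H)).toMonoidHom = Q := by
  ext x
  rw [mem_map_conj_iff]
  simp

theorem mem_centralizer_map_conj_iff {Q : Subgroup H} {g x : H} :
    x ∈ Subgroup.centralizer ((Q.map (MulAut.conj g).toMonoidHom : Subgroup H) : Set H) ↔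
      g⁻¹ * x * g ∈ Subgroup.centralizer (Q : Set H) := by
  rw [Subgroup.mem_centralizer_iff, Subgroup.mem_centralizer_iff]
  constructor
  · intro h q hq
    have hmem : g * q * g⁻¹ ∈ Q.map (MulAut.conj g).toMonoidHom := ⟨q, hq, rfl⟩
    have h1 := h _ hmem
    calc q * (g⁻¹ * x * g) = g⁻¹ * (g * q * g⁻¹ * x) * g := by group
      _ = g⁻¹ * (x * (g * q * g⁻¹)) * g := by rw [h1]
      _ = g⁻¹ * x * g * q := by group
  · intro h y hy
    obtain ⟨q, hq, rfl⟩ := Subgroup.mem_map.mp hy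
    have h1 := h q hq
    show g * q * g⁻¹ * x = x * (g * q * g⁻¹)
    calc g * q * g⁻¹ * x = g * (q * (g⁻¹ * x * g)) * g⁻¹ := by group
      _ = g * ((g⁻¹ * x * g) * q) * g⁻¹ := by rw [h1]
      _ = x * (g * q * g⁻¹) := by group

theorem le_weakClosure {Q L : Subgroup H} (g : H) (hg : Q.map (MulAut.conj g).toMonoidHom ≤ L) :
    Q.map (MulAut.conj g).toMonoidHom ≤ weakClosure Q L := by
  unfold weakClosure
  exact le_iSup (fun g : {g : H // Q.map (MulAut.conj g).toMonoidHom ≤ L} =>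
    Q.map (MulAut.conj (g : H)).toMonoidHom) ⟨g, hg⟩

theorem self_le_weakClosure {Q L : Subgroup H} (hQL : Q ≤ L) : Q ≤ weakClosure Q L := by
  have h := le_weakClosure (Q := Q) (L := L) 1 (by rw [map_conj_one]; exact hQL)
  rwa [map_conj_one] at h

theorem weakClosure_le_iff {Q L K : Subgroup H} :
    weakClosure Q L ≤ K ↔
      ∀ g : H, Q.map (MulAut.conj g).toMonoidHom ≤ L → Q.map (MulAut.conj g).toMonoidHom ≤ K := by
  unfold weakClosure
  rw [iSup_le_iff]
  exact ⟨fun h g hg => h ⟨g, hg⟩, fun h g => h g.1 g.2⟩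

theorem weakClosure_le {Q L : Subgroup H} : weakClosure Q L ≤ L :=
  weakClosure_le_iff.mpr (fun _ hg => hg)

variable [Finite H]

theorem map_conj_eq_of_mem_normalizer {Q : Subgroup H} {g : H}
    (hg : g ∈ Subgroup.normalizer (Q : Set H)) : Q.map (MulAut.conj g).toMonoidHom = Q := by
  apply Subgroup.eq_of_le_of_card_ge
  · rintro _ ⟨q, hq, rfl⟩
    exact (Subgroup.mem_normalizer_iff.mp hg q).mp hq
  · rw [Subgroup.card_map_of_injective (MulAut.conj g).injective]

theorem mem_normalizer_of_map_conj_eq {Q : Subgroup H} {g : H}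
    (h : Q.map (MulAut.conj g).toMonoidHom = Q) : g ∈ Subgroup.normalizer (Q : Set H) := by
  apply fin_mem_normalizer
  intro x hx
  have h1 : g * x * g⁻¹ ∈ Q.map (MulAut.conj g).toMonoidHom := ⟨x, hx, rfl⟩
  rwa [h] at h1

theorem normalizer_le_normalizer_center' (T : Subgroup H) :
    Subgroup.normalizer (T : Set H) ≤
      Subgroup.normalizer ((T ⊓ Subgroup.centralizer (T : Set H) : Subgroup H) : Set H) := by
  intro x hx
  apply fin_mem_normalizer
  intro y hy
  obtain ⟨hy1, hy2⟩ := Subgroup.mem_inf.mp hy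
  exact Subgroup.mem_inf.mpr ⟨(Subgroup.mem_normalizer_iff.mp hx y).mp hy1,
    (Subgroup.mem_normalizer_iff.mp (normalizer_le_normalizer_centralizer' _ hx) y).mp hy2⟩

theorem isLarge_map_conj {Q : Subgroup H} (hL : IsLarge Q) (g : H) :
    IsLarge (Q.map (MulAut.conj g).toMonoidHom) := by
  obtain ⟨h1, h2⟩ := hL
  refine ⟨?_, ?_⟩
  · intro x hx
    rw [mem_centralizer_map_conj_iff] at hx
    exact mem_map_conj_iff.mpr (h1 hx)
  · intro U hU hU1
    have hU₀ : U.map (MulAut.conj g⁻¹).toMonoidHom ≤ Subgroup.centralizer (Q : Set H) := by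
      rintro _ ⟨u, hu, rfl⟩
      have h3 := mem_centralizer_map_conj_iff.mp (hU hu)
      show g⁻¹ * u * g⁻¹⁻¹ ∈ _
      rw [inv_inv]; exact h3
    have hU₀1 : U.map (MulAut.conj g⁻¹).toMonoidHom ≠ ⊥ := fun h =>
      hU1 ((Subgroup.map_eq_bot_iff_of_injective _ (MulAut.conj g⁻¹).injective).mp h)
    have h3 := h2 _ hU₀ hU₀1
    intro x hx
    have hx' : g⁻¹ * x * g ∈ Subgroup.normalizer
        ((U.map (MulAut.conj g⁻¹).toMonoidHom : Subgroup H) : Set H) := by
      apply fin_mem_normalizer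
      intro y hy
      obtain ⟨u, hu, rfl⟩ := Subgroup.mem_map.mp hy
      refine ⟨x * u * x⁻¹, (Subgroup.mem_normalizer_iff.mp hx u).mp hu, ?_⟩
      show g⁻¹ * (x * u * x⁻¹) * g⁻¹⁻¹ = g⁻¹ * x * g * (g⁻¹ * u * g⁻¹⁻¹) * (g⁻¹ * x * g)⁻¹
      group
    have hx'' := h3 hx'
    apply fin_mem_normalizer
    intro y hy
    rw [mem_map_conj_iff] at hy ⊢
    have h4 := (Subgroup.mem_normalizer_iff.mp hx'' _).mp hy
    have h5 : g⁻¹ * (x * y * x⁻¹) * g = g⁻¹ * x * g * (g⁻¹ * y * g) * (g⁻¹ * x * g)⁻¹ := by group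
    rw [h5]; exact h4

variable {p : ℕ} [Fact p.Prime]

theorem sylow_conj_in_subgroup (N : Subgroup H) (P₁ P₂ : Sylow p H)
    (h₁ : (P₁ : Subgroup H) ≤ N) (h₂ : (P₂ : Subgroup H) ≤ N) :
    ∃ n ∈ N, ∀ x, x ∈ (P₂ : Subgroup H) → n⁻¹ * x * n ∈ (P₁ : Subgroup H) := by
  obtain ⟨n, hn⟩ := MulAction.exists_smul_eq N (P₁.subtype h₁) (P₂.subtype h₂)
  refine ⟨n, n.2, fun x hx => ?_⟩
  have h3 : (⟨x, h₂ hx⟩ : N) ∈ ((n • P₁.subtype h₁ : Sylow p N) : Subgroup N) := by
    rw [hn, Sylow.coe_subtype, Subgroup.mem_subgroupOf]; exact hx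
  rw [mem_sylow_smul_iff, Sylow.coe_subtype, Subgroup.mem_subgroupOf] at h3
  exact h3

/-- a large `p`-subgroup is weakly closed -/
theorem large_wc {Q : Subgroup H} (hQp : IsPGroup p Q) (hQ1 : Q ≠ ⊥) (hL : IsLarge Q) :
    IsWeaklyClosedSubgroup p Q := by
  obtain ⟨T, hQT⟩ := hQp.exists_le_sylow
  refine ⟨T, hQT, ?_⟩
  intro g hg
  obtain ⟨hC, hN⟩ := hL
  have hTne : (T : Subgroup H) ≠ ⊥ := fun h => hQ1 (le_bot_iff.mp (h ▸ hQT))
  obtain ⟨z, hzT, hz1, hzc⟩ := pn_inf_center (T : Subgroup H) (T : Subgroup H) T.isPGroup' le_rfl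
    (fun x hx d hd => Subgroup.mul_mem _ (Subgroup.mul_mem _ hx hd) (Subgroup.inv_mem _ hx)) hTne
  obtain ⟨Z, hZ⟩ : ∃ Z : Subgroup H,
      Z = (T : Subgroup H) ⊓ Subgroup.centralizer ((T : Subgroup H) : Set H) := ⟨_, rfl⟩
  have hzZ : z ∈ Z := by
    rw [hZ]
    exact Subgroup.mem_inf.mpr ⟨hzT, Subgroup.mem_centralizer_iff.mpr (fun x hx => hzc x hx)⟩
  have hZ1 : Z ≠ ⊥ := fun h => hz1 ((Subgroup.mem_bot).mp (h ▸ hzZ))
  have hZCQ : Z ≤ Subgroup.centralizer (Q : Set H) := by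
    rw [hZ]
    exact inf_le_right.trans (Subgroup.centralizer_le (SetLike.coe_subset_coe.mpr hQT))
  have hNZ : Subgroup.normalizer (Z : Set H) ≤ Subgroup.normalizer (Q : Set H) := hN Z hZCQ hZ1
  have hNTZ : Subgroup.normalizer ((T : Subgroup H) : Set H) ≤ Subgroup.normalizer (Z : Set H) := by
    rw [hZ]; exact normalizer_le_normalizer_center' _
  have hTNQ : (T : Subgroup H) ≤ Subgroup.normalizer (Q : Set H) :=
    Subgroup.le_normalizer.trans (hNTZ.trans hNZ)
  have hZ'C : Z.map (MulAut.conj g⁻¹).toMonoidHom ≤ Subgroup.centralizer (Q : Set H) := by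
    rintro _ ⟨y, hy, rfl⟩
    rw [hZ] at hy
    obtain ⟨hy1, hy2⟩ := Subgroup.mem_inf.mp hy
    rw [Subgroup.mem_centralizer_iff]
    intro q hq
    have hq' : g * q * g⁻¹ ∈ (T : Subgroup H) := hg ⟨q, hq, rfl⟩
    have h1 := Subgroup.mem_centralizer_iff.mp hy2 _ hq'
    show q * (g⁻¹ * y * g⁻¹⁻¹) = g⁻¹ * y * g⁻¹⁻¹ * q
    rw [inv_inv]
    calc q * (g⁻¹ * y * g) = g⁻¹ * (g * q * g⁻¹ * y) * g := by group
      _ = g⁻¹ * (y * (g * q * g⁻¹)) * g := by rw [h1]
      _ = g⁻¹ * y * g * q := by group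
  have hZ'1 : Z.map (MulAut.conj g⁻¹).toMonoidHom ≠ ⊥ := fun h =>
    hZ1 ((Subgroup.map_eq_bot_iff_of_injective _ (MulAut.conj g⁻¹).injective).mp h)
  have hNZ' := hN _ hZ'C hZ'1
  have hT'N : ((g⁻¹ • T : Sylow p H) : Subgroup H) ≤ Subgroup.normalizer (Q : Set H) := by
    intro t ht
    rw [mem_sylow_smul_iff, inv_inv] at ht
    apply hNZ'
    apply Cfsg.Agent.S2908.mem_normalizer_of_commute
    intro u hu
    obtain ⟨y, hy, rfl⟩ := Subgroup.mem_map.mp hu
    rw [hZ] at hy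
    have h1 := Subgroup.mem_centralizer_iff.mp (Subgroup.mem_inf.mp hy).2 _ ht
    show t * (g⁻¹ * y * g⁻¹⁻¹) = g⁻¹ * y * g⁻¹⁻¹ * t
    rw [inv_inv]
    calc t * (g⁻¹ * y * g) = g⁻¹ * (g * t * g⁻¹ * y) * g := by group
      _ = g⁻¹ * (y * (g * t * g⁻¹)) * g := by rw [h1]
      _ = g⁻¹ * y * g * t := by group
  obtain ⟨n, hnN, hn⟩ := sylow_conj_in_subgroup (Subgroup.normalizer (Q : Set H)) (g⁻¹ • T) T
    hT'N hTNQ
  have hm : g * n⁻¹ ∈ Subgroup.normalizer ((T : Subgroup H) : Set H) := by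
    apply fin_mem_normalizer
    intro x hx
    have h1 := hn x hx
    rw [mem_sylow_smul_iff, inv_inv] at h1
    have h2 : g * n⁻¹ * x * (g * n⁻¹)⁻¹ = g * (n⁻¹ * x * n) * g⁻¹ := by group
    rw [h2]; exact h1
  have hmQ : g * n⁻¹ ∈ Subgroup.normalizer (Q : Set H) := hNZ (hNTZ hm)
  have hgQ : g ∈ Subgroup.normalizer (Q : Set H) := by
    have h3 : g * n⁻¹ * n = g := by group
    rw [← h3]; exact Subgroup.mul_mem _ hmQ hnN
  exact map_conj_eq_of_mem_normalizer hgQ

theorem large_normalizer_charp {Q : Subgroup H} (hQp : IsPGroup p Q) (hL : IsLarge Q) :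
    CharPIn p (Subgroup.normalizer (Q : Set H)) := by
  have h1 : Q ≤ pCoreOf p (Subgroup.normalizer (Q : Set H)) :=
    le_pCoreOf Subgroup.le_normalizer hQp le_rfl
  unfold CharPIn
  intro x hx
  exact h1 (hL.1 (Subgroup.centralizer_le (SetLike.coe_subset_coe.mpr h1)
    (Subgroup.mem_inf.mp hx).2))

theorem large_centralizer_le {Q : Subgroup H} (hQp : IsPGroup p Q) (hL : IsLarge Q)
    (P : Subgroup H) (hPp : IsPGroup p P) (hP1 : P ≠ ⊥)
    (hQP : Q ≤ Subgroup.normalizer (P : Set H)) :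
    Subgroup.centralizer (P : Set H) ≤ Subgroup.normalizer (Q : Set H) := by
  have hsup : IsPGroup p ↥(P ⊔ Q) := IsPGroup.to_sup_of_normal_left' hPp hQp hQP
  have hle : P ⊔ Q ≤ Subgroup.normalizer (P : Set H) := sup_le Subgroup.le_normalizer hQP
  obtain ⟨z, hzP, hz1, hzc⟩ := pn_inf_center (P ⊔ Q) P hsup le_sup_left
    (fun x hx d hd => (Subgroup.mem_normalizer_iff.mp (hle hx) d).mp hd) hP1
  have hzQ : Subgroup.zpowers z ≤ Subgroup.centralizer (Q : Set H) := by
    rw [Subgroup.zpowers_le, Subgroup.mem_centralizer_iff]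
    intro q hq
    exact hzc q (le_sup_right (a := P) hq)
  have hz1' : Subgroup.zpowers z ≠ ⊥ := fun h => hz1 (Subgroup.zpowers_eq_bot.mp h)
  refine le_trans ?_ (hL.2 _ hzQ hz1')
  intro x hx
  apply Cfsg.Agent.S2908.mem_normalizer_of_commute
  intro y hy
  obtain ⟨k, rfl⟩ := Subgroup.mem_zpowers_iff.mp hy
  have hxz : Commute x z := (Subgroup.mem_centralizer_iff.mp hx z hzP).symm
  exact (hxz.zpow_right k).eq

/-- centralizers of distinct conjugates of a large subgroup meet trivially -/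
theorem large_disjoint {Q : Subgroup H} (hQp : IsPGroup p Q) (hQ1 : Q ≠ ⊥) (hL : IsLarge Q)
    (g : H) (hg : g ∉ Subgroup.normalizer (Q : Set H)) :
    Subgroup.centralizer (Q : Set H) ⊓
      Subgroup.centralizer ((Q.map (MulAut.conj g).toMonoidHom : Subgroup H) : Set H) = ⊥ := by
  by_contra hU1
  have h1 := hL.2 _ inf_le_left hU1
  have h3 : Q.map (MulAut.conj g).toMonoidHom ≤ Subgroup.normalizer (Q : Set H) := by
    refine le_trans ?_ h1
    refine le_trans ?_ (Subgroup.centralizer_le_normalizer _)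
    exact Subgroup.le_centralizer_iff.mp inf_le_right
  have hsup : IsPGroup p ↥(Q ⊔ Q.map (MulAut.conj g).toMonoidHom) :=
    IsPGroup.to_sup_of_normal_left' hQp (hQp.map _) h3
  have h4 := wc_conj_eq (large_wc hQp hQ1 hL) _ hsup le_sup_left g le_sup_right
  exact hg (mem_normalizer_of_map_conj_eq h4)

/-- overgroups `L` of a large subgroup with `O_p(L) ≠ 1` have characteristic `p` -/
theorem large_overgroup {Q : Subgroup H} (hQp : IsPGroup p Q) (hQ1 : Q ≠ ⊥) (hL : IsLarge Q)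
    (L : Subgroup H) (hQL : Q ≤ L) (hP1 : pCoreOf p L ≠ ⊥) :
    IsPGroup p ↥(Subgroup.centralizer (pCoreOf p L : Set H)) ∧ CharPIn p L := by
  have h := wc_main Q hQp (large_wc hQp hQ1 hL) hL.1 L hQL (Subgroup.normalizer (Q : Set H))
    (large_normalizer_charp hQp hL) Subgroup.le_normalizer
    (large_centralizer_le hQp hL (pCoreOf p L) (pCoreOf_isPGroup p L) hP1
      (hQL.trans (le_normalizer_pCoreOf p L)))
  exact ⟨h.2.1, h.2.2⟩

theorem large_weakClosure {Q : Subgroup H} (hQp : IsPGroup p Q) (hQ1 : Q ≠ ⊥) (hL : IsLarge Q)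
    (L : Subgroup H) (hQL : Q ≤ L) :
    weakClosure Q L = Q ∨
      Subgroup.centralizer ((weakClosure Q L : Subgroup H) : Set H) = ⊥ := by
  by_cases h : ∀ g : H, Q.map (MulAut.conj g).toMonoidHom ≤ L →
      Q.map (MulAut.conj g).toMonoidHom = Q
  · left
    exact le_antisymm (weakClosure_le_iff.mpr (fun g hg => (h g hg).le))
      (self_le_weakClosure hQL)
  · right
    push Not at h
    obtain ⟨g, hg, hne⟩ := h
    have hgN : g ∉ Subgroup.normalizer (Q : Set H) := fun hn =>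
      hne (map_conj_eq_of_mem_normalizer hn)
    have h1 := large_disjoint hQp hQ1 hL g hgN
    rw [eq_bot_iff, ← h1]
    exact le_inf
      (Subgroup.centralizer_le (SetLike.coe_subset_coe.mpr (self_le_weakClosure hQL)))
      (Subgroup.centralizer_le (SetLike.coe_subset_coe.mpr (le_weakClosure g hg)))

theorem exists_conj_le_sylow {Q : Subgroup H} (hQp : IsPGroup p Q) (T₀ : Sylow p H) :
    ∃ g : H, Q.map (MulAut.conj g).toMonoidHom ≤ (T₀ : Subgroup H) := by
  obtain ⟨T, hQT⟩ := hQp.exists_le_sylow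
  obtain ⟨g, hg⟩ := MulAction.exists_smul_eq H T T₀
  refine ⟨g, ?_⟩
  rintro _ ⟨q, hq, rfl⟩
  rw [← hg, mem_sylow_smul_iff]
  have h0 : g⁻¹ * ((MulAut.conj g).toMonoidHom q) * g = q := by
    show g⁻¹ * (g * q * g⁻¹) * g = q
    group
  rw [h0]; exact hQT hq

theorem large_parabolic {Q : Subgroup H} (hQp : IsPGroup p Q) (hQ1 : Q ≠ ⊥) (hL : IsLarge Q)
    (R : Subgroup H) (hR : IsParabolic p R) (hP1 : pCoreOf p R ≠ ⊥) :
    Subgroup.centralizer (pCoreOf p R : Set H) ≤ pCoreOf p R ∧ CharPIn p R := by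
  obtain ⟨T₀, hT₀⟩ := hR
  obtain ⟨g, hg⟩ := exists_conj_le_sylow hQp T₀
  have hQ'1 : Q.map (MulAut.conj g).toMonoidHom ≠ ⊥ := fun h =>
    hQ1 ((Subgroup.map_eq_bot_iff_of_injective _ (MulAut.conj g).injective).mp h)
  obtain ⟨hCp, hchar⟩ := large_overgroup (hQp.map _) hQ'1 (isLarge_map_conj hL g) R
    (hg.trans hT₀) hP1
  refine ⟨?_, hchar⟩
  have hRN : R ≤ Subgroup.normalizer
      ((Subgroup.centralizer (pCoreOf p R : Set H) : Subgroup H) : Set H) :=
    (le_normalizer_pCoreOf p R).trans (normalizer_le_normalizer_centralizer' _)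
  have hsup : IsPGroup p ↥(Subgroup.centralizer (pCoreOf p R : Set H) ⊔ (T₀ : Subgroup H)) :=
    IsPGroup.to_sup_of_normal_left' hCp T₀.isPGroup' (hT₀.trans hRN)
  have heq := T₀.is_maximal' hsup le_sup_right
  have hCT : Subgroup.centralizer (pCoreOf p R : Set H) ≤ (T₀ : Subgroup H) :=
    le_sup_left.trans heq.le
  exact le_pCoreOf (hCT.trans hT₀) hCp hRN

/-- conjugates of a weakly closed subgroup inside `K` are `K`-conjugate -/
theorem wc_conj_in_subgroup {Q : Subgroup H} (hQp : IsPGroup p Q)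
    (hwc : IsWeaklyClosedSubgroup p Q) (K : Subgroup H) (hQK : Q ≤ K) (g : H)
    (hg : Q.map (MulAut.conj g).toMonoidHom ≤ K) :
    ∃ k ∈ K, Q.map (MulAut.conj g).toMonoidHom = Q.map (MulAut.conj k).toMonoidHom := by
  obtain ⟨PA, hPA⟩ := (hQp.comap_subtype : IsPGroup p (Q.subgroupOf K)).exists_le_sylow
  obtain ⟨PB, hPB⟩ := ((hQp.map (MulAut.conj g).toMonoidHom).comap_subtype :
    IsPGroup p ((Q.map (MulAut.conj g).toMonoidHom).subgroupOf K)).exists_le_sylow
  obtain ⟨k, hk⟩ := MulAction.exists_smul_eq K PA PB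
  have hP : IsPGroup p ((PA : Subgroup K).map K.subtype) := PA.isPGroup'.map _
  have hQP : Q ≤ (PA : Subgroup K).map K.subtype := by
    intro q hq
    exact ⟨⟨q, hQK hq⟩, hPA (Subgroup.mem_subgroupOf.mpr hq), rfl⟩
  have hle : Q.map (MulAut.conj ((k : H)⁻¹ * g)).toMonoidHom ≤ (PA : Subgroup K).map K.subtype := by
    rintro _ ⟨q, hq, rfl⟩
    have hx : g * q * g⁻¹ ∈ Q.map (MulAut.conj g).toMonoidHom := ⟨q, hq, rfl⟩
    have hxB : (⟨g * q * g⁻¹, hg hx⟩ : K) ∈ (PB : Subgroup K) :=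
      hPB (Subgroup.mem_subgroupOf.mpr hx)
    rw [← hk, mem_sylow_smul_iff] at hxB
    refine ⟨_, hxB, ?_⟩
    show (k : H)⁻¹ * (g * q * g⁻¹) * (k : H) = (k : H)⁻¹ * g * q * ((k : H)⁻¹ * g)⁻¹
    group
  have h1 := wc_conj_eq hwc _ hP hQP ((k : H)⁻¹ * g) hle
  refine ⟨k, k.2, ?_⟩
  ext x
  rw [mem_map_conj_iff, mem_map_conj_iff]
  have h2 : ∀ y, y ∈ Q ↔ ((k : H)⁻¹ * g)⁻¹ * y * ((k : H)⁻¹ * g) ∈ Q := fun y => by
    rw [← mem_map_conj_iff, h1]
  rw [h2 ((k : H)⁻¹ * x * k)]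
  have h3 : ((k : H)⁻¹ * g)⁻¹ * ((k : H)⁻¹ * x * k) * ((k : H)⁻¹ * g) = g⁻¹ * x * g := by group
  rw [h3]

/-- the weak closure of a large subgroup and centralizers of normalized `p`-subgroups -/
theorem large_wc_centralizer {Q : Subgroup H} (hQp : IsPGroup p Q) (hQ1 : Q ≠ ⊥)
    (hL : IsLarge Q) (L : Subgroup H) (hQL : Q ≤ L) (Y : Subgroup H) (hYp : IsPGroup p Y)
    (hY1 : Y ≠ ⊥) (hLY : L ≤ Subgroup.normalizer (Y : Set H)) :
    weakClosure Q L = weakClosure Q (L ⊔ Subgroup.centralizer (Y : Set H)) ∧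
    ⁅weakClosure Q L, Subgroup.centralizer (Y : Set H)⁆ ≤ pCoreOf p (weakClosure Q L) ∧
    Subgroup.centralizer (Y : Set H) ≤
      Subgroup.normalizer ((weakClosure Q L : Subgroup H) : Set H) := by
  have hwc := large_wc hQp hQ1 hL
  -- (s1)
  have s1 : ∀ g : H, Q.map (MulAut.conj g).toMonoidHom ≤ L →
      Subgroup.centralizer (Y : Set H) ≤
        Subgroup.normalizer ((Q.map (MulAut.conj g).toMonoidHom : Subgroup H) : Set H) :=
    fun g hg => large_centralizer_le (hQp.map _) (isLarge_map_conj hL g) Y hYp hY1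
      (hg.trans hLY)
  -- (s2)
  have s2 : Subgroup.centralizer (Y : Set H) ≤
      Subgroup.normalizer ((weakClosure Q L : Subgroup H) : Set H) := by
    intro c hc
    apply fin_mem_normalizer
    have h1 : weakClosure Q L ≤ (weakClosure Q L).comap (MulAut.conj c).toMonoidHom := by
      rw [weakClosure_le_iff]
      intro g hg x hx
      rw [Subgroup.mem_comap]
      exact le_weakClosure g hg ((Subgroup.mem_normalizer_iff.mp (s1 g hg hc) x).mp hx)
    intro x hx
    exact h1 hx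
  -- (s3)
  have s3 : L ≤ Subgroup.normalizer ((weakClosure Q L : Subgroup H) : Set H) := by
    intro l hl
    apply fin_mem_normalizer
    have h1 : weakClosure Q L ≤ (weakClosure Q L).comap (MulAut.conj l).toMonoidHom := by
      rw [weakClosure_le_iff]
      intro g hg x hx
      rw [Subgroup.mem_comap]
      have h2 : Q.map (MulAut.conj (l * g)).toMonoidHom ≤ L := by
        rintro _ ⟨q, hq, rfl⟩
        have h3 : g * q * g⁻¹ ∈ L := hg ⟨q, hq, rfl⟩
        have h4 : (MulAut.conj (l * g)).toMonoidHom q = l * (g * q * g⁻¹) * l⁻¹ := by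
          show l * g * q * (l * g)⁻¹ = _
          group
        rw [h4]; exact L.mul_mem (L.mul_mem hl h3) (L.inv_mem hl)
      apply le_weakClosure (l * g) h2
      rw [mem_map_conj_iff] at hx ⊢
      have h5 : (l * g)⁻¹ * ((MulAut.conj l).toMonoidHom x) * (l * g) = g⁻¹ * x * g := by
        show (l * g)⁻¹ * (l * x * l⁻¹) * (l * g) = _
        group
      rw [h5]; exact hx
    intro x hx
    exact h1 hx
  have s4 : L ⊔ Subgroup.centralizer (Y : Set H) ≤
      Subgroup.normalizer ((weakClosure Q L : Subgroup H) : Set H) := sup_le s3 s2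
  refine ⟨?_, ?_, s2⟩
  · apply le_antisymm
    · exact weakClosure_le_iff.mpr (fun g hg => le_weakClosure g (hg.trans le_sup_left))
    · rw [weakClosure_le_iff]
      intro g hg
      obtain ⟨k, hkK, hk⟩ := wc_conj_in_subgroup hQp hwc _ (hQL.trans le_sup_left) g hg
      rw [hk]
      rintro _ ⟨q, hq, rfl⟩
      exact (Subgroup.mem_normalizer_iff.mp (s4 hkK) q).mp (self_le_weakClosure hQL hq)
  · -- (ii)
    obtain ⟨C, hCdef⟩ : ∃ C : Subgroup H, C = Subgroup.centralizer (Y : Set H) := ⟨_, rfl⟩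
    rw [← hCdef] at s1 s2 ⊢
    obtain ⟨W, hW⟩ : ∃ W : Subgroup H, W = weakClosure Q L := ⟨_, rfl⟩
    rw [← hW] at s2 ⊢
    have hWL : W ≤ L := by rw [hW]; exact weakClosure_le
    have hLC : L ≤ Subgroup.normalizer (C : Set H) := by
      rw [hCdef]; exact hLY.trans (normalizer_le_normalizer_centralizer' _)
    have hWD : W ≤ Subgroup.normalizer ((W ⊓ C : Subgroup H) : Set H) := by
      intro x hx
      apply fin_mem_normalizer
      intro d hd
      obtain ⟨hd1, hd2⟩ := Subgroup.mem_inf.mp hd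
      exact Subgroup.mem_inf.mpr ⟨W.mul_mem (W.mul_mem hx hd1) (W.inv_mem hx),
        (Subgroup.mem_normalizer_iff.mp (hLC (hWL hx)) d).mp hd2⟩
    have hDP : pCoreOf p (W ⊓ C) ≤ pCoreOf p W :=
      le_pCoreOf ((pCoreOf_le p (W ⊓ C)).trans inf_le_left) (pCoreOf_isPGroup p (W ⊓ C))
        (le_normalizer_pCoreOf_of_le_normalizer hWD)
    have hcomm : ∀ g : H, Q.map (MulAut.conj g).toMonoidHom ≤ L →
        ⁅Q.map (MulAut.conj g).toMonoidHom, C⁆ ≤ pCoreOf p (W ⊓ C) := by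
      intro g hg
      have hle1 : ⁅Q.map (MulAut.conj g).toMonoidHom, C⁆ ≤ Q.map (MulAut.conj g).toMonoidHom := by
        rw [Subgroup.commutator_le]
        intro q hq c hc
        have h3 : ⁅q, c⁆ = q * (c * q⁻¹ * c⁻¹) := by
          simp only [commutatorElement_def]; group
        rw [h3]
        exact Subgroup.mul_mem _ hq
          ((Subgroup.mem_normalizer_iff.mp (s1 g hg hc) q⁻¹).mp (Subgroup.inv_mem _ hq))
      have hle2 : ⁅Q.map (MulAut.conj g).toMonoidHom, C⁆ ≤ C := by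
        rw [Subgroup.commutator_le]
        intro q hq c hc
        have h3 : ⁅q, c⁆ = (q * c * q⁻¹) * c⁻¹ := by
          simp only [commutatorElement_def]
        rw [h3]
        exact C.mul_mem ((Subgroup.mem_normalizer_iff.mp (hLC (hg hq)) c).mp hc) (C.inv_mem hc)
      have hleW : Q.map (MulAut.conj g).toMonoidHom ≤ W := by rw [hW]; exact le_weakClosure g hg
      apply le_pCoreOf (le_inf (hle1.trans hleW) hle2) ((hQp.map _).to_le hle1)
      intro d hd
      have hdC : d ∈ C := (Subgroup.mem_inf.mp hd).2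
      exact Cfsg.Agent.S2908.mem_normalizer_comm (s1 g hg hdC) (Subgroup.le_normalizer hdC)
    have hWstab : W ≤ stabSub (pCoreOf p W) C := by
      rw [hW, weakClosure_le_iff, ← hW]
      intro g hg q hq
      have hqW : q ∈ W := by rw [hW]; exact le_weakClosure g hg hq
      refine mem_stabSub.mpr ⟨le_normalizer_pCoreOf p W hqW, fun c hc => ?_⟩
      have h4 : q * c * q⁻¹ * c⁻¹ = ⁅q, c⁆ := by simp only [commutatorElement_def]
      rw [h4]
      exact hDP (hcomm g hg (Subgroup.commutator_mem_commutator hq hc))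
    rw [Subgroup.commutator_le]
    intro x hx c hc
    have h5 := (mem_stabSub.mp (hWstab hx)).2 c hc
    have h4 : x * c * x⁻¹ * c⁻¹ = ⁅x, c⁆ := by simp only [commutatorElement_def]
    rw [← h4]; exact h5

end Large

end Cfsg.Agent.Lib.Helper3
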