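import Cfsg.Agent.S2961
import Cfsg.Agent.Lib.Helper3.GT13
import Cfsg.Agent.Lib.Helper7.Coprime2
import Cfsg.Prelude.Def_Amalgam
import Cfsg.Prelude.Def_LocalStructure

/-! Weakly closed self-centralizing `p`-subgroups and characteristic `p` of overgroups. -/

set_option autoImplicit false
set_option linter.style.haveILetI false

namespace Cfsg.Agent.Lib.Helper3

open Cfsg
open scoped commutatorElement

section WCChar

variable {H : Type*} [Group H]

/-- `L` has characteristic `p`, stated inside the ambient group -/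
def CharPIn (p : ℕ) (L : Subgroup H) : Prop :=
  L ⊓ Subgroup.centralizer (pCoreOf p L : Set H) ≤ pCoreOf p L

theorem charPIn_iff (p : ℕ) (L : Subgroup H) :
    CharPIn p L ↔ Subgroup.centralizer (pCore p ↥L : Set ↥L) ≤ pCore p ↥L := by
  constructor
  · intro h x hx
    have h1 : (x : H) ∈ L ⊓ Subgroup.centralizer (pCoreOf p L : Set H) := by
      refine Subgroup.mem_inf.mpr ⟨x.2, ?_⟩
      rw [Subgroup.mem_centralizer_iff]
      rintro _ ⟨y, hy, rfl⟩
      exact congrArg Subtype.val (Subgroup.mem_centralizer_iff.mp hx y hy)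
    obtain ⟨y, hy, hyx⟩ := h h1
    have : y = x := Subtype.ext hyx
    rw [← this]; exact hy
  · intro h x hx
    obtain ⟨hxL, hxc⟩ := hx
    have h1 : (⟨x, hxL⟩ : ↥L) ∈ Subgroup.centralizer (pCore p ↥L : Set ↥L) := by
      rw [Subgroup.mem_centralizer_iff]
      intro y hy
      apply Subtype.ext
      exact Subgroup.mem_centralizer_iff.mp hxc (y : H) ⟨y, hy, rfl⟩
    exact ⟨⟨x, hxL⟩, h h1, rfl⟩

theorem charp_of_equiv {p : ℕ} {A B : Type*} [Group A] [Group B] (e : A ≃* B)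
    (h : Subgroup.centralizer (pCore p B : Set B) ≤ pCore p B) :
    Subgroup.centralizer (pCore p A : Set A) ≤ pCore p A := by
  have hmap : (pCore p A).map e.toMonoidHom = pCore p B := pCore_map_equiv e
  intro x hx
  have h1 : e x ∈ Subgroup.centralizer (pCore p B : Set B) := by
    rw [Subgroup.mem_centralizer_iff]
    intro y hy
    rw [SetLike.mem_coe, ← hmap] at hy
    obtain ⟨q, hq, rfl⟩ := hy
    have h2 := Subgroup.mem_centralizer_iff.mp hx q hq
    show e q * e x = e x * e q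
    rw [← map_mul, ← map_mul, h2]
  have h3 := h h1
  rw [← hmap] at h3
  obtain ⟨q, hq, hqx⟩ := h3
  have : q = x := e.injective hqx
  rw [← this]; exact hq

theorem pCoreOf_le (p : ℕ) (L : Subgroup H) : pCoreOf p L ≤ L := Subgroup.map_subtype_le _

theorem pCoreOf_isPGroup [Finite H] (p : ℕ) [Fact p.Prime] (L : Subgroup H) :
    IsPGroup p (pCoreOf p L) := (pCore_isPGroup' p ↥L).map _

theorem le_normalizer_pCoreOf (p : ℕ) (L : Subgroup H) :
    L ≤ Subgroup.normalizer (pCoreOf p L : Set H) := by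
  rw [Subgroup.le_normalizer_iff]
  rintro l hl _ ⟨y, hy, rfl⟩
  exact ⟨⟨l, hl⟩ * y * ⟨l, hl⟩⁻¹, (pCore_normal' p ↥L).conj_mem y hy _, rfl⟩

theorem le_pCoreOf {p : ℕ} {K L : Subgroup H} (hKL : K ≤ L) (hK : IsPGroup p K)
    (hn : L ≤ Subgroup.normalizer (K : Set H)) : K ≤ pCoreOf p L := by
  have h1 : K.subgroupOf L ≤ pCore p ↥L := by
    apply le_pCore'
    · constructor
      intro n hn' g
      rw [Subgroup.mem_subgroupOf] at hn' ⊢
      exact (Subgroup.le_normalizer_iff.mp hn) (g : H) g.2 (n : H) hn'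
    · exact hK.comap_subtype
  intro z hz
  exact ⟨⟨z, hKL hz⟩, h1 (by rw [Subgroup.mem_subgroupOf]; exact hz), rfl⟩

theorem le_normalizer_pCoreOf_of_le_normalizer [Finite H] {p : ℕ} [Fact p.Prime]
    {N K : Subgroup H} (h : N ≤ Subgroup.normalizer (K : Set H)) :
    N ≤ Subgroup.normalizer (pCoreOf p K : Set H) := by
  rw [Subgroup.le_normalizer_iff]
  intro n hn x hx
  have hK₁ : (pCoreOf p K).map (MulAut.conj n).toMonoidHom ≤ pCoreOf p K := by
    apply le_pCoreOf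
    · rintro _ ⟨y, hy, rfl⟩
      exact (Subgroup.le_normalizer_iff.mp h) n hn y (pCoreOf_le p K hy)
    · exact (pCoreOf_isPGroup p K).map _
    · rw [Subgroup.le_normalizer_iff]
      rintro k hk _ ⟨y, hy, rfl⟩
      have hk' : n⁻¹ * k * n ∈ K := by
        have := (Subgroup.le_normalizer_iff.mp h) n⁻¹ (N.inv_mem hn) k hk
        simpa using this
      have h2 := (Subgroup.le_normalizer_iff.mp (le_normalizer_pCoreOf p K)) _ hk' y hy
      refine ⟨(n⁻¹ * k * n) * y * (n⁻¹ * k * n)⁻¹, h2, ?_⟩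
      show n * ((n⁻¹ * k * n) * y * (n⁻¹ * k * n)⁻¹) * n⁻¹ = k * (n * y * n⁻¹) * k⁻¹
      group
  exact hK₁ ⟨x, hx, rfl⟩

/-- a `p'`-element centralizing the `p`-group `D` and acting trivially on `r` modulo `D`
centralizes `r` -/
theorem coprime_stab' [Finite H] {p : ℕ} [Fact p.Prime] (D : Subgroup H)
    (hD : IsPGroup p D) (y r : H) (hy : (orderOf y).Coprime p)
    (hyD : ∀ d ∈ D, y * d = d * y) (hr : y * r * y⁻¹ * r⁻¹ ∈ D) : y * r = r * y :=
  Cfsg.Agent.S2961.coprime_stab D hD y r hy hyD hr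

/-- the subgroup of elements normalizing `D` and acting trivially on `R` modulo `D` -/
def stabSub (D R : Subgroup H) : Subgroup H where
  carrier := {g | g ∈ Subgroup.normalizer (D : Set H) ∧ ∀ r ∈ R, g * r * g⁻¹ * r⁻¹ ∈ D}
  one_mem' := by
    refine ⟨one_mem _, ?_⟩
    intro r _
    have : (1 : H) * r * 1⁻¹ * r⁻¹ = 1 := by group
    rw [this]; exact one_mem _
  mul_mem' := by
    rintro g h ⟨hg1, hg2⟩ ⟨hh1, hh2⟩
    refine ⟨mul_mem hg1 hh1, ?_⟩
    intro r hr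
    have h1 : g * h * r * (g * h)⁻¹ * r⁻¹ =
        g * (h * r * h⁻¹ * r⁻¹) * g⁻¹ * (g * r * g⁻¹ * r⁻¹) := by group
    rw [h1]
    exact mul_mem ((Subgroup.mem_normalizer_iff.mp hg1 _).mp (hh2 r hr)) (hg2 r hr)
  inv_mem' := by
    rintro g ⟨hg1, hg2⟩
    refine ⟨inv_mem hg1, ?_⟩
    intro r hr
    have h1 : g⁻¹ * r * g⁻¹⁻¹ * r⁻¹ = g⁻¹ * (g * r * g⁻¹ * r⁻¹)⁻¹ * g⁻¹⁻¹ := by group
    rw [h1]
    exact (Subgroup.mem_normalizer_iff.mp (inv_mem hg1) _).mp (inv_mem (hg2 r hr))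

theorem mem_stabSub {D R : Subgroup H} {g : H} :
    g ∈ stabSub D R ↔ g ∈ Subgroup.normalizer (D : Set H) ∧ ∀ r ∈ R, g * r * g⁻¹ * r⁻¹ ∈ D :=
  Iff.rfl

variable [Finite H] {p : ℕ} [Fact p.Prime]

/-- a weakly closed subgroup is the only conjugate of itself in any `p`-subgroup containing it -/
theorem wc_conj_eq {Q : Subgroup H} (hwc : IsWeaklyClosedSubgroup p Q) (R : Subgroup H)
    (hR : IsPGroup p R) (hQR : Q ≤ R) (g : H) (hg : Q.map (MulAut.conj g).toMonoidHom ≤ R) :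
    Q.map (MulAut.conj g).toMonoidHom = Q := by
  obtain ⟨T, hQT, hT⟩ := hwc
  obtain ⟨T₁, hT₁⟩ := hR.exists_le_sylow
  obtain ⟨k, hk⟩ := MulAction.exists_smul_eq H T₁ T
  have hmem : ∀ r ∈ R, k * r * k⁻¹ ∈ (T : Subgroup H) := by
    intro r hr
    have h1 : r ∈ (T₁ : Subgroup H) := hT₁ hr
    have h2 : k * r * k⁻¹ ∈ ((k • T₁ : Sylow p H) : Subgroup H) := by
      rw [mem_sylow_smul_iff]
      have : k⁻¹ * (k * r * k⁻¹) * k = r := by group
      rw [this]; exact h1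
    rw [hk] at h2; exact h2
  have h1 : Q.map (MulAut.conj k).toMonoidHom = Q := by
    apply hT k
    rintro _ ⟨q, hq, rfl⟩
    exact hmem q (hQR hq)
  have h2 : Q.map (MulAut.conj (k * g)).toMonoidHom = Q := by
    apply hT (k * g)
    rintro _ ⟨q, hq, rfl⟩
    have h3 : g * q * g⁻¹ ∈ R := hg ⟨q, hq, rfl⟩
    have h4 := hmem _ h3
    have h5 : (MulAut.conj (k * g)).toMonoidHom q = k * (g * q * g⁻¹) * k⁻¹ := by
      show k * g * q * (k * g)⁻¹ = _
      group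
    rw [h5]; exact h4
  have hle : Q.map (MulAut.conj g).toMonoidHom ≤ Q := by
    rintro _ ⟨q, hq, rfl⟩
    have h3 : k * (g * q * g⁻¹) * k⁻¹ ∈ Q.map (MulAut.conj (k * g)).toMonoidHom :=
      ⟨q, hq, by show k * g * q * (k * g)⁻¹ = _; group⟩
    rw [h2] at h3
    have h3' : k * (g * q * g⁻¹) * k⁻¹ ∈ Q.map (MulAut.conj k).toMonoidHom := by
      rw [h1]; exact h3
    obtain ⟨q', hq', hqq⟩ := h3'
    have h7 : k * q' * k⁻¹ = k * (g * q * g⁻¹) * k⁻¹ := hqq
    have h6 : q' = g * q * g⁻¹ := by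
      calc q' = k⁻¹ * (k * q' * k⁻¹) * k := by group
        _ = k⁻¹ * (k * (g * q * g⁻¹) * k⁻¹) * k := by rw [h7]
        _ = g * q * g⁻¹ := by group
    show g * q * g⁻¹ ∈ Q
    rw [← h6]; exact hq'
  apply Subgroup.eq_of_le_of_card_ge hle
  rw [Subgroup.card_map_of_injective (MulAut.conj g).injective]

/-- a weakly closed subgroup is normal in every `p`-subgroup containing it -/
theorem wc_le_normalizer {Q : Subgroup H} (hwc : IsWeaklyClosedSubgroup p Q) (R : Subgroup H)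
    (hR : IsPGroup p R) (hQR : Q ≤ R) : R ≤ Subgroup.normalizer (Q : Set H) := by
  rw [Subgroup.le_normalizer_iff]
  intro r hr q hq
  have h1 := wc_conj_eq hwc R hR hQR r (by
    rintro _ ⟨q', hq', rfl⟩
    exact R.mul_mem (R.mul_mem hr (hQR hq')) (R.inv_mem hr))
  have h2 : r * q * r⁻¹ ∈ Q.map (MulAut.conj r).toMonoidHom := ⟨q, hq, rfl⟩
  rw [h1] at h2
  exact h2

/-- every overgroup of a weakly closed self-centralizing `p`-subgroup inside a subgroup of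
characteristic `p` has characteristic `p` -/
theorem charPIn_of_wc {Q : Subgroup H} (hQp : IsPGroup p Q) (hwc : IsWeaklyClosedSubgroup p Q)
    (hCQ : Subgroup.centralizer (Q : Set H) ≤ Q) (H₁ : Subgroup H) (hH₁ : CharPIn p H₁)
    (L : Subgroup H) (hQL : Q ≤ L) (hLH : L ≤ H₁) : CharPIn p L := by
  obtain ⟨Q', hQ'⟩ : ∃ Q' : Subgroup ↥H₁, Q' = Q.subgroupOf H₁ := ⟨_, rfl⟩
  have hQ'p : IsPGroup p Q' := by rw [hQ']; exact hQp.comap_subtype
  obtain ⟨T, hT⟩ := hQ'p.exists_le_sylow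
  have hTp : IsPGroup p ((T : Subgroup ↥H₁).map H₁.subtype) := T.isPGroup'.map _
  have hQT' : Q ≤ (T : Subgroup ↥H₁).map H₁.subtype := by
    intro q hq
    exact ⟨⟨q, hLH (hQL hq)⟩, hT (by rw [hQ', Subgroup.mem_subgroupOf]; exact hq), rfl⟩
  have hn := wc_le_normalizer hwc _ hTp hQT'
  have hQn : (T : Subgroup ↥H₁) ≤ Subgroup.normalizer (Q' : Set ↥H₁) := by
    rw [Subgroup.le_normalizer_iff]
    intro t ht x hx
    rw [hQ', Subgroup.mem_subgroupOf] at hx ⊢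
    exact (Subgroup.le_normalizer_iff.mp hn) (t : H) ⟨t, ht, rfl⟩ (x : H) hx
  have hC : (T : Subgroup ↥H₁) ⊓ Subgroup.centralizer (Q' : Set ↥H₁) ≤ Q' := by
    rintro x ⟨-, hx⟩
    rw [hQ', Subgroup.mem_subgroupOf]
    apply hCQ
    rw [Subgroup.mem_centralizer_iff]
    intro q hq
    have h2 := Subgroup.mem_centralizer_iff.mp hx ⟨q, hLH (hQL hq)⟩
      (by rw [SetLike.mem_coe, hQ', Subgroup.mem_subgroupOf]; exact hq)
    exact congrArg Subtype.val h2
  have hQL' : Q' ≤ L.subgroupOf H₁ := by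
    intro x hx
    rw [hQ', Subgroup.mem_subgroupOf] at hx
    rw [Subgroup.mem_subgroupOf]
    exact hQL hx
  have hres := Cfsg.Agent.S2961.result ((charPIn_iff p H₁).mp hH₁) T Q' hT hQn hC
    (L.subgroupOf H₁) hQL'
  exact (charPIn_iff p L).mpr (charp_of_equiv (Subgroup.subgroupOfEquivOfLe hLH).symm hres)

theorem wc_main (Q : Subgroup H) (hQp : IsPGroup p Q) (hwc : IsWeaklyClosedSubgroup p Q)
    (hCQ : Subgroup.centralizer (Q : Set H) ≤ Q) (L : Subgroup H) (hQL : Q ≤ L)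
    (H₁ : Subgroup H) (hH₁ : CharPIn p H₁) (hQH₁ : Q ≤ H₁)
    (hCH₁ : Subgroup.centralizer (pCoreOf p L : Set H) ≤ H₁) :
    ⁅Q, Subgroup.centralizer (pCoreOf p L : Set H)⁆ ≤ Q ⊓ pCoreOf p L ∧
      IsPGroup p ↥(Subgroup.centralizer (pCoreOf p L : Set H)) ∧ CharPIn p L := by
  have hp : p.Prime := Fact.out
  obtain ⟨P, hPdef⟩ : ∃ P, P = pCoreOf p L := ⟨_, rfl⟩
  have hPL : P ≤ L := hPdef ▸ pCoreOf_le p L
  have hPp : IsPGroup p P := hPdef ▸ pCoreOf_isPGroup p L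
  have hLP : L ≤ Subgroup.normalizer (P : Set H) := hPdef ▸ le_normalizer_pCoreOf p L
  obtain ⟨C, hCdef⟩ : ∃ C, C = Subgroup.centralizer (P : Set H) := ⟨_, rfl⟩
  have hmemC : ∀ c, c ∈ C ↔ ∀ x ∈ P, x * c = c * x := by
    intro c; rw [hCdef]; exact Subgroup.mem_centralizer_iff
  rw [← hPdef, ← hCdef] at hCH₁ ⊢
  -- `L` normalizes `C`
  have hLC : L ≤ Subgroup.normalizer (C : Set H) := by
    rw [Subgroup.le_normalizer_iff]
    intro l hl c hc
    rw [hmemC] at hc ⊢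
    intro x hx
    have hx' : l⁻¹ * x * l ∈ P := by
      have := (Subgroup.le_normalizer_iff.mp hLP) l⁻¹ (L.inv_mem hl) x hx
      simpa using this
    have h1 := hc _ hx'
    calc x * (l * c * l⁻¹) = l * ((l⁻¹ * x * l) * c) * l⁻¹ := by group
      _ = l * (c * (l⁻¹ * x * l)) * l⁻¹ := by rw [h1]
      _ = l * c * l⁻¹ * x := by group
  have hQC : Q ≤ Subgroup.normalizer (C : Set H) := hQL.trans hLC
  -- Step 1: `L` has characteristic `p`
  have hcharL : CharPIn p L := by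
    obtain ⟨Ly, hLy⟩ : ∃ Ly, Ly = L ⊓ H₁ := ⟨_, rfl⟩
    have hQLy : Q ≤ Ly := by rw [hLy]; exact le_inf hQL hQH₁
    have hLyL : Ly ≤ L := by rw [hLy]; exact inf_le_left
    have hLyc : CharPIn p Ly :=
      charPIn_of_wc hQp hwc hCQ H₁ hH₁ Ly hQLy (by rw [hLy]; exact inf_le_right)
    obtain ⟨CL, hCL⟩ : ∃ CL, CL = L ⊓ C := ⟨_, rfl⟩
    have hCLL : CL ≤ L := by rw [hCL]; exact inf_le_left
    have hCLC : CL ≤ C := by rw [hCL]; exact inf_le_right
    have hCLLy : CL ≤ Ly := by rw [hCL, hLy]; exact inf_le_inf_left L hCH₁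
    obtain ⟨R, hR⟩ : ∃ R, R = pCoreOf p Ly := ⟨_, rfl⟩
    have hRp : IsPGroup p R := hR ▸ pCoreOf_isPGroup p Ly
    have hRLy : R ≤ Ly := hR ▸ pCoreOf_le p Ly
    have hLyR : Ly ≤ Subgroup.normalizer (R : Set H) := hR ▸ le_normalizer_pCoreOf p Ly
    have hLCL : L ≤ Subgroup.normalizer (CL : Set H) := by
      rw [Subgroup.le_normalizer_iff]
      intro l hl c hc
      rw [hCL] at hc ⊢
      exact ⟨L.mul_mem (L.mul_mem hl hc.1) (L.inv_mem hl),
        (Subgroup.le_normalizer_iff.mp hLC) l hl c hc.2⟩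
    have hRCL : R ⊓ CL ≤ P := by
      have h1 : R ⊓ CL ≤ pCoreOf p CL := by
        apply le_pCoreOf inf_le_right (hRp.to_le inf_le_left)
        rw [Subgroup.le_normalizer_iff]
        intro c hc x hx
        exact ⟨(Subgroup.le_normalizer_iff.mp hLyR) c (hCLLy hc) x hx.1,
          CL.mul_mem (CL.mul_mem hc hx.2) (CL.inv_mem hc)⟩
      have h2 : pCoreOf p CL ≤ P := by
        rw [hPdef]
        exact le_pCoreOf ((pCoreOf_le p CL).trans hCLL) (pCoreOf_isPGroup p CL)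
          (le_normalizer_pCoreOf_of_le_normalizer hLCL)
      exact h1.trans h2
    have hCLp : IsPGroup p CL := by
      apply Cfsg.Agent.S2961.isPGroup_of_pprime_trivial
      intro y hy hcop
      have hyC : y ∈ C := hCLC hy
      have hyZ : ∀ d ∈ R ⊓ CL, y * d = d * y :=
        fun d hd => ((hmemC y).mp hyC d (hRCL hd)).symm
      have hyR : ∀ r ∈ R, y * r = r * y := by
        intro r hr
        apply coprime_stab' (R ⊓ CL) (hRp.to_le inf_le_left) y r hcop hyZ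
        refine ⟨?_, ?_⟩
        · exact R.mul_mem ((Subgroup.le_normalizer_iff.mp hLyR) y (hCLLy hy) r hr) (R.inv_mem hr)
        · have h1 : r * y⁻¹ * r⁻¹ ∈ CL :=
            (Subgroup.le_normalizer_iff.mp hLCL) r (hLyL (hRLy hr)) y⁻¹ (CL.inv_mem hy)
          have h2 : y * r * y⁻¹ * r⁻¹ = y * (r * y⁻¹ * r⁻¹) := by group
          rw [h2]; exact CL.mul_mem hy h1
      have hyin : y ∈ R := by
        rw [hR]
        apply hLyc
        refine Subgroup.mem_inf.mpr ⟨hCLLy hy, ?_⟩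
        rw [Subgroup.mem_centralizer_iff]
        intro r hr
        rw [SetLike.mem_coe, ← hR] at hr
        exact (hyR r hr).symm
      exact Cfsg.Agent.S2961.eq_one_of_pgroup_coprime hRp hyin hcop
    have hCLP : CL ≤ P := by
      rw [hPdef]
      exact le_pCoreOf hCLL hCLp hLCL
    intro x hx
    rw [← hPdef]
    apply hCLP
    rw [hCL]
    refine ⟨hx.1, ?_⟩
    rw [hCdef, hPdef]
    exact hx.2
  -- `Z₀ = Q ⊓ C ≤ P` is centralized by `C`
  have hZ₀P : Q ⊓ C ≤ P := by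
    intro z hz
    have h1 : z ∈ L ⊓ Subgroup.centralizer (pCoreOf p L : Set H) :=
      ⟨hQL hz.1, by rw [← hPdef, ← hCdef]; exact hz.2⟩
    rw [hPdef]; exact hcharL h1
  have hCZ₀ : ∀ c ∈ C, ∀ z ∈ Q ⊓ C, c * z = z * c :=
    fun c hc z hz => ((hmemC c).mp hc z (hZ₀P hz)).symm
  have hZ₀p : IsPGroup p (Q ⊓ C : Subgroup H) := hQp.to_le inf_le_left
  -- the subgroup `X = Q C`
  obtain ⟨X, hXdef⟩ : ∃ X, X = Q ⊔ C := ⟨_, rfl⟩
  have hQX : Q ≤ X := by rw [hXdef]; exact le_sup_left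
  have hCX : C ≤ X := by rw [hXdef]; exact le_sup_right
  have hXH₁ : X ≤ H₁ := by rw [hXdef]; exact sup_le hQH₁ hCH₁
  have hXc : CharPIn p X := charPIn_of_wc hQp hwc hCQ H₁ hH₁ X hQX hXH₁
  have hXC : X ≤ Subgroup.normalizer (C : Set H) := by
    rw [hXdef]; exact sup_le hQC Subgroup.le_normalizer
  obtain ⟨D, hDdef⟩ : ∃ D, D = pCoreOf p X := ⟨_, rfl⟩
  have hDp : IsPGroup p D := hDdef ▸ pCoreOf_isPGroup p X
  have hDX : D ≤ X := hDdef ▸ pCoreOf_le p X
  have hXD : X ≤ Subgroup.normalizer (D : Set H) := hDdef ▸ le_normalizer_pCoreOf p X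
  have hXD₀ : X ≤ Subgroup.normalizer ((D ⊓ C : Subgroup H) : Set H) := by
    rw [Subgroup.le_normalizer_iff]
    intro x hx d hd
    exact ⟨(Subgroup.le_normalizer_iff.mp hXD) x hx d hd.1,
      (Subgroup.le_normalizer_iff.mp hXC) x hx d hd.2⟩
  -- `Q` acts trivially on `D₀ / Z₀`
  have hα : ∀ q ∈ Q, ∀ d ∈ D ⊓ C, q * d * q⁻¹ * d⁻¹ ∈ Q ⊓ C := by
    intro q hq d hd
    refine ⟨?_, ?_⟩
    · have hpg : IsPGroup p (Q ⊔ (D ⊓ C) : Subgroup H) :=
        IsPGroup.to_sup_of_normal_right' hQp (hDp.to_le inf_le_left) (hQX.trans hXD₀)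
      have hn := wc_le_normalizer hwc _ hpg le_sup_left
      have h1 : d * q⁻¹ * d⁻¹ ∈ Q :=
        (Subgroup.le_normalizer_iff.mp hn) d (Subgroup.mem_sup_right hd) q⁻¹ (Q.inv_mem hq)
      have h2 : q * d * q⁻¹ * d⁻¹ = q * (d * q⁻¹ * d⁻¹) := by group
      rw [h2]; exact Q.mul_mem hq h1
    · exact C.mul_mem ((Subgroup.le_normalizer_iff.mp hQC) q hq d hd.2) (C.inv_mem hd.2)
  have hQZ₀ : Q ≤ Subgroup.normalizer ((Q ⊓ C : Subgroup H) : Set H) := by
    rw [Subgroup.le_normalizer_iff]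
    intro q hq z hz
    exact ⟨Q.mul_mem (Q.mul_mem hq hz.1) (Q.inv_mem hq),
      (Subgroup.le_normalizer_iff.mp hQC) q hq z hz.2⟩
  have hconjZ : ∀ c ∈ C, ∀ z ∈ Q ⊓ C, c * z * c⁻¹ = z := by
    intro c hc z hz
    rw [hCZ₀ c hc z hz]; group
  -- `[Q, C]` stabilizes `Z₀ ≤ D₀`
  have hB : ⁅Q, C⁆ ≤ stabSub (Q ⊓ C) (D ⊓ C) := by
    rw [Subgroup.commutator_le]
    intro q hq c hc
    have hqS : q ∈ stabSub (Q ⊓ C) (D ⊓ C) := mem_stabSub.mpr ⟨hQZ₀ hq, hα q hq⟩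
    have hcS : c * q⁻¹ * c⁻¹ ∈ stabSub (Q ⊓ C) (D ⊓ C) := by
      rw [mem_stabSub]
      constructor
      · rw [Subgroup.mem_normalizer_iff]
        have key : ∀ z ∈ Q ⊓ C, ∀ q' ∈ Q, (c * q' * c⁻¹) * z * (c * q' * c⁻¹)⁻¹ ∈ Q ⊓ C := by
          intro z hz q' hq'
          have h1 : q' * z * q'⁻¹ ∈ Q ⊓ C := (Subgroup.le_normalizer_iff.mp hQZ₀) q' hq' z hz
          have h2 : (c * q' * c⁻¹) * z * (c * q' * c⁻¹)⁻¹ =
              c * (q' * (c⁻¹ * z * c⁻¹⁻¹) * q'⁻¹) * c⁻¹ := by group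
          rw [h2, hconjZ c⁻¹ (C.inv_mem hc) z hz, hconjZ c hc _ h1]
          exact h1
        intro z
        constructor
        · intro hz
          exact key z hz q⁻¹ (Q.inv_mem hq)
        · intro hz
          have h3 := key _ hz q hq
          have h4 : (c * q * c⁻¹) * ((c * q⁻¹ * c⁻¹) * z * (c * q⁻¹ * c⁻¹)⁻¹) * (c * q * c⁻¹)⁻¹ = z := by
            group
          rw [h4] at h3
          exact h3
      · intro d hd
        have hd' : c⁻¹ * d * c ∈ D ⊓ C := by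
          have := (Subgroup.le_normalizer_iff.mp hXD₀) c⁻¹ (hCX (C.inv_mem hc)) d hd
          simpa using this
        have h1 := hα q⁻¹ (Q.inv_mem hq) _ hd'
        have h2 : (c * q⁻¹ * c⁻¹) * d * (c * q⁻¹ * c⁻¹)⁻¹ * d⁻¹ =
            c * (q⁻¹ * (c⁻¹ * d * c) * q⁻¹⁻¹ * (c⁻¹ * d * c)⁻¹) * c⁻¹ := by group
        rw [h2, hconjZ c hc _ h1]
        exact h1
    have h5 : ⁅q, c⁆ = q * (c * q⁻¹ * c⁻¹) := by rw [commutatorElement_def]; group
    rw [h5]
    exact Subgroup.mul_mem _ hqS hcS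
  have hBC : ⁅Q, C⁆ ≤ C := by
    rw [Subgroup.commutator_le]
    intro q hq c hc
    rw [commutatorElement_def]
    exact C.mul_mem ((Subgroup.le_normalizer_iff.mp hQC) q hq c hc) (C.inv_mem hc)
  -- `[Q, C]` is a `p`-group
  have hBp : IsPGroup p (⁅Q, C⁆ : Subgroup H) := by
    apply Cfsg.Agent.S2961.isPGroup_of_pprime_trivial
    intro y hy hcop
    have hyC : y ∈ C := hBC hy
    have hyX : y ∈ X := hCX hyC
    have hyZ : ∀ z ∈ Q ⊓ C, y * z = z * y := hCZ₀ y hyC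
    have hyD₀ : ∀ d ∈ D ⊓ C, y * d = d * y := by
      intro d hd
      exact coprime_stab' (Q ⊓ C) hZ₀p y d hcop hyZ ((mem_stabSub.mp (hB hy)).2 d hd)
    have hyD : ∀ d ∈ D, y * d = d * y := by
      intro d hd
      apply coprime_stab' (D ⊓ C) (hDp.to_le inf_le_left) y d hcop hyD₀
      refine ⟨?_, ?_⟩
      · exact D.mul_mem ((Subgroup.le_normalizer_iff.mp hXD) y hyX d hd) (D.inv_mem hd)
      · have h1 : d * y⁻¹ * d⁻¹ ∈ C :=
          (Subgroup.le_normalizer_iff.mp hXC) d (hDX hd) y⁻¹ (C.inv_mem hyC)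
        have h2 : y * d * y⁻¹ * d⁻¹ = y * (d * y⁻¹ * d⁻¹) := by group
        rw [h2]; exact C.mul_mem hyC h1
    have hyin : y ∈ D := by
      rw [hDdef]
      apply hXc
      refine Subgroup.mem_inf.mpr ⟨hyX, ?_⟩
      rw [Subgroup.mem_centralizer_iff]
      intro d hd
      rw [SetLike.mem_coe, ← hDdef] at hd
      exact (hyD d hd).symm
    exact Cfsg.Agent.S2961.eq_one_of_pgroup_coprime hDp hyin hcop
  -- `C` normalizes `Q`
  have hWp : IsPGroup p (Q ⊔ ⁅Q, C⁆ : Subgroup H) :=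
    IsPGroup.to_sup_of_normal_right' hQp hBp
      (Cfsg.Agent.Lib.Helper7.le_normalizer_commutator_left Q C)
  have hCQn : C ≤ Subgroup.normalizer (Q : Set H) := by
    rw [Subgroup.le_normalizer_iff]
    intro c hc q hq
    have h1 := wc_conj_eq hwc _ hWp le_sup_left c (by
      rintro _ ⟨q', hq', rfl⟩
      have h2 : c * q' * c⁻¹ = ⁅q', c⁆⁻¹ * q' := by rw [commutatorElement_def]; group
      show c * q' * c⁻¹ ∈ _
      rw [h2]
      exact Subgroup.mul_mem _ (Subgroup.mem_sup_right (Subgroup.inv_mem _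
        (Subgroup.commutator_mem_commutator hq' hc))) (Subgroup.mem_sup_left hq'))
    have h3 : c * q * c⁻¹ ∈ Q.map (MulAut.conj c).toMonoidHom := ⟨q, hq, rfl⟩
    rw [h1] at h3
    exact h3
  have hcomm : ∀ q ∈ Q, ∀ c ∈ C, q * c * q⁻¹ * c⁻¹ ∈ Q ⊓ C := by
    intro q hq c hc
    refine ⟨?_, C.mul_mem ((Subgroup.le_normalizer_iff.mp hQC) q hq c hc) (C.inv_mem hc)⟩
    have h1 : c * q⁻¹ * c⁻¹ ∈ Q := (Subgroup.le_normalizer_iff.mp hCQn) c hc q⁻¹ (Q.inv_mem hq)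
    have h2 : q * c * q⁻¹ * c⁻¹ = q * (c * q⁻¹ * c⁻¹) := by group
    rw [h2]; exact Q.mul_mem hq h1
  refine ⟨?_, ?_, hcharL⟩
  · rw [Subgroup.commutator_le]
    intro q hq c hc
    rw [commutatorElement_def]
    have h1 := hcomm q hq c hc
    exact ⟨h1.1, hZ₀P h1⟩
  · apply Cfsg.Agent.S2961.isPGroup_of_pprime_trivial
    intro y hy hcop
    have hyQ : ∀ q ∈ Q, y * q = q * y := by
      intro q hq
      apply coprime_stab' (Q ⊓ C) hZ₀p y q hcop (hCZ₀ y hy)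
      have h1 := hcomm q hq y hy
      have h2 : y * q * y⁻¹ * q⁻¹ = (q * y * q⁻¹ * y⁻¹)⁻¹ := by group
      rw [h2]
      exact Subgroup.inv_mem _ h1
    have hyin : y ∈ Q := by
      apply hCQ
      rw [Subgroup.mem_centralizer_iff]
      intro q hq
      exact (hyQ q hq).symm
    exact Cfsg.Agent.S2961.eq_one_of_pgroup_coprime hQp hyin hcop

end WCChar

end Cfsg.Agent.Lib.Helper3
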