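import Cfsg.Agent.S2961
import Cfsg.Agent.S2908
import Cfsg.Agent.Lib.Helper3.WCChar
import Cfsg.Agent.Lib.Helper3.GT1
import Cfsg.Agent.Lib.Helper3.CharPLoc
import Cfsg.Agent.Lib.Helper3.Glauberman
import Cfsg.Agent.Lib.Helper7.PQ

/-! Characteristic `p` (internal form): normal subgroups, `p`-locals; parabolic characteristic `p`
passes to suitable normal subgroups. -/

set_option autoImplicit false

namespace Cfsg.Agent.Lib.Helper3

open Cfsg

section ParaChar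

variable {H : Type*} [Group H]

theorem exists_pow_order_p {p : ℕ} {P : Subgroup H} (hP : IsPGroup p P) {z : H}
    (hz : z ∈ P) (hz1 : z ≠ 1) : ∃ k : ℕ, z ^ (p ^ k) ≠ 1 ∧ (z ^ (p ^ k)) ^ p = 1 := by
  classical
  have hex : ∃ n, z ^ (p ^ n) = 1 := by
    obtain ⟨n, hn⟩ := hP ⟨z, hz⟩
    exact ⟨n, by simpa using congrArg Subtype.val hn⟩
  have h0 : Nat.find hex ≠ 0 := by
    intro h
    have h1 := Nat.find_spec hex
    rw [h, pow_zero, pow_one] at h1
    exact hz1 h1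
  obtain ⟨k, hk⟩ := Nat.exists_eq_succ_of_ne_zero h0
  refine ⟨k, ?_, ?_⟩
  · exact Nat.find_min hex (by omega)
  · rw [← pow_mul, ← pow_succ, ← Nat.succ_eq_add_one, ← hk]; exact Nat.find_spec hex

variable [Finite H] {p : ℕ} [Fact p.Prime]

/-- internal char `p` criterion: every `p'`-element of `N ⊓ C(O_p(N))` is trivial -/
theorem charPIn_of_pprime_trivial (N : Subgroup H)
    (h : ∀ x ∈ N, x ∈ Subgroup.centralizer (pCoreOf p N : Set H) → (orderOf x).Coprime p → x = 1) :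
    CharPIn p N := by
  have hDp : IsPGroup p ↥(N ⊓ Subgroup.centralizer (pCoreOf p N : Set H)) := by
    apply Cfsg.Agent.S2961.isPGroup_of_pprime_trivial
    intro x hx hxo
    exact h x (Subgroup.mem_inf.mp hx).1 (Subgroup.mem_inf.mp hx).2 hxo
  show N ⊓ Subgroup.centralizer (pCoreOf p N : Set H) ≤ pCoreOf p N
  apply le_pCoreOf inf_le_left hDp
  intro n hn
  apply fin_mem_normalizer
  intro x hx
  obtain ⟨hx1, hx2⟩ := Subgroup.mem_inf.mp hx
  refine Subgroup.mem_inf.mpr ⟨N.mul_mem (N.mul_mem hn hx1) (N.inv_mem hn), ?_⟩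
  have hn2 := normalizer_le_normalizer_centralizer' (pCoreOf p N) (le_normalizer_pCoreOf p N hn)
  exact (Subgroup.mem_normalizer_iff.mp hn2 x).mp hx2

/-- a normal subgroup of a group of characteristic `p` has characteristic `p` -/
theorem charPIn_of_normal {L M : Subgroup H} (hL : CharPIn p L) (hML : M ≤ L)
    (hn : L ≤ Subgroup.normalizer (M : Set H)) : CharPIn p M := by
  apply charPIn_of_pprime_trivial
  intro x hxM hxC hxo
  have hLQ := le_normalizer_pCoreOf p L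
  have hQp := pCoreOf_isPGroup p L
  have hQM : pCoreOf p L ⊓ M ≤ pCoreOf p M := by
    apply le_pCoreOf inf_le_right (hQp.to_le inf_le_left)
    intro m hm
    apply fin_mem_normalizer
    intro y hy
    obtain ⟨hy1, hy2⟩ := Subgroup.mem_inf.mp hy
    exact Subgroup.mem_inf.mpr ⟨(Subgroup.mem_normalizer_iff.mp (hLQ (hML hm)) y).mp hy1,
      M.mul_mem (M.mul_mem hm hy2) (M.inv_mem hm)⟩
  have hxQ : x ∈ Subgroup.centralizer (pCoreOf p L : Set H) := by
    rw [Subgroup.mem_centralizer_iff]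
    intro q hq
    have hqL : q ∈ L := pCoreOf_le p L hq
    have h1 : x * q * x⁻¹ * q⁻¹ ∈ pCoreOf p L ⊓ M := by
      refine Subgroup.mem_inf.mpr ⟨?_, ?_⟩
      · exact Subgroup.mul_mem _ ((Subgroup.mem_normalizer_iff.mp (hLQ (hML hxM)) q).mp hq)
          (Subgroup.inv_mem _ hq)
      · have h2 : x * q * x⁻¹ * q⁻¹ = x * (q * x⁻¹ * q⁻¹) := by group
        rw [h2]
        exact M.mul_mem hxM ((Subgroup.mem_normalizer_iff.mp (hn hqL) x⁻¹).mp (M.inv_mem hxM))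
    exact (coprime_stab' (pCoreOf p L ⊓ M) (hQp.to_le inf_le_left) x q hxo
      (fun d hd => (Subgroup.mem_centralizer_iff.mp hxC d (hQM hd)).symm) h1).symm
  have hxQ' : x ∈ pCoreOf p L := hL (Subgroup.mem_inf.mpr ⟨hML hxM, hxQ⟩)
  exact Cfsg.Agent.S2961.eq_one_of_pgroup_coprime hQp hxQ' hxo

/-- a `p`-local subgroup of a group of characteristic `p` has characteristic `p` -/
theorem charPIn_local {L P : Subgroup H} (hL : CharPIn p L) (hP : IsPGroup p P) (hPL : P ≤ L) :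
    CharPIn p (L ⊓ Subgroup.normalizer (P : Set H)) := by
  obtain ⟨N, hN⟩ : ∃ N : Subgroup H, N = L ⊓ Subgroup.normalizer (P : Set H) := ⟨_, rfl⟩
  rw [← hN]
  have hNL : N ≤ L := by rw [hN]; exact inf_le_left
  have hNP : N ≤ Subgroup.normalizer (P : Set H) := by rw [hN]; exact inf_le_right
  have hPN : P ≤ N := by rw [hN]; exact le_inf hPL Subgroup.le_normalizer
  have hPP₀ : P ≤ pCoreOf p N := le_pCoreOf hPN hP hNP
  have hLQ : L ≤ Subgroup.normalizer (pCoreOf p L : Set H) := le_normalizer_pCoreOf p L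
  have hQp : IsPGroup p (pCoreOf p L) := pCoreOf_isPGroup p L
  have hQN : pCoreOf p L ⊓ N ≤ pCoreOf p N := by
    apply le_pCoreOf inf_le_right (hQp.to_le inf_le_left)
    intro n hn
    apply fin_mem_normalizer
    intro x hx
    obtain ⟨hx1, hx2⟩ := Subgroup.mem_inf.mp hx
    exact Subgroup.mem_inf.mpr ⟨(Subgroup.mem_normalizer_iff.mp (hLQ (hNL hn)) x).mp hx1,
      N.mul_mem (N.mul_mem hn hx2) (N.inv_mem hn)⟩
  apply charPIn_of_pprime_trivial
  intro x hxN hxC hxo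
  have hxc : ∀ y ∈ pCoreOf p N, Commute x y := fun y hy =>
    (Subgroup.mem_centralizer_iff.mp hxC y hy).symm
  have hzc : ∀ y ∈ pCoreOf p N, ∀ h ∈ Subgroup.zpowers x, h * y = y * h := by
    intro y hy h hh
    obtain ⟨k, rfl⟩ := Subgroup.mem_zpowers_iff.mp hh
    exact ((hxc y hy).zpow_left k).eq
  have hcop : (Nat.card (Subgroup.zpowers x)).Coprime p := by
    rw [Nat.card_zpowers]; exact hxo
  have h1 := Cfsg.Agent.Lib.Helper7.pxq_lemma p P (Subgroup.zpowers x) (pCoreOf p L) hP hcop hQp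
    (fun y hy => Subgroup.mem_centralizer_iff.mpr (fun h hh => hzc y (hPP₀ hy) h hh))
    (hPL.trans hLQ)
    (Subgroup.zpowers_le.mpr (hLQ (hNL hxN)))
    (by
      intro y hy
      obtain ⟨hy1, hy2⟩ := Subgroup.mem_inf.mp hy
      have hyN : y ∈ N := by
        rw [hN]
        exact Subgroup.mem_inf.mpr ⟨pCoreOf_le p L hy1, Subgroup.centralizer_le_normalizer _ hy2⟩
      have hyP₀ : y ∈ pCoreOf p N := hQN (Subgroup.mem_inf.mpr ⟨hy1, hyN⟩)
      exact Subgroup.mem_centralizer_iff.mpr (fun h hh => hzc y hyP₀ h hh))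
  have hxQ : x ∈ Subgroup.centralizer (pCoreOf p L : Set H) := h1 (Subgroup.mem_zpowers x)
  have hxQ' : x ∈ pCoreOf p L := hL (Subgroup.mem_inf.mpr ⟨hNL hxN, hxQ⟩)
  exact Cfsg.Agent.S2961.eq_one_of_pgroup_coprime hQp hxQ' hxo

/-- parabolic characteristic `p` descends to the `p`-locals of a normal subgroup `G₁` whose Sylow
`p`-subgroups have their central elements of order `p` central in a Sylow `p`-subgroup of `H`. -/
theorem parachar_main (hG : Cfsg.IsOfParabolicCharacteristic p H) (G₁ : Subgroup H)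
    [hG₁ : G₁.Normal] (R T : Subgroup H) (hRG₁ : R ≤ G₁) (hRp : IsPGroup p R) (hRne : R ≠ ⊥)
    (hTG₁ : T ≤ G₁) (hTR : T ≤ Subgroup.normalizer (R : Set H))
    (hTcard : Nat.card T = p ^ (Nat.card G₁).factorization p)
    (hTz : ∀ z ∈ T, (∀ t ∈ T, t * z = z * t) → z ^ p = 1 →
      ∃ S' : Sylow p H, (S' : Subgroup H) ≤ Subgroup.centralizer ({z} : Set H)) :
    CharPIn p (G₁ ⊓ Subgroup.normalizer (R : Set H)) := by
  have hp : p.Prime := Fact.out
  obtain ⟨N₁, hN₁⟩ : ∃ N₁ : Subgroup H, N₁ = G₁ ⊓ Subgroup.normalizer (R : Set H) := ⟨_, rfl⟩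
  rw [← hN₁]
  have hN₁G : N₁ ≤ G₁ := by rw [hN₁]; exact inf_le_left
  have hN₁R : N₁ ≤ Subgroup.normalizer (R : Set H) := by rw [hN₁]; exact inf_le_right
  have hRN₁ : R ≤ N₁ := by rw [hN₁]; exact le_inf hRG₁ Subgroup.le_normalizer
  have hTN₁ : T ≤ N₁ := by rw [hN₁]; exact le_inf hTG₁ hTR
  have hTp : IsPGroup p T := IsPGroup.of_card hTcard
  have hRP₁ : R ≤ pCoreOf p N₁ := le_pCoreOf hRN₁ hRp hN₁R
  have hP₁p : IsPGroup p (pCoreOf p N₁) := pCoreOf_isPGroup p N₁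
  have hN₁P₁ : N₁ ≤ Subgroup.normalizer (pCoreOf p N₁ : Set H) := le_normalizer_pCoreOf p N₁
  have hP₁ne : pCoreOf p N₁ ≠ ⊥ := fun h => hRne (le_bot_iff.mp (h ▸ hRP₁))
  have hP₁T : pCoreOf p N₁ ≤ T := by
    have hsup : IsPGroup p ↥(pCoreOf p N₁ ⊔ T) :=
      IsPGroup.to_sup_of_normal_left' hP₁p hTp (hTN₁.trans hN₁P₁)
    have hle : pCoreOf p N₁ ⊔ T ≤ G₁ := sup_le ((pCoreOf_le p N₁).trans hN₁G) hTG₁
    obtain ⟨k, hk⟩ := IsPGroup.iff_card.mp hsup
    have hdvd : p ^ k ∣ Nat.card G₁ := hk ▸ Subgroup.card_dvd_of_le hle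
    have hk' : k ≤ (Nat.card G₁).factorization p :=
      (hp.pow_dvd_iff_le_factorization Nat.card_pos.ne').mp hdvd
    have hcard_le : Nat.card ↥(pCoreOf p N₁ ⊔ T) ≤ Nat.card T := by
      rw [hk, hTcard]; exact Nat.pow_le_pow_right hp.pos hk'
    have heq : T = pCoreOf p N₁ ⊔ T := Subgroup.eq_of_le_of_card_ge le_sup_right hcard_le
    exact le_sup_left.trans heq.ge
  obtain ⟨z₀, hz₀P, hz₀1, hz₀c⟩ := pn_inf_center T (pCoreOf p N₁) hTp hP₁T
    (fun x hx d hd => (Subgroup.mem_normalizer_iff.mp (hN₁P₁ (hTN₁ hx)) d).mp hd) hP₁ne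
  obtain ⟨k, hk1, hkp⟩ := exists_pow_order_p hP₁p hz₀P hz₀1
  obtain ⟨z, hz⟩ : ∃ z : H, z = z₀ ^ (p ^ k) := ⟨_, rfl⟩
  rw [← hz] at hk1 hkp
  have hzP : z ∈ pCoreOf p N₁ := by rw [hz]; exact Subgroup.pow_mem _ hz₀P _
  have hzc : ∀ t ∈ T, t * z = z * t := by
    intro t ht
    rw [hz]
    exact ((show Commute t z₀ from hz₀c t ht).pow_right _).eq
  obtain ⟨S', hS'⟩ := hTz z (hP₁T hzP) hzc hkp
  have hZp : IsPGroup p (Subgroup.zpowers z) := hP₁p.to_le (Subgroup.zpowers_le.mpr hzP)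
  have hZne : Subgroup.zpowers z ≠ ⊥ := fun h => hk1 (Subgroup.zpowers_eq_bot.mp h)
  have hCN : Subgroup.centralizer ({z} : Set H) ≤
      Subgroup.normalizer ((Subgroup.zpowers z : Subgroup H) : Set H) := by
    intro x hx
    apply Cfsg.Agent.S2908.mem_normalizer_of_commute
    intro y hy
    obtain ⟨k, rfl⟩ := Subgroup.mem_zpowers_iff.mp hy
    exact ((show Commute x z from Subgroup.mem_centralizer_singleton_iff.mp hx).zpow_right k).eq
  have hL : CharPIn p (Subgroup.normalizer ((Subgroup.zpowers z : Subgroup H) : Set H)) :=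
    (charPIn_iff p _).mpr (hG _ hZp hZne ⟨S', hS'.trans hCN⟩)
  obtain ⟨M, hM⟩ : ∃ M : Subgroup H,
      M = G₁ ⊓ Subgroup.centralizer ((Subgroup.zpowers z : Subgroup H) : Set H) := ⟨_, rfl⟩
  have hML : M ≤ Subgroup.normalizer ((Subgroup.zpowers z : Subgroup H) : Set H) := by
    rw [hM]; exact inf_le_right.trans (Subgroup.centralizer_le_normalizer _)
  have hLM : Subgroup.normalizer ((Subgroup.zpowers z : Subgroup H) : Set H) ≤
      Subgroup.normalizer (M : Set H) := by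
    intro l hl
    apply fin_mem_normalizer
    intro x hx
    rw [hM] at hx ⊢
    obtain ⟨hx1, hx2⟩ := Subgroup.mem_inf.mp hx
    exact Subgroup.mem_inf.mpr ⟨hG₁.conj_mem x hx1 l,
      (Subgroup.mem_normalizer_iff.mp (normalizer_le_normalizer_centralizer' _ hl) x).mp hx2⟩
  have hMc : CharPIn p M := charPIn_of_normal hL hML hLM
  have hzcent : ∀ x ∈ T,
      x ∈ Subgroup.centralizer ((Subgroup.zpowers z : Subgroup H) : Set H) := by
    intro x hx
    rw [Subgroup.mem_centralizer_iff]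
    intro y hy
    obtain ⟨k, rfl⟩ := Subgroup.mem_zpowers_iff.mp hy
    exact ((show Commute x z from hzc x hx).zpow_right k).eq.symm
  have hRM : R ≤ M := by
    rw [hM]; exact le_inf hRG₁ (fun x hx => hzcent x (hP₁T (hRP₁ hx)))
  have hN₂c : CharPIn p (M ⊓ Subgroup.normalizer (R : Set H)) := charPIn_local hMc hRp hRM
  obtain ⟨D₁, hD₁⟩ : ∃ D₁ : Subgroup H,
      D₁ = N₁ ⊓ Subgroup.centralizer (pCoreOf p N₁ : Set H) := ⟨_, rfl⟩
  have hD₁N₁ : D₁ ≤ N₁ := by rw [hD₁]; exact inf_le_left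
  have hD₁N₂ : D₁ ≤ M ⊓ Subgroup.normalizer (R : Set H) := by
    intro x hx
    have hx' := hx
    rw [hD₁] at hx'
    obtain ⟨hx1, hx2⟩ := Subgroup.mem_inf.mp hx'
    refine Subgroup.mem_inf.mpr ⟨?_, hN₁R hx1⟩
    rw [hM]
    refine Subgroup.mem_inf.mpr ⟨hN₁G hx1, ?_⟩
    rw [Subgroup.mem_centralizer_iff]
    intro y hy
    exact Subgroup.mem_centralizer_iff.mp hx2 y ((Subgroup.zpowers_le.mpr hzP) hy)
  have hN₁D₁ : N₁ ≤ Subgroup.normalizer (D₁ : Set H) := by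
    intro n hn
    apply fin_mem_normalizer
    intro x hx
    rw [hD₁] at hx ⊢
    obtain ⟨hx1, hx2⟩ := Subgroup.mem_inf.mp hx
    exact Subgroup.mem_inf.mpr ⟨N₁.mul_mem (N₁.mul_mem hn hx1) (N₁.inv_mem hn),
      (Subgroup.mem_normalizer_iff.mp
        (normalizer_le_normalizer_centralizer' _ (hN₁P₁ hn)) x).mp hx2⟩
  have hN₂N₁ : M ⊓ Subgroup.normalizer (R : Set H) ≤ N₁ := by
    rw [hN₁, hM]; exact inf_le_inf_right _ inf_le_left
  have hD₁c : CharPIn p D₁ := charPIn_of_normal hN₂c hD₁N₂ (hN₂N₁.trans hN₁D₁)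
  have hOD : pCoreOf p D₁ ≤ pCoreOf p N₁ :=
    le_pCoreOf ((pCoreOf_le p D₁).trans hD₁N₁) (pCoreOf_isPGroup p D₁)
      (le_normalizer_pCoreOf_of_le_normalizer hN₁D₁)
  show N₁ ⊓ Subgroup.centralizer (pCoreOf p N₁ : Set H) ≤ pCoreOf p N₁
  rw [← hD₁]
  intro x hx
  have hx' := hx
  rw [hD₁] at hx'
  have hxc : x ∈ Subgroup.centralizer (pCoreOf p D₁ : Set H) :=
    Subgroup.centralizer_le (SetLike.coe_subset_coe.mpr hOD) (Subgroup.mem_inf.mp hx').2
  exact hOD (hD₁c (Subgroup.mem_inf.mpr ⟨hx, hxc⟩))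

end ParaChar

end Cfsg.Agent.Lib.Helper3
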