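import Mathlib
import Cfsg.Prelude.Def_PLocal
import Cfsg.Agent.Lib.Helper3.EA
import Cfsg.Agent.Lib.Helper3.ZJ

set_option autoImplicit false
open Cfsg
open scoped commutatorElement

namespace Cfsg.Agent.Lib.Helper3

universe u

section
variable {H : Type*} [Group H]

/-- conjugation-invariance of quadratic action on a normal subgroup -/
theorem snc_quad_conj {V : Subgroup H} [V.Normal] {a : H} (h : H)
    (hq : ⁅⁅V, Subgroup.zpowers a⁆, Subgroup.zpowers a⁆ = ⊥) :
    ⁅⁅V, Subgroup.zpowers (h * a * h⁻¹)⁆, Subgroup.zpowers (h * a * h⁻¹)⁆ = ⊥ := by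
  have h1 : (⁅⁅V, Subgroup.zpowers a⁆, Subgroup.zpowers a⁆).map (MulAut.conj h).toMonoidHom = ⊥ := by
    rw [hq, Subgroup.map_bot]
  rw [Subgroup.map_commutator, Subgroup.map_commutator, MonoidHom.map_zpowers] at h1
  have h2 : V.map (MulAut.conj h).toMonoidHom = V := Subgroup.Normal.map_conj_eq V h
  rw [h2] at h1
  exact h1

theorem snc_zpow_decomp {C : Subgroup H} [C.Normal] {a b : H} (h : a⁻¹ * b ∈ C) (k : ℤ) :
    (a ^ k)⁻¹ * b ^ k ∈ C := by
  have h1 : (QuotientGroup.mk a : H ⧸ C) = QuotientGroup.mk b := QuotientGroup.eq.mpr h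
  have h2 : (QuotientGroup.mk (a ^ k) : H ⧸ C) = QuotientGroup.mk (b ^ k) := by
    rw [QuotientGroup.mk_zpow, QuotientGroup.mk_zpow, h1]
  exact QuotientGroup.eq.mp h2

theorem snc_comm_le {V U : Subgroup H} [V.Normal] (hU : U ≤ V) {a b : H}
    (h : a⁻¹ * b ∈ Subgroup.centralizer (V : Set H)) :
    ⁅U, Subgroup.zpowers b⁆ ≤ ⁅U, Subgroup.zpowers a⁆ := by
  rw [Subgroup.commutator_le]
  intro u hu z hz
  obtain ⟨k, rfl⟩ := Subgroup.mem_zpowers_iff.mp hz
  have hc := snc_zpow_decomp h k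
  have hcu : ((a ^ k)⁻¹ * b ^ k) * u⁻¹ = u⁻¹ * ((a ^ k)⁻¹ * b ^ k) :=
    (Subgroup.mem_centralizer_iff.mp hc u⁻¹ (V.inv_mem (hU hu))).symm
  have : ⁅u, b ^ k⁆ = ⁅u, a ^ k⁆ := by
    rw [commutatorElement_def, commutatorElement_def]
    have e1 : b ^ k = a ^ k * ((a ^ k)⁻¹ * b ^ k) := by group
    generalize (a ^ k)⁻¹ * b ^ k = c at hcu e1
    rw [e1]
    calc u * (a ^ k * c) * u⁻¹ * (a ^ k * c)⁻¹
        = u * a ^ k * (c * u⁻¹) * c⁻¹ * (a ^ k)⁻¹ := by group
      _ = u * a ^ k * (u⁻¹ * c) * c⁻¹ * (a ^ k)⁻¹ := by rw [hcu]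
      _ = u * a ^ k * u⁻¹ * (a ^ k)⁻¹ := by group
  rw [this]
  exact Subgroup.commutator_mem_commutator hu (Subgroup.zpow_mem_zpowers a k)

theorem snc_quad_of_mul_centralizer {V : Subgroup H} [V.Normal] {a b : H}
    (h : a⁻¹ * b ∈ Subgroup.centralizer (V : Set H))
    (hq : ⁅⁅V, Subgroup.zpowers a⁆, Subgroup.zpowers a⁆ = ⊥) :
    ⁅⁅V, Subgroup.zpowers b⁆, Subgroup.zpowers b⁆ = ⊥ := by
  rw [eq_bot_iff, ← hq]
  have h1 : ⁅V, Subgroup.zpowers b⁆ ≤ ⁅V, Subgroup.zpowers a⁆ := snc_comm_le le_rfl h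
  have h2 : ⁅V, Subgroup.zpowers a⁆ ≤ V := Subgroup.commutator_le_left _ _
  exact (Subgroup.commutator_mono h1 le_rfl).trans (snc_comm_le h2 h)

end

section
variable {S : Type u} [Group S]

/-- the family defining the stable normal closure -/
def sncFam (p : ℕ) (S : Type u) [Group S] : Set (Subgroup S) :=
  {W : Subgroup S | omegaOne p (Subgroup.center S) ≤ W ∧
    ∀ (H : Type u) [Group H] (τ : S →* H), IsStableEmbedding p τ → (W.map τ).Normal}

theorem stableNormalClosure_eq (p : ℕ) (S : Type u) [Group S] :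
    stableNormalClosure p S = sInf (sncFam p S) := rfl

theorem omegaOne_center_le_oct [Finite S] (p : ℕ) [Fact p.Prime] :
    omegaOne p (Subgroup.center S) ≤ omegaCenterThompson p S := by
  unfold omegaCenterThompson omegaOne
  apply Subgroup.closure_mono
  rintro x ⟨hx, hxp⟩
  refine ⟨⟨?_, Subgroup.center_le_centralizer _ hx⟩, hxp⟩
  obtain ⟨A, hA⟩ := exists_maxEA (G := S) p
  have hEA : IsElementaryAbelian p (A ⊔ Subgroup.zpowers x) := by
    apply isEA_sup hA.1 (isEA_zpowers hxp)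
    intro a ha c hc
    obtain ⟨k, rfl⟩ := Subgroup.mem_zpowers_iff.mp hc
    have : Commute a x := (Subgroup.mem_center_iff.mp hx a)
    exact (this.zpow_right k).eq
  have heq := eq_of_le_of_maxEA hA hEA le_sup_left
  have : x ∈ A := by
    rw [← heq]
    exact Subgroup.mem_sup_right (Subgroup.mem_zpowers x)
  exact maxEA_le_thompson hA this

theorem oct_map_normal {H : Type*} [Group H] (p : ℕ) (τ : S →* H) (hτ : Function.Injective τ)
    (hJ : ((thompsonSubgroup p S).map τ).Normal) : ((omegaCenterThompson p S).map τ).Normal := by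
  unfold omegaCenterThompson
  rw [omegaOne_map_injective _ _ _ hτ]
  have hX : ((thompsonSubgroup p S ⊓ Subgroup.centralizer (thompsonSubgroup p S : Set S)).map τ) =
      (thompsonSubgroup p S).map τ ⊓
        Subgroup.centralizer (((thompsonSubgroup p S).map τ : Subgroup H) : Set H) := by
    ext y
    constructor
    · rintro ⟨x, ⟨hx1, hx2⟩, rfl⟩
      refine ⟨⟨x, hx1, rfl⟩, ?_⟩
      refine Subgroup.mem_centralizer_iff.mpr ?_
      rintro _ ⟨z, hz, rfl⟩
      have := Subgroup.mem_centralizer_iff.mp hx2 z hz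
      show τ z * τ x = τ x * τ z
      rw [← map_mul, ← map_mul, this]
    · rintro ⟨⟨x, hx, rfl⟩, hy2⟩
      refine ⟨x, ⟨hx, ?_⟩, rfl⟩
      refine Subgroup.mem_centralizer_iff.mpr ?_
      intro z hz
      apply hτ
      rw [map_mul, map_mul]
      exact Subgroup.mem_centralizer_iff.mp hy2 (τ z) ⟨z, hz, rfl⟩
  rw [hX]
  haveI := hJ
  generalize hXdef : (thompsonSubgroup p S).map τ ⊓
        Subgroup.centralizer (((thompsonSubgroup p S).map τ : Subgroup H) : Set H) = X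
  haveI : X.Normal := by rw [← hXdef]; infer_instance
  rw [Subgroup.normal_iff_map_conj_eq]
  intro g
  have h1 := omegaOne_map_equiv p X (MulAut.conj g)
  have h2 : X.map (MulAut.conj g).toMonoidHom = X := Subgroup.Normal.map_conj_eq X g
  rw [h2] at h1
  exact h1

theorem oct_mem_sncFam [Finite S] (p : ℕ) [Fact p.Prime] :
    omegaCenterThompson p S ∈ sncFam p S :=
  ⟨omegaOne_center_le_oct p, fun H _ τ hτ => oct_map_normal p τ hτ.1 hτ.2.2.2.2.1⟩

theorem snc_le_oct [Finite S] (p : ℕ) [Fact p.Prime] :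
    stableNormalClosure p S ≤ omegaCenterThompson p S := sInf_le (oct_mem_sncFam p)

theorem snc_map_normal [Finite S] (p : ℕ) [Fact p.Prime] {H : Type u} [Group H] (τ : S →* H)
    (hτ : IsStableEmbedding p τ) : ((stableNormalClosure p S).map τ).Normal := by
  constructor
  rintro _ ⟨w, hw, rfl⟩ h
  haveI := (oct_mem_sncFam (S := S) p).2 H τ hτ
  have h0 : h * τ w * h⁻¹ ∈ (omegaCenterThompson p S).map τ :=
    Subgroup.Normal.conj_mem inferInstance _ (Subgroup.mem_map_of_mem _ (snc_le_oct p hw)) h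
  obtain ⟨w₀, hw₀, hw₀e⟩ := h0
  refine ⟨w₀, ?_, hw₀e⟩
  show w₀ ∈ sInf (sncFam p S)
  rw [Subgroup.mem_sInf]
  intro W' hW'
  haveI := hW'.2 H τ hτ
  have h1 : h * τ w * h⁻¹ ∈ W'.map τ :=
    Subgroup.Normal.conj_mem inferInstance _ (Subgroup.mem_map_of_mem _ ((sInf_le hW') hw)) h
  obtain ⟨w₁, hw₁, hw₁e⟩ := h1
  have : w₁ = w₀ := hτ.1 (hw₁e.trans hw₀e.symm)
  rw [← this]; exact hw₁

theorem snc_mem_sncFam [Finite S] (p : ℕ) [Fact p.Prime] :
    stableNormalClosure p S ∈ sncFam p S :=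
  ⟨le_sInf (fun W hW => hW.1), fun H _ τ hτ => snc_map_normal p τ hτ⟩

theorem snc_quad_central [Finite S] {p : ℕ} [Fact p.Prime] (x : S)
    (hq : ⁅⁅stableNormalClosure p S, Subgroup.zpowers x⁆, Subgroup.zpowers x⁆ = ⊥) :
    ⁅stableNormalClosure p S, Subgroup.zpowers x⁆ = ⊥ := by
  generalize hWdef : stableNormalClosure p S = W at hq ⊢
  set Q : Set S := {s : S | ⁅⁅W, Subgroup.zpowers s⁆, Subgroup.zpowers s⁆ = ⊥} with hQdef
  have hmem : W ⊓ Subgroup.centralizer Q ∈ sncFam p S := by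
    refine ⟨le_inf (hWdef ▸ (snc_mem_sncFam p).1) ?_, ?_⟩
    · unfold omegaOne
      rw [Subgroup.closure_le]
      rintro z ⟨hz, -⟩
      exact Subgroup.center_le_centralizer _ hz
    · intro H _ τ hτ
      haveI hVn : (W.map τ).Normal := hWdef ▸ snc_map_normal p τ hτ
      obtain ⟨hinj, hfin, ⟨P, hP⟩, hc, hJ, hst⟩ := hτ
      haveI := hfin
      have hstV : IsPStableOn p (W.map τ) :=
        hst (W.map τ) (Subgroup.map_mono (hWdef ▸ snc_le_oct p))
      have key : ∀ a : H, ⁅⁅W.map τ, Subgroup.zpowers a⁆, Subgroup.zpowers a⁆ = ⊥ →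
          ∃ s ∈ Q, (τ s)⁻¹ * a ∈ Subgroup.centralizer ((W.map τ : Subgroup H) : Set H) := by
        intro a ha
        obtain ⟨y, hy, hya⟩ := stabL_decomp P (mem_stabL_of_quad hstV ha)
        rw [hP] at hy
        obtain ⟨s, rfl⟩ := hy
        refine ⟨s, ?_, hya⟩
        have h1 : a⁻¹ * τ s ∈ Subgroup.centralizer ((W.map τ : Subgroup H) : Set H) := by
          have := Subgroup.inv_mem _ hya
          simpa [mul_inv_rev] using this
        have h2 := snc_quad_of_mul_centralizer h1 ha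
        show ⁅⁅W, Subgroup.zpowers s⁆, Subgroup.zpowers s⁆ = ⊥
        rw [← Subgroup.map_eq_bot_iff_of_injective _ hinj, Subgroup.map_commutator,
          Subgroup.map_commutator, MonoidHom.map_zpowers]
        exact h2
      constructor
      rintro _ ⟨w, ⟨hwW, hwQ⟩, rfl⟩ h
      have h0 : h * τ w * h⁻¹ ∈ W.map τ := hVn.conj_mem _ (Subgroup.mem_map_of_mem _ hwW) h
      obtain ⟨w', hw', hw'e⟩ := h0
      refine ⟨w', ⟨hw', ?_⟩, hw'e⟩
      refine Subgroup.mem_centralizer_iff.mpr ?_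
      intro s hs
      have hs' : ⁅⁅W.map τ, Subgroup.zpowers (τ s)⁆, Subgroup.zpowers (τ s)⁆ = ⊥ := by
        have hs0 : ⁅⁅W, Subgroup.zpowers s⁆, Subgroup.zpowers s⁆ = ⊥ := hs
        have : (⁅⁅W, Subgroup.zpowers s⁆, Subgroup.zpowers s⁆).map τ = ⊥ := by
          rw [hs0, Subgroup.map_bot]
        rw [Subgroup.map_commutator, Subgroup.map_commutator, MonoidHom.map_zpowers] at this
        exact this
      have ha := snc_quad_conj h⁻¹ hs'
      rw [inv_inv] at ha
      obtain ⟨s', hs'Q, hc'⟩ := key _ ha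
      have e1 : s' * w = w * s' := Subgroup.mem_centralizer_iff.mp hwQ s' hs'Q
      have e2 : τ s' * τ w = τ w * τ s' := by rw [← map_mul, ← map_mul, e1]
      have e3 : τ w * ((τ s')⁻¹ * (h⁻¹ * τ s * h)) = ((τ s')⁻¹ * (h⁻¹ * τ s * h)) * τ w :=
        Subgroup.mem_centralizer_iff.mp hc' (τ w) (Subgroup.mem_map_of_mem _ hwW)
      have e4 : (h⁻¹ * τ s * h) * τ w = τ w * (h⁻¹ * τ s * h) := by
        have e5 : h⁻¹ * τ s * h = τ s' * ((τ s')⁻¹ * (h⁻¹ * τ s * h)) := by group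
        generalize (τ s')⁻¹ * (h⁻¹ * τ s * h) = c at e3 e5
        rw [e5, mul_assoc, ← e3, ← mul_assoc, e2, mul_assoc]
      apply hinj
      rw [map_mul, map_mul, hw'e]
      have e6 : τ s * (h * τ w * h⁻¹) = h * ((h⁻¹ * τ s * h) * τ w) * h⁻¹ := by group
      rw [e6, e4]; group
  have hle : W ≤ W ⊓ Subgroup.centralizer Q := by
    have := sInf_le hmem
    rw [← stableNormalClosure_eq, hWdef] at this
    exact this
  rw [Subgroup.commutator_eq_bot_iff_le_centralizer]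
  intro w hw
  have hwQ := (hle hw).2
  have hxQ : x ∈ Q := hq
  have e : x * w = w * x := Subgroup.mem_centralizer_iff.mp hwQ x hxQ
  refine Subgroup.mem_centralizer_iff.mpr ?_
  intro z hz
  obtain ⟨k, rfl⟩ := Subgroup.mem_zpowers_iff.mp hz
  have : Commute x w := e
  exact (this.zpow_left k).eq

end

end Cfsg.Agent.Lib.Helper3
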