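import Mathlib
import Cfsg.Prelude.Def_PLocal
import Cfsg.Agent.Lib.Helper3.SNC
import Cfsg.Agent.Lib.Helper3.GT8
import Cfsg.Agent.Lib.Helper3.Glauberman

set_option autoImplicit false
set_option linter.style.haveILetI false
open Cfsg
open scoped commutatorElement

namespace Cfsg.Agent.Lib.Helper3

universe u

section
variable {G : Type*} [Group G]

/-- conjugation action of a subgroup on an invariant subset -/
def conjActOn (Z : Subgroup G) (C : Set G) (hC : ∀ z ∈ Z, ∀ y ∈ C, z * y * z⁻¹ ∈ C) :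
    MulAction ↥Z ↥C where
  smul z y := ⟨(z : G) * (y : G) * (z : G)⁻¹, hC z z.2 y y.2⟩
  one_smul y := Subtype.ext (by
    show ((1 : ↥Z) : G) * (y : G) * ((1 : ↥Z) : G)⁻¹ = y
    simp)
  mul_smul a b y := Subtype.ext (by
    show ((a * b : ↥Z) : G) * (y : G) * ((a * b : ↥Z) : G)⁻¹ =
      (a : G) * ((b : G) * (y : G) * (b : G)⁻¹) * (a : G)⁻¹
    simp [mul_assoc])

theorem exists_fixed_in_coset [Finite G] {p q : ℕ} [Fact p.Prime] [Fact q.Prime] (hqp : q ≠ p)
    (N Φ : Subgroup G) [hΦn : Φ.Normal] [hNn : N.Normal] (hN : IsPGroup p N) (hΦN : Φ ≤ N)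
    (g : G) (hg : orderOf g = q) (hgK : ∀ b ∈ N, g * b * g⁻¹ * b⁻¹ ∈ Φ) (x : G) (hx : x ∈ N) :
    ∃ y ∈ N, x⁻¹ * y ∈ Φ ∧ g * y * g⁻¹ = y := by
  have hZ : IsPGroup q ↥(Subgroup.zpowers g) := by
    apply IsPGroup.of_card (n := 1)
    rw [pow_one, Nat.card_zpowers, hg]
  have hZK : ∀ z ∈ Subgroup.zpowers g, ∀ b ∈ N, z * b * z⁻¹ * b⁻¹ ∈ Φ := by
    intro z hz
    have : Subgroup.zpowers g ≤ sectionKernel N Φ := by
      rw [Subgroup.zpowers_le, mem_sectionKernel_iff]; exact hgK
    exact (mem_sectionKernel_iff N Φ z).mp (this hz)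
  have hC : ∀ z ∈ Subgroup.zpowers g, ∀ y ∈ {y : G | y ∈ N ∧ x⁻¹ * y ∈ Φ},
      z * y * z⁻¹ ∈ {y : G | y ∈ N ∧ x⁻¹ * y ∈ Φ} := by
    intro z hz y hy
    refine ⟨hNn.conj_mem y hy.1 z, ?_⟩
    have h1 := hZK z hz y hy.1
    have h2 : x⁻¹ * (z * y * z⁻¹) = (x⁻¹ * (z * y * z⁻¹ * y⁻¹) * x⁻¹⁻¹) * (x⁻¹ * y) := by group
    rw [h2]
    exact Φ.mul_mem (hΦn.conj_mem _ h1 _) hy.2
  letI := conjActOn (Subgroup.zpowers g) {y : G | y ∈ N ∧ x⁻¹ * y ∈ Φ} hC
  have hcard : Nat.card ↥{y : G | y ∈ N ∧ x⁻¹ * y ∈ Φ} = Nat.card ↥Φ := by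
    apply Nat.card_congr
    exact {
      toFun := fun y => ⟨x⁻¹ * (y : G), y.2.2⟩
      invFun := fun f => ⟨x * (f : G), ⟨N.mul_mem hx (hΦN f.2), by
        show x⁻¹ * (x * (f : G)) ∈ Φ
        rw [inv_mul_cancel_left]; exact f.2⟩⟩
      left_inv := fun y => Subtype.ext (by simp)
      right_inv := fun f => Subtype.ext (by simp) }
  obtain ⟨n, hn⟩ := (hN.to_le hΦN).exists_card_eq
  have hndvd : ¬ q ∣ Nat.card ↥{y : G | y ∈ N ∧ x⁻¹ * y ∈ Φ} := by
    rw [hcard, hn]
    intro hd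
    have := (Nat.prime_dvd_prime_iff_eq (Fact.out : q.Prime) (Fact.out : p.Prime)).mp
      ((Fact.out : q.Prime).dvd_of_dvd_pow hd)
    exact hqp this
  obtain ⟨y, hy⟩ := hZ.nonempty_fixed_point_of_prime_not_dvd_card
    ↥{y : G | y ∈ N ∧ x⁻¹ * y ∈ Φ} hndvd
  refine ⟨(y : G), y.2.1, y.2.2, ?_⟩
  have h1 := hy ⟨g, Subgroup.mem_zpowers g⟩
  exact congrArg Subtype.val h1

theorem sectionKernel_frattini_isPGroup [Finite G] {p : ℕ} [Fact p.Prime] (N : Subgroup G)
    [hNn : N.Normal] (hN : IsPGroup p N) (hc : Subgroup.centralizer (N : Set G) ≤ N)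
    [hΦn : ((frattini ↥N).map N.subtype).Normal] :
    IsPGroup p ↥(sectionKernel N ((frattini ↥N).map N.subtype)) := by
  have hΦN : (frattini ↥N).map N.subtype ≤ N := Subgroup.map_subtype_le _
  have hprime : ∀ {q : ℕ}, q.Prime →
      q ∣ Nat.card ↥(sectionKernel N ((frattini ↥N).map N.subtype)) → q = p := by
    intro q hq hdvd
    by_contra hqp
    haveI : Fact q.Prime := ⟨hq⟩
    obtain ⟨g, hg⟩ := exists_prime_orderOf_dvd_card' q hdvd
    have hg' : orderOf (g : G) = q := by rw [Subgroup.orderOf_coe]; exact hg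
    have hgK : ∀ b ∈ N, (g : G) * b * (g : G)⁻¹ * b⁻¹ ∈ (frattini ↥N).map N.subtype :=
      (mem_sectionKernel_iff N _ _).mp g.2
    have hfix := exists_fixed_in_coset hqp N ((frattini ↥N).map N.subtype) hN hΦN (g : G) hg' hgK
    have hK0 : (Subgroup.centralizer ({(g : G)} : Set G)).subgroupOf N = ⊤ := by
      apply frattini_nongenerating
      rw [eq_top_iff]
      intro x _
      obtain ⟨y, hyN, hyΦ, hyg⟩ := hfix (x : G) x.2
      obtain ⟨f, hf, hfe⟩ := hyΦ
      have hfe' : ((f : ↥N) : G) = (x : G)⁻¹ * y := hfe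
      have hx : x = (⟨y, hyN⟩ : ↥N) * f⁻¹ := by
        apply Subtype.ext
        show (x : G) = y * ((f : ↥N) : G)⁻¹
        rw [hfe']; group
      rw [hx]
      refine Subgroup.mul_mem_sup ?_ (Subgroup.inv_mem _ hf)
      rw [Subgroup.mem_subgroupOf]
      show y ∈ Subgroup.centralizer ({(g : G)} : Set G)
      refine Subgroup.mem_centralizer_iff.mpr ?_
      intro h hh
      rw [Set.mem_singleton_iff] at hh
      rw [hh]
      calc (g : G) * y = ((g : G) * y * (g : G)⁻¹) * (g : G) := by group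
        _ = y * (g : G) := by rw [hyg]
    have hgC : (g : G) ∈ Subgroup.centralizer (N : Set G) := by
      refine Subgroup.mem_centralizer_iff.mpr ?_
      intro x hx
      have h1 : (⟨x, hx⟩ : ↥N) ∈ (Subgroup.centralizer ({(g : G)} : Set G)).subgroupOf N := by
        rw [hK0]; exact Subgroup.mem_top _
      rw [Subgroup.mem_subgroupOf] at h1
      exact (Subgroup.mem_centralizer_iff.mp h1 (g : G) (Set.mem_singleton _)).symm
    obtain ⟨k, hk⟩ := hN ⟨(g : G), hc hgC⟩
    have hk' : (g : G) ^ (p ^ k) = 1 := congrArg Subtype.val hk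
    have hdvd2 : q ∣ p ^ k := by
      rw [← hg']; exact orderOf_dvd_of_pow_eq_one hk'
    have := (Nat.prime_dvd_prime_iff_eq hq (Fact.out : p.Prime)).mp (hq.dvd_of_dvd_pow hdvd2)
    exact hqp this
  have hK1 := Nat.eq_prime_pow_of_unique_prime_dvd (Nat.card_pos.ne') hprime
  exact IsPGroup.of_card hK1

theorem isPGroup_of_relIndex [Finite G] {p : ℕ} [Fact p.Prime] {K D : Subgroup G}
    (hK : IsPGroup p K) (hKD : K ≤ D) {k : ℕ} (h : K.relIndex D = p ^ k) : IsPGroup p D := by
  obtain ⟨n, hn⟩ := hK.exists_card_eq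
  apply IsPGroup.of_card (n := n + k)
  rw [card_eq_mul_relIndex hKD, hn, h, pow_add]

theorem isEA_closure {p : ℕ} {s : Set G} (hcomm : ∀ x ∈ s, ∀ y ∈ s, x * y = y * x)
    (hp : ∀ x ∈ s, x ^ p = 1) : IsElementaryAbelian p (Subgroup.closure s) := by
  have hcm : IsMulCommutative ↥(Subgroup.closure s) := Subgroup.isMulCommutative_closure hcomm
  refine ⟨hcm, ?_⟩
  have hc2 : ∀ a ∈ Subgroup.closure s, ∀ b ∈ Subgroup.closure s, a * b = b * a :=
    fun a ha b hb => setLike_mul_comm ha hb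
  have key : ∀ x, x ∈ Subgroup.closure s → x ^ p = 1 := by
    intro x hx
    induction hx using Subgroup.closure_induction with
    | mem x hx => exact hp x hx
    | one => exact one_pow p
    | mul x y hx hy ihx ihy =>
      have : Commute x y := hc2 x hx y hy
      rw [this.mul_pow, ihx, ihy, one_mul]
    | inv x hx ihx => rw [inv_pow, ihx, inv_one]
  intro g hg
  exact key g hg

theorem oct_le_maxEA {S : Type*} [Group S] [Finite S] {p : ℕ} {A : Subgroup S}
    (hA : A ∈ maxElementaryAbelianSubgroups p S) : omegaCenterThompson p S ≤ A := by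
  unfold omegaCenterThompson omegaOne
  rw [Subgroup.closure_le]
  rintro x ⟨⟨hx1, hx2⟩, hxp⟩
  have hEA : IsElementaryAbelian p (A ⊔ Subgroup.zpowers x) := by
    apply isEA_sup hA.1 (isEA_zpowers hxp)
    intro a ha c hc
    obtain ⟨k, rfl⟩ := Subgroup.mem_zpowers_iff.mp hc
    have : Commute a x := Subgroup.mem_centralizer_iff.mp hx2 a (maxEA_le_thompson hA ha)
    exact (this.zpow_right k).eq
  have heq := eq_of_le_of_maxEA hA hEA le_sup_left
  show x ∈ A
  rw [← heq]
  exact Subgroup.mem_sup_right (Subgroup.mem_zpowers x)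

end

theorem snc_stable_embedding {G : Type u} [Group G] [Finite G] {p : ℕ} [Fact p.Prime]
    (hst : IsActionPStable p G)
    (hc : Subgroup.centralizer (pCore p G : Set G) ≤ pCore p G) (S : Sylow p G)
    (hle : (S : Subgroup G) ≤
      Subgroup.normalizer (thompsonSubgroupOf p (S : Subgroup G) : Set G)) :
    IsStableEmbedding p (Subgroup.inclusion hle) := by
  haveI := pCore_normal' p G
  have hPS : pCore p G ≤ (S : Subgroup G) := (pCore_isPGroup' p G).le_sylow_of_normal S
  refine ⟨Subgroup.inclusion_injective hle, inferInstance, ⟨S.subtype hle, ?_⟩, ?_, ?_, ?_⟩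
  · rw [Sylow.coe_subtype, Subgroup.inclusion_range]
  · intro x hx
    have h1 : (pCore p G).subgroupOf
        (Subgroup.normalizer (thompsonSubgroupOf p (S : Subgroup G) : Set G)) ≤
        pCore p ↥(Subgroup.normalizer (thompsonSubgroupOf p (S : Subgroup G) : Set G)) :=
      le_pCore' inferInstance ((pCore_isPGroup' p G).comap_subtype)
    apply h1
    rw [Subgroup.mem_subgroupOf]
    apply hc
    refine Subgroup.mem_centralizer_iff.mpr ?_
    intro y hy
    have := Subgroup.mem_centralizer_iff.mp hx ⟨y, hle (hPS hy)⟩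
      (h1 (Subgroup.mem_subgroupOf.mpr hy))
    exact congrArg Subtype.val this
  · have : (thompsonSubgroup p ↥(S : Subgroup G)).map (Subgroup.inclusion hle) =
        (thompsonSubgroupOf p (S : Subgroup G)).subgroupOf
          (Subgroup.normalizer (thompsonSubgroupOf p (S : Subgroup G) : Set G)) := by
      ext x
      rw [Subgroup.mem_subgroupOf]
      constructor
      · rintro ⟨y, hy, rfl⟩
        exact ⟨y, hy, rfl⟩
      · rintro ⟨y, hy, hyx⟩
        exact ⟨y, hy, Subtype.ext hyx⟩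
    rw [this]
    infer_instance
  · intro V _ hV
    apply hst.2.2 S V
    rintro _ ⟨v, hv, rfl⟩
    obtain ⟨y, hy, rfl⟩ := hV hv
    exact ⟨y, hy, rfl⟩

/-- the analogue of the ZJ-theorem for the stable normal closure `W(S)` -/
theorem snc_normal_of_stable {G : Type u} [Group G] [Finite G] {p : ℕ} [Fact p.Prime]
    (hst : IsActionPStable p G)
    (hc : Subgroup.centralizer (pCore p G : Set G) ≤ pCore p G) (S : Sylow p G) :
    (((stableNormalClosure p ↥(S : Subgroup G)).map (S : Subgroup G).subtype)).Normal := by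
  haveI hPn := pCore_normal' p G
  have hPp := pCore_isPGroup' p G
  have hPS : pCore p G ≤ (S : Subgroup G) := hPp.le_sylow_of_normal S
  have hSJ : (S : Subgroup G) ≤
      Subgroup.normalizer (thompsonSubgroupOf p (S : Subgroup G) : Set G) :=
    Subgroup.le_normalizer.trans (normalizer_le_normalizer_thompsonOf p _)
  have hτ := snc_stable_embedding hst hc S hSJ
  have hτn := snc_map_normal p _ hτ
  have hoct := snc_le_oct (S := ↥(S : Subgroup G)) p
  have hcentral := snc_quad_central (S := ↥(S : Subgroup G)) (p := p)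
  generalize hW₀ : stableNormalClosure p ↥(S : Subgroup G) = W₀ at hτn hoct hcentral ⊢
  generalize hW : W₀.map (S : Subgroup G).subtype = W
  have hWS : W ≤ (S : Subgroup G) := by rw [← hW]; exact Subgroup.map_subtype_le _
  -- Step 1: `N_G(J(S))` normalizes `W`
  have hG₁W : Subgroup.normalizer (thompsonSubgroupOf p (S : Subgroup G) : Set G) ≤
      Subgroup.normalizer (W : Set G) := by
    intro n hn
    apply fin_mem_normalizer
    intro w hw
    rw [← hW] at hw ⊢
    obtain ⟨w₀, hw₀, rfl⟩ := hw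
    have h1 : (⟨n, hn⟩ : ↥(Subgroup.normalizer (thompsonSubgroupOf p (S : Subgroup G) : Set G))) *
        (Subgroup.inclusion hSJ w₀) * (⟨n, hn⟩)⁻¹ ∈ W₀.map (Subgroup.inclusion hSJ) :=
      hτn.conj_mem _ (Subgroup.mem_map_of_mem _ hw₀) _
    obtain ⟨w₁, hw₁, hw₁e⟩ := h1
    refine ⟨w₁, hw₁, ?_⟩
    have := congrArg Subtype.val hw₁e
    exact this
  have hSW : (S : Subgroup G) ≤ Subgroup.normalizer (W : Set G) := hSJ.trans hG₁W
  -- Step 2: `W` is elementary abelian
  have hW₀EA : IsElementaryAbelian p W₀ := by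
    obtain ⟨A, hA⟩ := exists_maxEA (G := ↥(S : Subgroup G)) p
    exact isEA_of_le (hoct.trans (oct_le_maxEA hA)) hA.1
  have hWEA : IsElementaryAbelian p W := by rw [← hW]; exact isEA_map _ hW₀EA
  have hWc : ∀ x ∈ W, ∀ y ∈ W, x * y = y * x := (isEA_iff.mp hWEA).1
  have hWW : ⁅W, W⁆ = ⊥ := by
    rw [Subgroup.commutator_eq_bot_iff_le_centralizer]
    intro x hx
    exact Subgroup.mem_centralizer_iff.mpr (fun y hy => hWc y hy x hx)
  -- quadratic elements of `S` centralize `W`
  have hquadW : ∀ y ∈ (S : Subgroup G),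
      ⁅⁅W, Subgroup.zpowers y⁆, Subgroup.zpowers y⁆ = ⊥ →
      y ∈ Subgroup.centralizer (W : Set G) := by
    intro y hyS hq
    have hq' : ⁅⁅W₀, Subgroup.zpowers (⟨y, hyS⟩ : ↥(S : Subgroup G))⁆,
        Subgroup.zpowers (⟨y, hyS⟩ : ↥(S : Subgroup G))⁆ = ⊥ := by
      rw [← Subgroup.map_eq_bot_iff_of_injective _ (Subgroup.subtype_injective _),
        Subgroup.map_commutator, Subgroup.map_commutator, MonoidHom.map_zpowers, hW]
      exact hq
    have hcen := hcentral _ hq'
    have hcen' : ⁅W, Subgroup.zpowers y⁆ = ⊥ := by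
      have := congrArg (Subgroup.map (S : Subgroup G).subtype) hcen
      rw [Subgroup.map_commutator, MonoidHom.map_zpowers, hW, Subgroup.map_bot] at this
      exact this
    have h5 : W ≤ Subgroup.centralizer ((Subgroup.zpowers y : Subgroup G) : Set G) :=
      Subgroup.commutator_eq_bot_iff_le_centralizer.mp hcen'
    refine Subgroup.mem_centralizer_iff.mpr ?_
    intro v hv
    exact (Subgroup.mem_centralizer_iff.mp (h5 hv) _ (Subgroup.mem_zpowers _)).symm
  -- Step 3: `W ≤ O_p(G)`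
  have hWP : W ≤ pCore p G := by
    intro w hw
    have hq : ⁅⁅pCore p G, Subgroup.zpowers w⁆, Subgroup.zpowers w⁆ ≤
        (frattini ↥(pCore p G)).map (pCore p G).subtype := by
      have h1 : ⁅pCore p G, Subgroup.zpowers w⁆ ≤ W := by
        have h2 : ⁅W, pCore p G⁆ ≤ W :=
          (Subgroup.le_normalizer_iff_commutator_le_left).mp (hPS.trans hSW)
        rw [Subgroup.commutator_comm]
        exact (Subgroup.commutator_mono (Subgroup.zpowers_le.mpr hw) le_rfl).trans h2
      have h3 : ⁅⁅pCore p G, Subgroup.zpowers w⁆, Subgroup.zpowers w⁆ ≤ ⁅W, W⁆ :=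
        Subgroup.commutator_mono h1 (Subgroup.zpowers_le.mpr hw)
      rw [hWW] at h3
      exact h3.trans bot_le
    obtain ⟨D, hDn, hKD, ⟨k, hk⟩, hwD⟩ := hst.2.1 w hq
    have hKp := sectionKernel_frattini_isPGroup (pCore p G) hPp hc
    have hDp := isPGroup_of_relIndex hKp hKD hk
    exact le_pCore' hDn hDp hwD
  -- Step 4: conjugates of `W` centralize `W`
  have hconj : ∀ g : G, ∀ w ∈ W, g * w * g⁻¹ ∈ Subgroup.centralizer (W : Set G) := by
    intro g w hw
    have hyP : g * w * g⁻¹ ∈ pCore p G := hPn.conj_mem w (hWP hw) g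
    have hyS := hPS hyP
    generalize hWg : W.map (MulAut.conj g).toMonoidHom = Wg
    have hyWg : g * w * g⁻¹ ∈ Wg := by rw [← hWg]; exact ⟨w, hw, rfl⟩
    have hWgc : ⁅Wg, Wg⁆ = ⊥ := by
      rw [← hWg, ← Subgroup.map_commutator, hWW, Subgroup.map_bot]
    have hPWg : pCore p G ≤ Subgroup.normalizer (Wg : Set G) := by
      intro x hx
      apply fin_mem_normalizer
      intro v hv
      rw [← hWg] at hv ⊢
      obtain ⟨v₀, hv₀, rfl⟩ := hv
      have hx' : g⁻¹ * x * g ∈ pCore p G := by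
        have := hPn.conj_mem x hx g⁻¹
        rwa [inv_inv] at this
      have h1 : (g⁻¹ * x * g) * v₀ * (g⁻¹ * x * g)⁻¹ ∈ W :=
        (Subgroup.mem_normalizer_iff.mp (hSW (hPS hx')) v₀).mp hv₀
      refine ⟨_, h1, ?_⟩
      show g * ((g⁻¹ * x * g) * v₀ * (g⁻¹ * x * g)⁻¹) * g⁻¹ = x * (g * v₀ * g⁻¹) * x⁻¹
      group
    have h1 : ⁅W, Subgroup.zpowers (g * w * g⁻¹)⁆ ≤ Wg := by
      have h2 : ⁅Wg, pCore p G⁆ ≤ Wg :=
        (Subgroup.le_normalizer_iff_commutator_le_left).mp hPWg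
      rw [Subgroup.commutator_comm]
      exact (Subgroup.commutator_mono (Subgroup.zpowers_le.mpr hyWg) hWP).trans h2
    have hq : ⁅⁅W, Subgroup.zpowers (g * w * g⁻¹)⁆, Subgroup.zpowers (g * w * g⁻¹)⁆ = ⊥ := by
      rw [eq_bot_iff, ← hWgc]
      exact Subgroup.commutator_mono h1 (Subgroup.zpowers_le.mpr hyWg)
    exact hquadW _ hyS hq
  -- Step 5: the normal closure `U` of `W` is elementary abelian
  generalize hU : Subgroup.normalClosure (W : Set G) = U
  haveI hUn : U.Normal := by rw [← hU]; infer_instance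
  have hWU : W ≤ U := by rw [← hU]; exact Subgroup.le_normalClosure
  have hUP : U ≤ pCore p G := by rw [← hU]; exact Subgroup.normalClosure_le_normal hWP
  have hUEA : IsElementaryAbelian p U := by
    rw [← hU]
    unfold Subgroup.normalClosure
    apply isEA_closure
    · intro x hx y hy
      obtain ⟨a, ha, hax⟩ := Group.mem_conjugatesOfSet_iff.mp hx
      obtain ⟨b, hb, hby⟩ := Group.mem_conjugatesOfSet_iff.mp hy
      obtain ⟨c, rfl⟩ := isConj_iff.mp hax
      obtain ⟨d, rfl⟩ := isConj_iff.mp hby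
      have h1 := Subgroup.mem_centralizer_iff.mp (hconj (d⁻¹ * c) a ha) b hb
      have e1 : c * a * c⁻¹ * (d * b * d⁻¹) =
          d * ((d⁻¹ * c * a * (d⁻¹ * c)⁻¹) * b) * d⁻¹ := by group
      have e2 : d * b * d⁻¹ * (c * a * c⁻¹) =
          d * (b * (d⁻¹ * c * a * (d⁻¹ * c)⁻¹)) * d⁻¹ := by group
      rw [e1, e2, h1]
    · intro x hx
      obtain ⟨a, ha, hax⟩ := Group.mem_conjugatesOfSet_iff.mp hx
      obtain ⟨c, rfl⟩ := isConj_iff.mp hax
      rw [conj_pow, (isEA_iff.mp hWEA).2 a ha, mul_one, mul_inv_cancel]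
  -- Step 6: quadratic elements of `S` centralize `U`
  have hstU : IsPStableOn p U := hst.1 U hUEA
  haveI hLn := stabL_normal p U
  have hquadS : ∀ a ∈ (S : Subgroup G),
      ⁅⁅U, Subgroup.zpowers a⁆, Subgroup.zpowers a⁆ = ⊥ →
      a ∈ Subgroup.centralizer (U : Set G) := by
    intro a haS haq
    have haL : a ∈ stabL p U := mem_stabL_of_quad hstU haq
    have key : ∀ g : G, ∀ w ∈ W, (g * w * g⁻¹) * a = a * (g * w * g⁻¹) := by
      intro g w hw
      obtain ⟨l, hl, hle⟩ := sylow_inf_conj (stabL p U) (g⁻¹ • S) S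
      have ha' : (l * g⁻¹) * a * (l * g⁻¹)⁻¹ ∈ (S : Subgroup G) := by
        have h1 : (l * g⁻¹) * a * (l * g⁻¹)⁻¹ ∈
            ((l • (g⁻¹ • S) : Sylow p G) : Subgroup G) ⊓ stabL p U := by
          refine Subgroup.mem_inf.mpr ⟨?_, hLn.conj_mem a haL _⟩
          rw [mem_sylow_smul_iff, mem_sylow_smul_iff]
          have e : (g⁻¹)⁻¹ * (l⁻¹ * ((l * g⁻¹) * a * (l * g⁻¹)⁻¹) * l) * g⁻¹ = a := by group
          rw [e]; exact haS
        rw [hle] at h1
        exact h1.1
      have ha'q := snc_quad_conj (l * g⁻¹) haq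
      have hq1 : ⁅⁅W, Subgroup.zpowers ((l * g⁻¹) * a * (l * g⁻¹)⁻¹)⁆,
          Subgroup.zpowers ((l * g⁻¹) * a * (l * g⁻¹)⁻¹)⁆ = ⊥ := by
        rw [eq_bot_iff, ← ha'q]
        exact Subgroup.commutator_mono (Subgroup.commutator_mono hWU le_rfl) le_rfl
      have hcen := hquadW _ ha' hq1
      obtain ⟨x, hxS, hxc⟩ := stabL_decomp S (Subgroup.inv_mem _ hl)
      have hw₁ : x⁻¹ * w * x⁻¹⁻¹ ∈ W :=
        (Subgroup.mem_normalizer_iff.mp (hSW (Subgroup.inv_mem _ hxS)) w).mp hw
      generalize hw₁def : x⁻¹ * w * x⁻¹⁻¹ = w₁ at hw₁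
      have hc1 := Subgroup.mem_centralizer_iff.mp hxc _ (hWU hw₁)
      have hc2 := Subgroup.mem_centralizer_iff.mp hcen _ hw₁
      have hw_eq : w = l⁻¹ * w₁ * l := by
        have e0 : w = x * w₁ * x⁻¹ := by rw [← hw₁def]; group
        calc w = x * w₁ * x⁻¹ := e0
          _ = x * (w₁ * (x⁻¹ * l⁻¹)) * l := by group
          _ = x * ((x⁻¹ * l⁻¹) * w₁) * l := by rw [hc1]
          _ = l⁻¹ * w₁ * l := by group
      generalize ha'def : (l * g⁻¹) * a * (l * g⁻¹)⁻¹ = a' at hc2
      have ha_eq : a = (l * g⁻¹)⁻¹ * a' * (l * g⁻¹) := by rw [← ha'def]; group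
      calc g * w * g⁻¹ * a = (l * g⁻¹)⁻¹ * (w₁ * a') * (l * g⁻¹) := by
            rw [hw_eq, ha_eq]; group
        _ = (l * g⁻¹)⁻¹ * (a' * w₁) * (l * g⁻¹) := by rw [hc2]
        _ = a * (g * w * g⁻¹) := by rw [hw_eq, ha_eq]; group
    have hUle : U ≤ Subgroup.centralizer ({a} : Set G) := by
      rw [← hU]
      unfold Subgroup.normalClosure
      rw [Subgroup.closure_le]
      intro z hz
      obtain ⟨b, hb, hbz⟩ := Group.mem_conjugatesOfSet_iff.mp hz
      obtain ⟨c, rfl⟩ := isConj_iff.mp hbz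
      refine Subgroup.mem_centralizer_iff.mpr ?_
      intro h hh
      rw [Set.mem_singleton_iff] at hh
      rw [hh]
      exact (key c b hb).symm
    refine Subgroup.mem_centralizer_iff.mpr ?_
    intro u hu
    exact (Subgroup.mem_centralizer_iff.mp (hUle hu) a (Set.mem_singleton a)).symm
  -- Step 7: `J(S)` centralizes `U`
  have hUS : U ≤ (S : Subgroup G) := hUP.trans hPS
  have hAU : ∀ A ∈ maxEAin p (S : Subgroup G), A ≤ Subgroup.centralizer (U : Set G) := by
    intro A hA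
    have hA' : A.subgroupOf (S : Subgroup G) ∈
        maxElementaryAbelianSubgroups p ↥(S : Subgroup G) := by
      refine ⟨isEA_subgroupOf _ hA.2.1, fun B hB => ?_⟩
      rw [card_subgroupOf_of_le hA.1, ← card_map_subtype B]
      exact hA.2.2 _ (Subgroup.map_subtype_le B) (isEA_map _ hB)
    haveI hV'n : (U.subgroupOf (S : Subgroup G)).Normal := inferInstance
    have hV'EA : IsElementaryAbelian p (U.subgroupOf (S : Subgroup G)) :=
      isEA_subgroupOf _ hUEA
    obtain ⟨-, hquad, hnt⟩ := Cfsg.Agent.S0607.result (U.subgroupOf (S : Subgroup G)) hV'EA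
      (A.subgroupOf (S : Subgroup G)) hA'
    obtain ⟨A₀', hA₀'⟩ : ∃ A₀' : Subgroup ↥(S : Subgroup G), A₀' =
        ⁅U.subgroupOf (S : Subgroup G), A.subgroupOf (S : Subgroup G)⁆ ⊔
        (A.subgroupOf (S : Subgroup G) ⊓ Subgroup.centralizer
          ((⁅U.subgroupOf (S : Subgroup G), A.subgroupOf (S : Subgroup G)⁆ :
            Subgroup ↥(S : Subgroup G)) : Set ↥(S : Subgroup G))) := ⟨_, rfl⟩
    rw [← hA₀'] at hquad hnt
    have hmapV : (U.subgroupOf (S : Subgroup G)).map (S : Subgroup G).subtype = U :=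
      Subgroup.map_subgroupOf_eq_of_le hUS
    have hmapA : (A.subgroupOf (S : Subgroup G)).map (S : Subgroup G).subtype = A :=
      Subgroup.map_subgroupOf_eq_of_le hA.1
    have hquadG : ⁅⁅U, A₀'.map (S : Subgroup G).subtype⁆, A₀'.map (S : Subgroup G).subtype⁆ =
        ⊥ := by
      rw [← hmapV, ← Subgroup.map_commutator, ← Subgroup.map_commutator, hquad,
        Subgroup.map_bot]
    have hA₀C : A₀'.map (S : Subgroup G).subtype ≤ Subgroup.centralizer (U : Set G) := by
      intro a ha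
      apply hquadS a (Subgroup.map_subtype_le _ ha)
      rw [eq_bot_iff, ← hquadG]
      exact Subgroup.commutator_mono
        (Subgroup.commutator_mono le_rfl (Subgroup.zpowers_le.mpr ha))
        (Subgroup.zpowers_le.mpr ha)
    have hcomm0 : ⁅U, A₀'.map (S : Subgroup G).subtype⁆ = ⊥ :=
      Subgroup.commutator_eq_bot_iff_le_centralizer.mpr (Subgroup.le_centralizer_iff.mp hA₀C)
    have hcomm0' : ⁅U.subgroupOf (S : Subgroup G), A₀'⁆ = ⊥ := by
      apply (Subgroup.map_eq_bot_iff_of_injective _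
        (Subgroup.subtype_injective (S : Subgroup G))).mp
      rw [Subgroup.map_commutator, hmapV]
      exact hcomm0
    have hcommA' : ⁅U.subgroupOf (S : Subgroup G), A.subgroupOf (S : Subgroup G)⁆ = ⊥ := by
      by_contra h
      exact hnt h hcomm0'
    have hcommA : ⁅U, A⁆ = ⊥ := by
      rw [← hmapV, ← hmapA, ← Subgroup.map_commutator, hcommA', Subgroup.map_bot]
    exact Subgroup.le_centralizer_iff.mp (Subgroup.commutator_eq_bot_iff_le_centralizer.mp hcommA)
  have hJU : thompsonSubgroupOf p (S : Subgroup G) ≤ Subgroup.centralizer (U : Set G) := by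
    rw [thompsonSubgroupOf_eq_sSup]
    exact sSup_le hAU
  -- Step 8: Frattini argument
  have hXW : Subgroup.centralizer (U : Set G) ≤ Subgroup.normalizer (W : Set G) := by
    intro x hx
    apply fin_mem_normalizer
    intro w hw
    have := Subgroup.mem_centralizer_iff.mp hx w (hWU hw)
    have e : x * w * x⁻¹ = w := by rw [← this]; group
    rw [e]; exact hw
  have hJT : thompsonSubgroupOf p ((S : Subgroup G) ⊓ Subgroup.centralizer (U : Set G)) =
      thompsonSubgroupOf p (S : Subgroup G) :=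
    thompsonSubgroupOf_eq_of_le (le_inf (thompsonSubgroupOf_le p _) hJU) inf_le_left
  rw [← Subgroup.normalizer_eq_top_iff, eq_top_iff]
  intro g _
  obtain ⟨x, hx, hxe⟩ := sylow_inf_conj (Subgroup.centralizer (U : Set G)) (g • S) S
  have hn : x * g ∈ Subgroup.normalizer
      (((S : Subgroup G) ⊓ Subgroup.centralizer (U : Set G) : Subgroup G) : Set G) := by
    apply fin_mem_normalizer
    rintro t ⟨htS, htX⟩
    have h1 : (x * g) * t * (x * g)⁻¹ ∈
        ((x • (g • S) : Sylow p G) : Subgroup G) ⊓ Subgroup.centralizer (U : Set G) := by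
      refine Subgroup.mem_inf.mpr
        ⟨?_, (inferInstance : (Subgroup.centralizer (U : Set G)).Normal).conj_mem t htX _⟩
      rw [mem_sylow_smul_iff, mem_sylow_smul_iff]
      have e : g⁻¹ * (x⁻¹ * ((x * g) * t * (x * g)⁻¹) * x) * g = t := by group
      rw [e]; exact htS
    rw [hxe] at h1
    exact h1
  have hn2 : x * g ∈ Subgroup.normalizer (W : Set G) := by
    apply hG₁W
    rw [← hJT]
    exact normalizer_le_normalizer_thompsonOf p _ hn
  have hx2 : x⁻¹ ∈ Subgroup.normalizer (W : Set G) := Subgroup.inv_mem _ (hXW hx)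
  have hg : g = x⁻¹ * (x * g) := by group
  rw [hg]
  exact Subgroup.mul_mem _ hx2 hn2

end Cfsg.Agent.Lib.Helper3
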