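import Mathlib
import Cfsg.Prelude.Def_PLocal
import Cfsg.Agent.Lib.Helper3.SNC2
import Cfsg.Agent.Lib.Helper3.GT14

set_option autoImplicit false
set_option linter.style.haveILetI false
open Cfsg
open scoped commutatorElement

namespace Cfsg.Agent.Lib.Helper3

universe u

section Iso

theorem thompsonSubgroup_map_equiv' {P Q : Type*} [Group P] [Group Q] (p : ℕ) (e : P ≃* Q) :
    (thompsonSubgroup p P).map e.toMonoidHom = thompsonSubgroup p Q := by
  unfold thompsonSubgroup
  apply le_antisymm
  · rw [Subgroup.map_le_iff_le_comap]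
    apply sSup_le
    intro A hA
    rw [← Subgroup.map_le_iff_le_comap]
    exact le_sSup (maxEA_map_equiv e hA)
  · apply sSup_le
    intro B hB b hb
    have h1 : B.map e.symm.toMonoidHom ≤ sSup (maxElementaryAbelianSubgroups p P) :=
      le_sSup (maxEA_map_equiv e.symm hB)
    exact ⟨e.symm b, h1 ⟨b, hb, rfl⟩, e.apply_symm_apply b⟩

theorem map_inf_centralizer_of_injective {S H : Type*} [Group S] [Group H] (τ : S →* H)
    (hτ : Function.Injective τ) (J : Subgroup S) :
    (J ⊓ Subgroup.centralizer (J : Set S)).map τ =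
      J.map τ ⊓ Subgroup.centralizer ((J.map τ : Subgroup H) : Set H) := by
  ext y
  constructor
  · rintro ⟨x, ⟨hx1, hx2⟩, rfl⟩
    refine ⟨⟨x, hx1, rfl⟩, ?_⟩
    refine Subgroup.mem_centralizer_iff.mpr ?_
    rintro _ ⟨z, hz, rfl⟩
    have := Subgroup.mem_centralizer_iff.mp hx2 z hz
    show τ z * τ x = τ x * τ z
    rw [← map_mul, ← map_mul, this]
  · rintro ⟨⟨x, hx, rfl⟩, hy2⟩
    refine ⟨x, ⟨hx, ?_⟩, rfl⟩
    refine Subgroup.mem_centralizer_iff.mpr ?_
    intro z hz
    apply hτ
    rw [map_mul, map_mul]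
    exact Subgroup.mem_centralizer_iff.mp hy2 (τ z) ⟨z, hz, rfl⟩

theorem oct_map_equiv {P Q : Type*} [Group P] [Group Q] (p : ℕ) (e : P ≃* Q) :
    (omegaCenterThompson p P).map e.toMonoidHom = omegaCenterThompson p Q := by
  unfold omegaCenterThompson
  rw [omegaOne_map_equiv, map_inf_centralizer_of_injective _ e.injective,
    thompsonSubgroup_map_equiv']

theorem center_map_equiv' {P Q : Type*} [Group P] [Group Q] (e : P ≃* Q) :
    (Subgroup.center P).map e.toMonoidHom = Subgroup.center Q := by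
  ext x
  constructor
  · rintro ⟨y, hy, rfl⟩
    refine Subgroup.mem_center_iff.mpr ?_
    intro g
    obtain ⟨g', rfl⟩ := e.surjective g
    have := Subgroup.mem_center_iff.mp hy g'
    show e g' * e y = e y * e g'
    rw [← map_mul, ← map_mul, this]
  · intro hx
    refine ⟨e.symm x, ?_, e.apply_symm_apply x⟩
    refine Subgroup.mem_center_iff.mpr ?_
    intro g
    apply e.injective
    rw [map_mul, map_mul, e.apply_symm_apply]
    exact Subgroup.mem_center_iff.mp hx (e g)

theorem stableEmbedding_comp_equiv {P Q H : Type u} [Group P] [Group Q] [Group H] {p : ℕ}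
    (e : P ≃* Q) (τ : Q →* H) (hτ : IsStableEmbedding p τ) :
    IsStableEmbedding p (τ.comp e.toMonoidHom) := by
  obtain ⟨hinj, hfin, ⟨R, hR⟩, hc, hJ, hst⟩ := hτ
  refine ⟨hinj.comp e.injective, hfin, ⟨R, ?_⟩, hc, ?_, ?_⟩
  · rw [hR]
    ext x
    constructor
    · rintro ⟨y, rfl⟩
      exact ⟨e.symm y, by simp⟩
    · rintro ⟨y, rfl⟩
      exact ⟨e y, rfl⟩
  · rw [← Subgroup.map_map, thompsonSubgroup_map_equiv']
    exact hJ
  · intro V _ hV
    apply hst V
    rw [← Subgroup.map_map, oct_map_equiv] at hV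
    exact hV

theorem sncFam_map_equiv {P Q : Type u} [Group P] [Group Q] {p : ℕ} (e : P ≃* Q)
    {W' : Subgroup P} (h : W' ∈ sncFam p P) : W'.map e.toMonoidHom ∈ sncFam p Q := by
  refine ⟨?_, ?_⟩
  · have h1 : omegaOne p (Subgroup.center Q) =
        (omegaOne p (Subgroup.center P)).map e.toMonoidHom := by
      rw [omegaOne_map_equiv, center_map_equiv']
    rw [h1]
    exact Subgroup.map_mono h.1
  · intro H _ τ hτ
    rw [Subgroup.map_map]
    exact h.2 H (τ.comp e.toMonoidHom) (stableEmbedding_comp_equiv e τ hτ)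

theorem snc_map_equiv_le {P Q : Type u} [Group P] [Group Q] (p : ℕ) (e : P ≃* Q) :
    (stableNormalClosure p P).map e.toMonoidHom ≤ stableNormalClosure p Q := by
  rintro _ ⟨y, hy, rfl⟩
  have hy' : y ∈ sInf (sncFam p P) := hy
  show e y ∈ sInf (sncFam p Q)
  rw [Subgroup.mem_sInf]
  intro W'' hW''
  have h1 := sncFam_map_equiv e.symm hW''
  have h2 : y ∈ W''.map e.symm.toMonoidHom := (Subgroup.mem_sInf.mp hy') _ h1
  obtain ⟨z, hz, hzy⟩ := h2
  have : e y = z := by rw [← hzy]; exact e.apply_symm_apply z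
  rw [this]; exact hz

theorem snc_map_equiv {P Q : Type u} [Group P] [Group Q] (p : ℕ) (e : P ≃* Q) :
    (stableNormalClosure p P).map e.toMonoidHom = stableNormalClosure p Q := by
  apply le_antisymm (snc_map_equiv_le p e)
  intro x hx
  exact ⟨e.symm x, snc_map_equiv_le p e.symm ⟨x, hx, rfl⟩, e.apply_symm_apply x⟩

theorem snc_ne_bot {Q : Type u} [Group Q] [Finite Q] {p : ℕ} [Fact p.Prime] (hQ : IsPGroup p Q)
    [Nontrivial Q] : stableNormalClosure p Q ≠ ⊥ := by
  intro h
  have h1 : omegaOne p (Subgroup.center Q) ≤ stableNormalClosure p Q := (snc_mem_sncFam p).1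
  rw [h, le_bot_iff] at h1
  have hcn : Nontrivial ↥(Subgroup.center Q) := hQ.center_nontrivial
  have hcp : IsPGroup p ↥(Subgroup.center Q) := hQ.to_subgroup _
  obtain ⟨n, hn⟩ := hcp.exists_card_eq
  have hdvd : p ∣ Nat.card ↥(Subgroup.center Q) := by
    rw [hn]
    have : n ≠ 0 := by
      rintro rfl
      rw [pow_zero] at hn
      have := Finite.one_lt_card_iff_nontrivial.mpr hcn
      omega
    exact dvd_pow_self p this
  obtain ⟨z, hz⟩ := exists_prime_orderOf_dvd_card' p hdvd
  have hz1 : (z : Q) ∈ omegaOne p (Subgroup.center Q) := by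
    apply Subgroup.subset_closure
    refine ⟨z.2, ?_⟩
    have : z ^ p = 1 := by rw [← hz]; exact pow_orderOf_eq_one z
    exact congrArg Subtype.val this
  rw [h1, Subgroup.mem_bot] at hz1
  have : z = 1 := Subtype.ext hz1
  rw [this, orderOf_one] at hz
  exact (Fact.out : p.Prime).one_lt.ne hz

theorem snc_isCharPFunctor (p : ℕ) [Fact p.Prime] :
    IsCharPFunctor.{u} p (fun (Q : Type u) [Group Q] => stableNormalClosure p Q) :=
  ⟨fun Q _ _ hQ hnt => by haveI := hnt; exact snc_ne_bot hQ,
    fun Q R _ _ _ _ φ => snc_map_equiv p φ⟩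

end Iso

section Stable

variable {p : ℕ} [Fact p.Prime]

theorem relIndex_ker_comap {X Y : Type*} [Group X] [Group Y] (f : X →* Y)
    (hf : Function.Surjective f) (T : Subgroup Y) : f.ker.relIndex (T.comap f) = Nat.card T := by
  have h1 : f.ker = (⊥ : Subgroup Y).comap f := (MonoidHom.comap_bot f).symm
  rw [h1, Subgroup.relIndex_comap, Subgroup.map_comap_eq_self_of_surjective hf,
    Subgroup.relIndex_bot_left]

theorem pstableOnSection_of_quot {G : Type*} [Group G] [Finite G] (P Φ : Subgroup G)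
    [hΦn : Φ.Normal] [hPbn : (P.map (QuotientGroup.mk' Φ)).Normal]
    (hquot : IsPStableOn p (P.map (QuotientGroup.mk' Φ))) : IsPStableOnSection p P Φ := by
  intro a ha
  have hqa : ⁅⁅P.map (QuotientGroup.mk' Φ), Subgroup.zpowers (QuotientGroup.mk' Φ a)⁆,
      Subgroup.zpowers (QuotientGroup.mk' Φ a)⁆ = ⊥ := by
    rw [← MonoidHom.map_zpowers, ← Subgroup.map_commutator, ← Subgroup.map_commutator,
      eq_bot_iff, Subgroup.map_le_iff_le_comap, MonoidHom.comap_bot, QuotientGroup.ker_mk']
    exact ha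
  have hmem := mem_stabL_of_quad hquot hqa
  refine ⟨(stabL p (P.map (QuotientGroup.mk' Φ))).comap (QuotientGroup.mk' Φ),
    (stabL_normal p _).comap _, ?_, ?_, hmem⟩
  · unfold sectionKernel
    apply Subgroup.comap_mono
    intro x hx
    show (QuotientGroup.mk' _ x) ∈ pCore p _
    have : QuotientGroup.mk' (Subgroup.centralizer
        ((P.map (QuotientGroup.mk' Φ) : Subgroup (G ⧸ Φ)) : Set (G ⧸ Φ))) x = 1 :=
      (QuotientGroup.eq_one_iff x).mpr hx
    rw [this]; exact Subgroup.one_mem _
  · obtain ⟨k, hk⟩ := (pCore_isPGroup' p ((G ⧸ Φ) ⧸ Subgroup.centralizer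
      ((P.map (QuotientGroup.mk' Φ) : Subgroup (G ⧸ Φ)) : Set (G ⧸ Φ)))).exists_card_eq
    refine ⟨k, ?_⟩
    unfold sectionKernel
    rw [Subgroup.relIndex_comap,
      Subgroup.map_comap_eq_self_of_surjective (QuotientGroup.mk'_surjective Φ)]
    have h3 := relIndex_ker_comap (QuotientGroup.mk' (Subgroup.centralizer
        ((P.map (QuotientGroup.mk' Φ) : Subgroup (G ⧸ Φ)) : Set (G ⧸ Φ))))
      (QuotientGroup.mk'_surjective _) (pCore p _)
    rw [QuotientGroup.ker_mk'] at h3
    rw [← hk]
    exact h3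

theorem actionPStable_of_pstruct (hp2 : p ≠ 2) {G : Type u} [Group G] [Finite G]
    (h : PStruct p G) : IsActionPStable p G := by
  have gen : ∀ {X : Type u} [Group X] [Finite X], PStruct p X →
      ∀ (B : Subgroup X) [B.Normal], IsPGroup p B → IsPStableOn p B := by
    intro X _ _ hX
    obtain ⟨H, K, hHn, hKn, hHp, hKK, ⟨m, hm, hKm⟩, a, hKi⟩ := hX
    haveI := hKn
    have hle : H ≤ pCore p X := le_pCore' hHn hHp
    exact pstable_of_structure hp2 K (hKK.trans hle) hm (fun k hk => hle (hKm k hk)) hKi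
  haveI hPn := pCore_normal' p G
  refine ⟨?_, ?_, ?_⟩
  · intro V _ hV
    exact gen h V (isPGroup_of_isEA hV)
  · haveI hΦn : ((frattini ↥(pCore p G)).map (pCore p G).subtype).Normal := inferInstance
    haveI hPbn : ((pCore p G).map (QuotientGroup.mk'
        ((frattini ↥(pCore p G)).map (pCore p G).subtype))).Normal :=
      hPn.map _ (QuotientGroup.mk'_surjective _)
    have hquot : IsPStableOn p ((pCore p G).map (QuotientGroup.mk'
        ((frattini ↥(pCore p G)).map (pCore p G).subtype))) :=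
      gen (pstruct_surj _ (QuotientGroup.mk'_surjective _) h) _ ((pCore_isPGroup' p G).map _)
    exact pstableOnSection_of_quot (pCore p G) _ hquot
  · intro S V _ hV
    have hVp : IsPGroup p ↥V := by
      have h1 : IsPGroup p ↥(V.map (Subgroup.normalizer
          (thompsonSubgroupOf p (S : Subgroup G) : Set G)).subtype) :=
        S.isPGroup'.to_le (hV.trans (Subgroup.map_subtype_le _))
      exact h1.of_equiv (V.equivMapOfInjective _ (Subgroup.subtype_injective _)).symm
    exact gen (pstruct_subgroup _ h) V hVp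

theorem snc_final (hp2 : p ≠ 2) {G : Type u} [Group G] [Finite G] (P : Sylow p G)
    (hO' : pPrimeCore p G = ⊥)
    (star : ∀ M : Subgroup G, (P : Subgroup G) ≤ M → M ≠ ⊤ → HasNormalPComplement p ↥M)
    (hquot : HasNormalPComplement p (G ⧸ pCore p G))
    (hN : HasNormalPComplement p ↥(Subgroup.normalizer
      (((stableNormalClosure p ↥(P : Subgroup G)).map (P : Subgroup G).subtype : Subgroup G) :
        Set G))) :
    HasNormalPComplement p G := by
  obtain ⟨hE1, K, hKn, -, ⟨a, hKi⟩, hKK, m, hm, hKm⟩ := th_struct P hO' star hquot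
  have hPS : PStruct p G :=
    ⟨pCore p G, K, pCore_normal' p G, hKn, pCore_isPGroup' p G, hKK, ⟨m, hm, hKm⟩, a, hKi⟩
  have hst : IsActionPStable p G := actionPStable_of_pstruct hp2 hPS
  have hnorm := snc_normal_of_stable hst hE1 P
  exact pn_of_eq_top _ (Subgroup.normalizer_eq_top_iff.mpr hnorm) hN

/-- Thompson's normal `p`-complement theorem for the stable normal closure `W(S)` -/
theorem snc_thompson (hp2 : p ≠ 2) {G : Type u} [Group G] [Finite G] (S : Sylow p G)
    (hN : HasNormalPComplement p ↥(Subgroup.normalizer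
      (((stableNormalClosure p ↥(S : Subgroup G)).map (S : Subgroup G).subtype : Subgroup G) :
        Set G))) :
    HasNormalPComplement p G := by
  have hW := snc_isCharPFunctor.{u} p
  have hN' : HasNormalPComplement p
      ↥(Subgroup.normalizer ((cfChar p _ hW).W (S : Subgroup G) : Set G)) := by
    rw [cfChar_apply hW (S : Subgroup G) S.isPGroup']; exact hN
  exact th_main_aux (cfChar p _ hW) (cfChar p _ hW) (fun _ _ => True)
    (fun _ _ _ _ _ => trivial) (fun _ _ _ _ _ _ => trivial)
    (fun G' _ _ P _ hO' star hquot hN₁ _ => by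
      rw [cfChar_apply hW (P : Subgroup G') P.isPGroup'] at hN₁
      exact snc_final hp2 P hO' star hquot hN₁)
    _ G rfl S trivial hN' (pn_centralizer_of_normalizer _ hN')

end Stable

end Cfsg.Agent.Lib.Helper3
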