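import Mathlib
import Cfsg.Agent.S2961
import Cfsg.Agent.S3011
import Cfsg.Agent.S3012
import Cfsg.Agent.S3013
import Cfsg.Agent.Lib.Helper3.WCChar
import Cfsg.Agent.Lib.Helper3.GT4
import Cfsg.Agent.Lib.Helper1.GenFit
import Cfsg.Agent.Lib.Helper1.Layer

set_option autoImplicit false

namespace Cfsg.Agent.Lib.Helper3

open Cfsg

universe u

/-- elementwise form of an elementary abelian 2-subgroup -/
structure SkEA {G : Type*} [Group G] (W : Subgroup G) : Prop where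
  sq : ∀ a ∈ W, a * a = 1
  comm : ∀ a ∈ W, ∀ b ∈ W, a * b = b * a

theorem SkEA.of {G : Type*} [Group G] {V : Subgroup G} (hV : Cfsg.IsElementaryAbelian 2 V) :
    SkEA V := by
  refine ⟨fun a ha => ?_, fun a ha b hb => ?_⟩
  · rw [← pow_two]; exact hV.2 a ha
  · have := hV.1.is_comm.comm ⟨a, ha⟩ ⟨b, hb⟩
    exact congrArg (Subtype.val : ↥V → G) this

theorem SkEA.mono {G : Type*} [Group G] {V W : Subgroup G} (hV : SkEA V) (h : W ≤ V) : SkEA W :=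
  ⟨fun a ha => hV.sq a (h ha), fun a ha b hb => hV.comm a (h ha) b (h hb)⟩

theorem SkEA.inv {G : Type*} [Group G] {V : Subgroup G} (hV : SkEA V) {a : G} (ha : a ∈ V) :
    a⁻¹ = a :=
  inv_eq_of_mul_eq_one_left (hV.sq a ha)

theorem SkEA.isPGroup {G : Type*} [Group G] {V : Subgroup G} (hV : SkEA V) : IsPGroup 2 V := by
  intro a
  refine ⟨1, Subtype.ext ?_⟩
  rw [Subgroup.coe_pow, Subgroup.coe_one, pow_one, pow_two]
  exact hV.sq a.1 a.2

theorem SkEA.toEA {G : Type*} [Group G] {W : Subgroup G} (hW : SkEA W) :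
    Cfsg.IsElementaryAbelian 2 W := by
  refine ⟨⟨⟨fun a b => Subtype.ext (hW.comm _ a.2 _ b.2)⟩⟩, fun a ha => ?_⟩
  rw [pow_two]; exact hW.sq a ha

theorem SkEA.subgroupOf {G : Type*} [Group G] {W : Subgroup G} (hW : SkEA W) (H : Subgroup G) :
    Cfsg.IsElementaryAbelian 2 (W.subgroupOf H) := by
  refine ⟨⟨⟨fun a b => ?_⟩⟩, fun a ha => ?_⟩
  · apply Subtype.ext
    apply Subtype.ext
    exact hW.comm _ (Subgroup.mem_subgroupOf.mp a.2) _ (Subgroup.mem_subgroupOf.mp b.2)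
  · apply Subtype.ext
    rw [Subgroup.coe_pow, Subgroup.coe_one, pow_two]
    exact hW.sq _ (Subgroup.mem_subgroupOf.mp ha)

theorem SkEA.map {G H : Type*} [Group G] [Group H] {V : Subgroup G} (hV : SkEA V) (f : G →* H) :
    Cfsg.IsElementaryAbelian 2 (V.map f) := by
  refine ⟨⟨⟨fun a b => ?_⟩⟩, ?_⟩
  · obtain ⟨x, hx, hxa⟩ := a.2
    obtain ⟨y, hy, hyb⟩ := b.2
    apply Subtype.ext
    show (a : H) * (b : H) = (b : H) * (a : H)
    rw [← hxa, ← hyb, ← f.map_mul, ← f.map_mul, hV.comm x hx y hy]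
  · rintro _ ⟨x, hx, rfl⟩
    rw [pow_two, ← f.map_mul, hV.sq x hx, f.map_one]

theorem sk_sidki_subgroupOf {G : Type*} [Group G] (H W : Subgroup G) (hWH : W ≤ H)
    (hSid : ∀ h ∈ H, Odd (orderOf h) → ∀ v ∈ W, v * h * v⁻¹ = h⁻¹ →
      ∃ w ∈ W, w ≠ 1 ∧ w * h = h * w) :
    Cfsg.IsSidkiPair (W.subgroupOf H) := by
  intro h v hv hodd hinv
  have hodd' : Odd (orderOf (h : G)) := by rw [Subgroup.orderOf_coe]; exact hodd
  have hinv' : (v : G) * (h : G) * (v : G)⁻¹ = (h : G)⁻¹ :=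
    congrArg (Subtype.val : ↥H → G) hinv
  obtain ⟨w, hw, hw1, hwh⟩ := hSid h.1 h.2 hodd' v.1 (Subgroup.mem_subgroupOf.mp hv) hinv'
  exact ⟨⟨w, hWH hw⟩, Subgroup.mem_subgroupOf.mpr hw,
    fun h1 => hw1 (congrArg (Subtype.val : ↥H → G) h1), Subtype.ext hwh⟩

theorem sk_min_apply {G : Type u} [Group G] [Finite G]
    (hminG : ∀ (H : Type u) [Group H] [Finite H] (W : Subgroup H), Nat.card H < Nat.card G →
      Cfsg.IsElementaryAbelian 2 W → W ≠ ⊥ → Cfsg.IsSidkiPair W → W ⊓ Cfsg.pCore 2 H ≠ ⊥)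
    (H W : Subgroup G) (hWH : W ≤ H) (hH : H ≠ ⊤) (hW : SkEA W) (hW1 : W ≠ ⊥)
    (hSid : Cfsg.IsSidkiPair (W.subgroupOf H)) :
    ∃ w ∈ W, w ≠ 1 ∧ w ∈ Cfsg.pCoreOf 2 H := by
  have hcard : Nat.card ↥H < Nat.card G := by
    by_contra hle
    push Not at hle
    exact hH (Subgroup.eq_top_of_le_card _ hle)
  have hne : W.subgroupOf H ≠ ⊥ := by
    intro hbot
    apply hW1
    rw [Subgroup.eq_bot_iff_forall]
    intro x hx
    have h1 : (⟨x, hWH hx⟩ : ↥H) ∈ W.subgroupOf H := Subgroup.mem_subgroupOf.mpr hx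
    rw [hbot, Subgroup.mem_bot] at h1
    exact congrArg (Subtype.val : ↥H → G) h1
  have h := hminG ↥H (W.subgroupOf H) hcard (hW.subgroupOf H) hne hSid
  rw [Ne, Subgroup.eq_bot_iff_forall] at h
  push Not at h
  obtain ⟨x, hx, hx1⟩ := h
  refine ⟨x.1, Subgroup.mem_subgroupOf.mp hx.1, fun h1 => hx1 (Subtype.ext h1), ?_⟩
  show x.1 ∈ (Cfsg.pCore 2 ↥H).map H.subtype
  exact Subgroup.mem_map.mpr ⟨x, hx.2, rfl⟩

theorem sk_min_apply' {G : Type u} [Group G] [Finite G]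
    (hminG : ∀ (H : Type u) [Group H] [Finite H] (W : Subgroup H), Nat.card H < Nat.card G →
      Cfsg.IsElementaryAbelian 2 W → W ≠ ⊥ → Cfsg.IsSidkiPair W → W ⊓ Cfsg.pCore 2 H ≠ ⊥)
    (H W : Subgroup G) (hWH : W ≤ H) (hH : H ≠ ⊤) (hW : SkEA W) (hW1 : W ≠ ⊥)
    (hSid : ∀ h ∈ H, Odd (orderOf h) → ∀ v ∈ W, v * h * v⁻¹ = h⁻¹ →
      ∃ w ∈ W, w ≠ 1 ∧ w * h = h * w) :
    ∃ w ∈ W, w ≠ 1 ∧ w ∈ Cfsg.pCoreOf 2 H :=
  sk_min_apply hminG H W hWH hH hW hW1 (sk_sidki_subgroupOf H W hWH hSid)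

/-- a 2-subgroup `P ⊴ T ⊴ N ⊴ G` lies in `O₂(G)` -/
theorem sk_two_sub_le_pCore {G : Type u} [Group G] [Finite G] (N T P : Subgroup G) [N.Normal]
    (hTN : T ≤ N) (hNT : N ≤ Subgroup.normalizer (T : Set G)) (hPT : P ≤ T)
    (hTP : T ≤ Subgroup.normalizer (P : Set G)) (hP : IsPGroup 2 P) : P ≤ Cfsg.pCore 2 G := by
  have hCn : (T.subgroupOf N).Normal :=
    (Subgroup.normal_subgroupOf_iff_le_normalizer hTN).mpr hNT
  have h1 : P.subgroupOf N ≤ Cfsg.pCore 2 ↥N := by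
    apply Cfsg.Agent.S2961.le_pCore_of_normal_in_normal (T.subgroupOf N) (P.subgroupOf N)
    · intro x hx
      exact Subgroup.mem_subgroupOf.mpr (hPT (Subgroup.mem_subgroupOf.mp hx))
    · intro g hg
      rw [Subgroup.mem_normalizer_iff]
      intro h
      have h2 := Subgroup.mem_normalizer_iff.mp (hTP (Subgroup.mem_subgroupOf.mp hg)) (h : G)
      exact h2
    · exact hP.comap_subtype
  have := Cfsg.Agent.S2961.pCore_char 2 ↥N
  have h2 : ((Cfsg.pCore 2 ↥N).map N.subtype).Normal :=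
    Cfsg.Agent.Lib.Helper1.normal_map_subtype_of_characteristic inferInstance _
  have h3 : IsPGroup 2 ((Cfsg.pCore 2 ↥N).map N.subtype) :=
    (Cfsg.Agent.Lib.Helper7.pCore_isPGroup 2 ↥N).map _
  intro z hz
  have hzN : z ∈ N := hTN (hPT hz)
  have h4 : z ∈ (Cfsg.pCore 2 ↥N).map N.subtype :=
    Subgroup.mem_map.mpr ⟨⟨z, hzN⟩, h1 (Subgroup.mem_subgroupOf.mpr hz), rfl⟩
  exact Cfsg.Agent.Lib.Helper7.le_pCore h2 h3 h4

/-- the elements of order at most 2 in the centre of `X` -/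
def skOmega {G : Type*} [Group G] (X : Subgroup G) : Subgroup G where
  carrier := {a | a ∈ X ∧ (∀ x ∈ X, x * a = a * x) ∧ a * a = 1}
  mul_mem' := by
    rintro a b ⟨haX, hac, ha2⟩ ⟨hbX, hbc, hb2⟩
    refine ⟨X.mul_mem haX hbX, fun x hx => ?_, ?_⟩
    · rw [← mul_assoc, hac x hx, mul_assoc, hbc x hx, ← mul_assoc]
    · calc a * b * (a * b) = a * (b * a) * b := by group
        _ = a * (a * b) * b := by rw [hac b hbX]
        _ = (a * a) * (b * b) := by simp only [mul_assoc]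
        _ = 1 := by rw [ha2, hb2, one_mul]
  one_mem' := ⟨X.one_mem, fun x _ => by rw [mul_one, one_mul], mul_one 1⟩
  inv_mem' := by
    rintro a ⟨haX, hac, ha2⟩
    refine ⟨X.inv_mem haX, fun x hx => ?_, ?_⟩
    · rw [eq_inv_mul_iff_mul_eq, ← mul_assoc, ← hac x hx, mul_inv_cancel_right]
    · rw [← mul_inv_rev, ha2, inv_one]

theorem mem_skOmega {G : Type*} [Group G] {X : Subgroup G} {z : G} :
    z ∈ skOmega X ↔ z ∈ X ∧ (∀ x ∈ X, x * z = z * x) ∧ z * z = 1 := Iff.rfl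

theorem sk_central_invol {G : Type u} [Group G] [Finite G] (X : Subgroup G) [hX : X.Normal]
    (z : G) (hzX : z ∈ X) (hzc : ∀ x ∈ X, x * z = z * x) (hz2 : z * z = 1) :
    z ∈ Cfsg.pCore 2 G := by
  have hAn : (skOmega X).Normal := by
    constructor
    intro a ha g
    obtain ⟨haX, hac, ha2⟩ := mem_skOmega.mp ha
    refine mem_skOmega.mpr ⟨hX.conj_mem a haX g, fun x hx => ?_, ?_⟩
    · have hx' : g⁻¹ * x * g ∈ X := by
        have := hX.conj_mem x hx g⁻¹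
        rwa [inv_inv] at this
      have h := hac _ hx'
      calc x * (g * a * g⁻¹) = g * ((g⁻¹ * x * g) * a) * g⁻¹ := by group
        _ = g * (a * (g⁻¹ * x * g)) * g⁻¹ := by rw [h]
        _ = g * a * g⁻¹ * x := by group
    · calc g * a * g⁻¹ * (g * a * g⁻¹) = g * (a * a) * g⁻¹ := by group
        _ = 1 := by rw [ha2, mul_one, mul_inv_cancel]
  have hAp : IsPGroup 2 (skOmega X) := by
    intro a
    refine ⟨1, Subtype.ext ?_⟩
    rw [Subgroup.coe_pow, Subgroup.coe_one, pow_one, pow_two]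
    exact (mem_skOmega.mp a.2).2.2
  exact Cfsg.Agent.Lib.Helper7.le_pCore hAn hAp (mem_skOmega.mpr ⟨hzX, hzc, hz2⟩)

theorem sk_odd_mem_of_sq {G : Type*} [Group G] (B : Subgroup G) (h : G) (h2 : h * h ∈ B)
    (ho : Odd (orderOf h)) : h ∈ B := by
  obtain ⟨j, hj⟩ := ho
  have e : (h * h) ^ (j + 1) = h := by
    rw [← pow_two, ← pow_mul, show 2 * (j + 1) = orderOf h + 1 by omega, pow_succ,
      pow_orderOf_eq_one, one_mul]
  rw [← e]
  exact B.pow_mem h2 _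

theorem sk_odd_inverted_mem {G : Type*} [Group G] (B : Subgroup G) [hB : B.Normal] (v h : G)
    (hv : v ∈ B) (hinv : v * h * v⁻¹ = h⁻¹) (ho : Odd (orderOf h)) : h ∈ B := by
  refine sk_odd_mem_of_sq B h ?_ ho
  have h1 : h⁻¹ * h⁻¹ ∈ B := by
    have e : h⁻¹ * h⁻¹ = (h⁻¹ * v * h⁻¹⁻¹) * v⁻¹ := by
      rw [inv_inv]
      calc h⁻¹ * h⁻¹ = h⁻¹ * (v * h * v⁻¹) := by rw [hinv]
        _ = h⁻¹ * v * h * v⁻¹ := by group
    rw [e]
    exact B.mul_mem (hB.conj_mem v hv h⁻¹) (B.inv_mem hv)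
  have e2 : h * h = (h⁻¹ * h⁻¹)⁻¹ := by rw [mul_inv_rev, inv_inv]
  rw [e2]
  exact B.inv_mem h1

theorem sk_odd_mem_two_group {G : Type*} [Group G] (P : Subgroup G) (hP : IsPGroup 2 P) (h : G)
    (hh : h ∈ P) (ho : Odd (orderOf h)) : h = 1 :=
  Cfsg.Agent.S2961.eq_one_of_pgroup_coprime hP hh (Nat.coprime_two_right.mpr ho)

theorem sk_comm_of_mem {G : Type u} [Group G] [Finite G] (hO : Cfsg.pCore 2 G = ⊥)
    (N T Q : Subgroup G) [hN : N.Normal] (hTN : T ≤ N)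
    (hNT : N ≤ Subgroup.normalizer (T : Set G)) (hQ : IsPGroup 2 Q)
    (hTQ : T ≤ Subgroup.normalizer (Q : Set G)) (w : G) (hw : w ∈ Q)
    (hwT : w ∈ Subgroup.normalizer (T : Set G)) : ∀ t ∈ T, w * t = t * w := by
  intro t ht
  have hc : w * t * w⁻¹ * t⁻¹ ∈ Q ⊓ T := by
    refine ⟨?_, ?_⟩
    · have h1 : t * w⁻¹ * t⁻¹ ∈ Q :=
        (Subgroup.mem_normalizer_iff.mp (hTQ ht) w⁻¹).mp (Q.inv_mem hw)
      have e : w * t * w⁻¹ * t⁻¹ = w * (t * w⁻¹ * t⁻¹) := by group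
      rw [e]; exact Q.mul_mem hw h1
    · have h1 : w * t * w⁻¹ ∈ T := (Subgroup.mem_normalizer_iff.mp hwT t).mp ht
      exact T.mul_mem h1 (T.inv_mem ht)
  have hP : Q ⊓ T ≤ Cfsg.pCore 2 G := by
    apply sk_two_sub_le_pCore N T (Q ⊓ T) hTN hNT inf_le_right
    · intro g hg
      rw [Subgroup.mem_normalizer_iff]
      intro h
      have h1 := Subgroup.mem_normalizer_iff.mp (hTQ hg) h
      have h2 := Subgroup.mem_normalizer_iff.mp (Subgroup.le_normalizer hg) h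
      constructor
      · rintro ⟨ha, hb⟩; exact ⟨h1.mp ha, h2.mp hb⟩
      · rintro ⟨ha, hb⟩; exact ⟨h1.mpr ha, h2.mpr hb⟩
    · exact hQ.to_le inf_le_left
  have h1 := hP hc
  rw [hO, Subgroup.mem_bot] at h1
  have h2 : w * t * w⁻¹ = t := mul_inv_eq_one.mp h1
  exact mul_inv_eq_iff_eq_mul.mp h2

theorem sk_card_quot_lt {G : Type*} [Group G] [Finite G] (N : Subgroup G) [N.Normal]
    (hN : N ≠ ⊥) : Nat.card (G ⧸ N) < Nat.card G := by
  have h1 := Subgroup.card_eq_card_quotient_mul_card_subgroup N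
  have h2 : 1 < Nat.card ↥N := (Subgroup.one_lt_card_iff_ne_bot N).mpr hN
  have h3 : 0 < Nat.card (G ⧸ N) := Nat.card_pos
  have h4 : Nat.card (G ⧸ N) * 2 ≤ Nat.card (G ⧸ N) * Nat.card ↥N := Nat.mul_le_mul_left _ h2
  omega

theorem sk_map_ne_bot {G : Type*} [Group G] (V N : Subgroup G) [N.Normal] (hV1 : V ≠ ⊥)
    (hVN : V ⊓ N = ⊥) : V.map (QuotientGroup.mk' N) ≠ ⊥ := by
  intro hbot
  rw [Subgroup.map_eq_bot_iff, QuotientGroup.ker_mk'] at hbot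
  apply hV1
  rw [← hVN]
  exact (inf_eq_left.mpr hbot).symm

theorem sk_pCore_eq_bot {G : Type u} [Group G] [Finite G] (V : Subgroup G)
    (hV : Cfsg.IsElementaryAbelian 2 V) (hV1 : V ≠ ⊥) (hS : Cfsg.IsSidkiPair V)
    (hVO : V ⊓ Cfsg.pCore 2 G = ⊥)
    (hminG : ∀ (H : Type u) [Group H] [Finite H] (W : Subgroup H), Nat.card H < Nat.card G →
      Cfsg.IsElementaryAbelian 2 W → W ≠ ⊥ → Cfsg.IsSidkiPair W → W ⊓ Cfsg.pCore 2 H ≠ ⊥) :
    Cfsg.pCore 2 G = ⊥ := by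
  by_contra hK
  have hKn : (Cfsg.pCore 2 G).Normal := Cfsg.Agent.Lib.Helper7.pCore_normal 2 G
  have h := hminG (G ⧸ Cfsg.pCore 2 G) _ (sk_card_quot_lt _ hK) ((SkEA.of hV).map _)
    (sk_map_ne_bot V _ hV1 hVO) (Cfsg.Agent.S3012.result V (Cfsg.pCore 2 G) hV hV1 hS hVO)
  apply h
  rw [pCore_quot_pCore_eq_bot, inf_bot_eq]

theorem sk_inv_comm_elt {G : Type*} [Group G] (v n : G) (hvv : v * v = 1) :
    v * (n⁻¹ * (v * n * v⁻¹)) * v⁻¹ = (n⁻¹ * (v * n * v⁻¹))⁻¹ := by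
  have hvi : v⁻¹ = v := inv_eq_of_mul_eq_one_left hvv
  rw [mul_inv_rev, mul_inv_rev, mul_inv_rev, inv_inv, inv_inv, hvi]
  simp only [mul_assoc]
  rw [hvv, mul_one]

theorem sk_odd_of_no_invol {G : Type*} [Group G] [Finite G] (x : G)
    (hno : ∀ k : ℕ, x ^ k * x ^ k = 1 → x ^ k = 1) : Odd (orderOf x) := by
  by_contra hodd
  rw [Nat.not_odd_iff_even] at hodd
  obtain ⟨k, hk⟩ := hodd
  have hpos : 0 < orderOf x := orderOf_pos x
  have h1 : x ^ k * x ^ k = 1 := by rw [← pow_add, ← hk, pow_orderOf_eq_one]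
  have h2 := hno k h1
  have h3 : orderOf x ∣ k := orderOf_dvd_of_pow_eq_one h2
  have h4 := Nat.le_of_dvd (by omega) h3
  omega

theorem sk_normal_of_sup {G : Type*} [Group G] (N V D : Subgroup G) (hNV : N ⊔ V = ⊤)
    (h1 : ∀ n ∈ N, ∀ d ∈ D, n * d * n⁻¹ ∈ D) (h2 : ∀ v ∈ V, ∀ d ∈ D, v * d * v⁻¹ ∈ D) :
    D.Normal := by
  rw [← Subgroup.normalizer_eq_top_iff, eq_top_iff, ← hNV]
  exact sup_le (Subgroup.le_normalizer_iff.mpr h1) (Subgroup.le_normalizer_iff.mpr h2)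

theorem sk_conj_closure {G : Type*} [Group G] (K : Set G) (g : G)
    (h : ∀ x ∈ K, g * x * g⁻¹ ∈ K) :
    ∀ d ∈ Subgroup.closure K, g * d * g⁻¹ ∈ Subgroup.closure K := by
  intro d hd
  induction hd using Subgroup.closure_induction with
  | mem x hx => exact Subgroup.subset_closure (h x hx)
  | one => simp
  | mul a b _ _ ha hb =>
    have e : g * (a * b) * g⁻¹ = (g * a * g⁻¹) * (g * b * g⁻¹) := by group
    rw [e]; exact Subgroup.mul_mem _ ha hb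
  | inv a _ ha =>
    have e : g * a⁻¹ * g⁻¹ = (g * a * g⁻¹)⁻¹ := by group
    rw [e]; exact Subgroup.inv_mem _ ha

theorem sk_le_centralizer_of_inf_bot {G : Type*} [Group G] (A B : Subgroup G) [hA : A.Normal]
    [hB : B.Normal] (h : A ⊓ B = ⊥) : A ≤ Subgroup.centralizer (B : Set G) := by
  intro a ha
  rw [Subgroup.mem_centralizer_iff]
  intro b hb
  have hc : b * a * b⁻¹ * a⁻¹ ∈ A ⊓ B := by
    refine ⟨?_, ?_⟩
    · exact A.mul_mem (hA.conj_mem a ha b) (A.inv_mem ha)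
    · have e : b * a * b⁻¹ * a⁻¹ = b * (a * b⁻¹ * a⁻¹) := by group
      rw [e]
      exact B.mul_mem hb (hB.conj_mem _ (B.inv_mem hb) a)
  rw [h, Subgroup.mem_bot] at hc
  have h2 : b * a * b⁻¹ = a := mul_inv_eq_one.mp hc
  exact mul_inv_eq_iff_eq_mul.mp h2

end Cfsg.Agent.Lib.Helper3
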