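import Cfsg.Agent.Lib.Helper3.Sidki1

set_option autoImplicit false

namespace Cfsg.Agent.Lib.Helper3

open Cfsg

universe u

/-- standing hypotheses of a minimal counterexample to the Sidki pair theorem (with `O₂(G) = 1`) -/
structure SkMin (G : Type u) [Group G] [Finite G] (V : Subgroup G) : Prop where
  ea : SkEA V
  hV : Cfsg.IsElementaryAbelian 2 V
  ne : V ≠ ⊥
  sid : Cfsg.IsSidkiPair V
  core : Cfsg.pCore 2 G = ⊥
  minG : ∀ (H : Type u) [Group H] [Finite H] (W : Subgroup H), Nat.card H < Nat.card G →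
    Cfsg.IsElementaryAbelian 2 W → W ≠ ⊥ → Cfsg.IsSidkiPair W → W ⊓ Cfsg.pCore 2 H ≠ ⊥
  minV : ∀ W : Subgroup G, Nat.card W < Nat.card V → Cfsg.IsElementaryAbelian 2 W → W ≠ ⊥ →
    Cfsg.IsSidkiPair W → W ⊓ Cfsg.pCore 2 G ≠ ⊥

/-- minimal normal subgroup -/
structure SkMinNormal {G : Type*} [Group G] (N : Subgroup G) : Prop where
  normal : N.Normal
  ne : N ≠ ⊥
  min : ∀ K : Subgroup G, K.Normal → K ≤ N → K = ⊥ ∨ K = N

theorem sk_exists_minNormal {G : Type*} [Group G] [Finite G] (V : Subgroup G) (hV1 : V ≠ ⊥) :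
    ∃ N : Subgroup G, SkMinNormal N := by
  have hne : {K : Subgroup G | K.Normal ∧ K ≠ ⊥}.Nonempty := by
    refine ⟨⊤, Subgroup.normal_top, ?_⟩
    intro h
    apply hV1
    rw [eq_bot_iff, ← h]
    exact le_top
  obtain ⟨N, hN, hmin⟩ := Set.exists_min_image {K : Subgroup G | K.Normal ∧ K ≠ ⊥}
    (fun K => Nat.card ↥K) (Set.toFinite _) hne
  refine ⟨N, hN.1, hN.2, fun K hK hKN => ?_⟩
  by_cases hK1 : K = ⊥
  · exact Or.inl hK1
  · right
    exact Subgroup.eq_of_le_of_card_ge hKN (hmin K ⟨hK, hK1⟩)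

theorem sk_normalClosure_top {G : Type u} [Group G] [Finite G] {V : Subgroup G}
    (h : SkMin G V) : Subgroup.normalClosure (V : Set G) = ⊤ := by
  by_contra hM
  have hVM : V ≤ Subgroup.normalClosure (V : Set G) := Subgroup.le_normalClosure
  obtain ⟨w, hw, hw1, hwQ⟩ := sk_min_apply' h.minG _ V hVM hM h.ea h.ne
    (fun x _ hodd v hv hinv => h.sid x v hv hodd hinv)
  have hle : Cfsg.pCoreOf 2 (Subgroup.normalClosure (V : Set G)) ≤ Cfsg.pCore 2 G :=
    sk_two_sub_le_pCore (Subgroup.normalClosure (V : Set G)) (Subgroup.normalClosure (V : Set G))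
      _ le_rfl Subgroup.le_normalizer (pCoreOf_le 2 _) (le_normalizer_pCoreOf 2 _)
      (pCoreOf_isPGroup 2 _)
  have h1 := hle hwQ
  rw [h.core, Subgroup.mem_bot] at h1
  exact hw1 h1

theorem sk_minNormal_sup {G : Type u} [Group G] [Finite G] {V : Subgroup G} (h : SkMin G V)
    (N : Subgroup G) (hN : SkMinNormal N) : N ⊔ V = ⊤ := by
  have hNn := hN.normal
  by_contra hH
  obtain ⟨w₀, hw₀, hw₀1, hw₀Q⟩ := sk_min_apply' h.minG (N ⊔ V) V le_sup_right hH h.ea h.ne
    (fun x _ hodd v hv hinv => h.sid x v hv hodd hinv)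
  have hNtop : ∀ g : G, g ∈ Subgroup.normalizer (N : Set G) := by
    intro g
    rw [Subgroup.normalizer_eq_top_iff.mpr hN.normal]
    exact Subgroup.mem_top g
  have hw₀N : ∀ n ∈ N, w₀ * n = n * w₀ :=
    sk_comm_of_mem h.core N N (Cfsg.pCoreOf 2 (N ⊔ V)) le_rfl Subgroup.le_normalizer
      (pCoreOf_isPGroup 2 _) (le_sup_left.trans (le_normalizer_pCoreOf 2 _)) w₀ hw₀Q (hNtop w₀)
  have hBmem : ∀ z : G, z ∈ Subgroup.centralizer (N : Set G) ↔ ∀ n ∈ N, n * z = z * n :=
    fun z => Subgroup.mem_centralizer_iff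
  have hw₀B : w₀ ∈ V ⊓ Subgroup.centralizer (N : Set G) :=
    ⟨hw₀, (hBmem w₀).mpr (fun n hn => (hw₀N n hn).symm)⟩
  have hV₀ : V ⊓ Subgroup.centralizer (N : Set G) ≠ ⊥ := by
    intro hbot
    have h1 := hw₀B
    rw [hbot, Subgroup.mem_bot] at h1
    exact hw₀1 h1
  have hSid₀ : Cfsg.IsSidkiPair (V ⊓ Subgroup.centralizer (N : Set G)) := by
    intro y v₀ hv₀ hodd hinv
    by_cases hy1 : y = 1
    · refine ⟨w₀, hw₀B, hw₀1, ?_⟩
      rw [hy1, mul_one, one_mul]
    · obtain ⟨hCV, hCS⟩ := Cfsg.Agent.S3013.result V h.hV h.ne h.sid v₀ y hv₀.1 hodd hinv _ rfl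
      have hyB : y ∈ Subgroup.centralizer (N : Set G) :=
        sk_odd_inverted_mem (Subgroup.centralizer (N : Set G)) v₀ y hv₀.2 hinv hodd
      have hCtop : Subgroup.centralizer ({v₀} : Set G) ⊓ Subgroup.centralizer ({y} : Set G)
          ≠ ⊤ := by
        intro htop
        have h1 : v₀ ∈ Subgroup.centralizer ({v₀} : Set G) ⊓
            Subgroup.centralizer ({y} : Set G) := by
          rw [htop]; exact Subgroup.mem_top _
        have h2 : y * v₀ = v₀ * y := Subgroup.mem_centralizer_iff.mp h1.2 y (Set.mem_singleton y)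
        apply hy1
        apply Cfsg.Agent.S3011.odd_self_inv y hodd
        rw [← hinv, ← h2, mul_inv_cancel_right]
      obtain ⟨w, hw, hw1, hwQ⟩ := sk_min_apply h.minG _ _ inf_le_left hCtop
        (h.ea.mono inf_le_right) hCV hCS
      have hNC : N ≤ Subgroup.centralizer ({v₀} : Set G) ⊓
          Subgroup.centralizer ({y} : Set G) := by
        intro n hn
        refine Subgroup.mem_inf.mpr ⟨?_, ?_⟩
        · rw [Subgroup.mem_centralizer_iff]
          intro g hg
          rw [Set.mem_singleton_iff.mp hg]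
          exact ((hBmem v₀).mp hv₀.2 n hn).symm
        · rw [Subgroup.mem_centralizer_iff]
          intro g hg
          rw [Set.mem_singleton_iff.mp hg]
          exact ((hBmem y).mp hyB n hn).symm
      have hwN : ∀ n ∈ N, w * n = n * w :=
        sk_comm_of_mem h.core N N (Cfsg.pCoreOf 2 _) le_rfl Subgroup.le_normalizer
          (pCoreOf_isPGroup 2 _) (hNC.trans (le_normalizer_pCoreOf 2 _)) w hwQ (hNtop w)
      refine ⟨w, ⟨hw.2, (hBmem w).mpr (fun n hn => (hwN n hn).symm)⟩, hw1, ?_⟩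
      have h3 : y * w = w * y := Subgroup.mem_centralizer_iff.mp hw.1.2 y (Set.mem_singleton y)
      exact h3.symm
  have hV₀V : V ⊓ Subgroup.centralizer (N : Set G) = V := by
    by_contra hne
    have hlt : Nat.card ↥(V ⊓ Subgroup.centralizer (N : Set G)) < Nat.card ↥V := by
      by_contra hle
      push Not at hle
      exact hne (Subgroup.eq_of_le_of_card_ge inf_le_left hle)
    have h1 := h.minV _ hlt (h.ea.mono inf_le_left).toEA hV₀ hSid₀
    apply h1
    rw [h.core, inf_bot_eq]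
  have hVB : V ≤ Subgroup.centralizer (N : Set G) := inf_eq_left.mp hV₀V
  have hBtop : Subgroup.centralizer (N : Set G) = ⊤ := by
    rw [eq_top_iff, ← sk_normalClosure_top h]
    exact Subgroup.normalClosure_le_normal (SetLike.coe_subset_coe.mpr hVB)
  have hcent : ∀ g : G, ∀ n ∈ N, n * g = g * n := by
    intro g n hn
    have h1 : g ∈ Subgroup.centralizer (N : Set G) := by rw [hBtop]; exact Subgroup.mem_top g
    exact (hBmem g).mp h1 n hn
  have hVN : V ⊓ N = ⊥ := by
    rw [Subgroup.eq_bot_iff_forall]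
    intro z hz
    have h1 := sk_central_invol N z hz.2 (fun x hx => hcent z x hx) (h.ea.sq z hz.1)
    rw [h.core, Subgroup.mem_bot] at h1
    exact h1
  have hq := h.minG (G ⧸ N) _ (sk_card_quot_lt N hN.ne) (h.ea.map _) (sk_map_ne_bot V N h.ne hVN)
    (Cfsg.Agent.S3012.result V N h.hV h.ne h.sid hVN)
  rw [Ne, Subgroup.eq_bot_iff_forall] at hq
  push Not at hq
  obtain ⟨q, hq, hq1⟩ := hq
  obtain ⟨v, hv, rfl⟩ := hq.1
  have hv1 : v ≠ 1 := by
    rintro rfl
    exact hq1 (map_one _)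
  have hex : ∃ x : G, Odd (orderOf x) ∧ v * x * v⁻¹ = x⁻¹ ∧ x ≠ 1 := by
    by_contra hcon
    have h1 : v ∈ Cfsg.pCore 2 G := by
      apply Cfsg.Agent.S3011.invol_mem_pCore v (h.ea.sq v hv)
      intro x ho hi
      by_contra hx1
      exact hcon ⟨x, ho, hi, hx1⟩
    rw [h.core, Subgroup.mem_bot] at h1
    exact hv1 h1
  obtain ⟨x, hxo, hxi, hx1⟩ := hex
  have hPn : (Cfsg.pCore 2 (G ⧸ N)).Normal := Cfsg.Agent.Lib.Helper7.pCore_normal 2 _
  have hxo' : Odd (orderOf (QuotientGroup.mk' N x)) :=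
    Odd.of_dvd_nat hxo (orderOf_map_dvd _ x)
  have hxi' : QuotientGroup.mk' N v * QuotientGroup.mk' N x * (QuotientGroup.mk' N v)⁻¹
      = (QuotientGroup.mk' N x)⁻¹ := by
    rw [← (QuotientGroup.mk' N).map_inv, ← (QuotientGroup.mk' N).map_mul,
      ← (QuotientGroup.mk' N).map_mul, hxi, (QuotientGroup.mk' N).map_inv]
  have h2 : QuotientGroup.mk' N x ∈ Cfsg.pCore 2 (G ⧸ N) :=
    sk_odd_inverted_mem _ _ _ hq.2 hxi' hxo'
  have h3 : QuotientGroup.mk' N x = 1 :=
    sk_odd_mem_two_group _ (Cfsg.Agent.Lib.Helper7.pCore_isPGroup 2 (G ⧸ N)) _ h2 hxo'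
  have hxN : x ∈ N := (QuotientGroup.eq_one_iff x).mp h3
  apply hx1
  apply Cfsg.Agent.S3011.odd_self_inv x hxo
  rw [← hxi, ← hcent v x hxN, mul_inv_cancel_right]

/-- `C_V(N) = 1` when `NV = G`. -/
theorem sk_cent_inf_bot {G : Type u} [Group G] [Finite G] {V : Subgroup G} (h : SkMin G V)
    (N : Subgroup G) (hNV : N ⊔ V = ⊤) : V ⊓ Subgroup.centralizer (N : Set G) = ⊥ := by
  have hn : (V ⊓ Subgroup.centralizer (N : Set G)).Normal := by
    apply sk_normal_of_sup N V _ hNV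
    · intro n hn d hd
      have h1 : n * d = d * n := Subgroup.mem_centralizer_iff.mp hd.2 n hn
      rw [h1, mul_inv_cancel_right]
      exact hd
    · intro v hv d hd
      have h1 : v * d = d * v := h.ea.comm v hv d hd.1
      rw [h1, mul_inv_cancel_right]
      exact hd
  have hp : IsPGroup 2 ↥(V ⊓ Subgroup.centralizer (N : Set G)) :=
    h.ea.isPGroup.to_le inf_le_left
  have h1 := Cfsg.Agent.Lib.Helper7.le_pCore hn hp
  rw [h.core] at h1
  exact le_bot_iff.mp h1

theorem sk_not_abelian {G : Type u} [Group G] [Finite G] {V : Subgroup G} (h : SkMin G V)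
    (N : Subgroup G) (hN : SkMinNormal N) (hNV : N ⊔ V = ⊤)
    (hab : ∀ a ∈ N, ∀ b ∈ N, a * b = b * a) : False := by
  have hNn := hN.normal
  have hCV := sk_cent_inf_bot h N hNV
  obtain ⟨v, hv, hv1⟩ : ∃ v ∈ V, v ≠ 1 := by
    by_contra hcon
    apply h.ne
    rw [Subgroup.eq_bot_iff_forall]
    intro x hx
    by_contra hx1
    exact hcon ⟨x, hx, hx1⟩
  have hvC : v ∉ Subgroup.centralizer (N : Set G) := by
    intro hvc
    have h1 : v ∈ V ⊓ Subgroup.centralizer (N : Set G) := ⟨hv, hvc⟩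
    rw [hCV, Subgroup.mem_bot] at h1
    exact hv1 h1
  rw [Subgroup.mem_centralizer_iff] at hvC
  push Not at hvC
  obtain ⟨n, hn, hnv⟩ := hvC
  have hmN : v * n * v⁻¹ ∈ N := hN.normal.conj_mem n hn v
  have hxN : n⁻¹ * (v * n * v⁻¹) ∈ N := N.mul_mem (N.inv_mem hn) hmN
  have hx1 : n⁻¹ * (v * n * v⁻¹) ≠ 1 := by
    intro hx
    apply hnv
    have h1 : n = v * n * v⁻¹ := inv_mul_eq_one.mp hx
    calc n * v = (v * n * v⁻¹) * v := by rw [← h1]
      _ = v * n := by group
  have hxi := sk_inv_comm_elt v n (h.ea.sq v hv)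
  have hnoinv : ∀ z ∈ N, z * z = 1 → z = 1 := by
    intro z hz hz2
    have h1 := sk_central_invol N z hz (fun x hx => hab x hx z hz) hz2
    rw [h.core, Subgroup.mem_bot] at h1
    exact h1
  have hxo : Odd (orderOf (n⁻¹ * (v * n * v⁻¹))) := by
    apply sk_odd_of_no_invol
    intro k hk
    exact hnoinv _ (N.pow_mem hxN k) hk
  obtain ⟨w, hw, hw1, hwx⟩ := h.sid _ v hv hxo hxi
  have hDn : (N ⊓ Subgroup.centralizer ({w} : Set G)).Normal := by
    apply sk_normal_of_sup N V _ hNV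
    · intro m hm d hd
      have h1 : m * d = d * m := hab m hm d hd.1
      rw [h1, mul_inv_cancel_right]
      exact hd
    · intro u hu d hd
      refine Subgroup.mem_inf.mpr ⟨hN.normal.conj_mem d hd.1 u, ?_⟩
      rw [Subgroup.mem_centralizer_iff]
      intro g hg
      rw [Set.mem_singleton_iff.mp hg]
      have h1 : w * d = d * w := Subgroup.mem_centralizer_iff.mp hd.2 w (Set.mem_singleton w)
      have h2 : w * u = u * w := h.ea.comm w hw u hu
      have h3 : w * u⁻¹ = u⁻¹ * w := h.ea.comm w hw u⁻¹ (V.inv_mem hu)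
      calc w * (u * d * u⁻¹) = (w * u) * d * u⁻¹ := by group
        _ = (u * w) * d * u⁻¹ := by rw [h2]
        _ = u * (w * d) * u⁻¹ := by group
        _ = u * (d * w) * u⁻¹ := by rw [h1]
        _ = u * d * (w * u⁻¹) := by group
        _ = u * d * (u⁻¹ * w) := by rw [h3]
        _ = u * d * u⁻¹ * w := by group
  have hDN : N ⊓ Subgroup.centralizer ({w} : Set G) = N := by
    rcases hN.min _ hDn inf_le_left with h0 | h0
    · exfalso
      have h1 : n⁻¹ * (v * n * v⁻¹) ∈ N ⊓ Subgroup.centralizer ({w} : Set G) := by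
        refine Subgroup.mem_inf.mpr ⟨hxN, ?_⟩
        rw [Subgroup.mem_centralizer_iff]
        intro g hg
        rw [Set.mem_singleton_iff.mp hg]
        exact hwx
      rw [h0, Subgroup.mem_bot] at h1
      exact hx1 h1
    · exact h0
  have hwC : w ∈ Subgroup.centralizer (N : Set G) := by
    rw [Subgroup.mem_centralizer_iff]
    intro m hm
    have h1 : m ∈ N ⊓ Subgroup.centralizer ({w} : Set G) := by rw [hDN]; exact hm
    exact (Subgroup.mem_centralizer_iff.mp h1.2 w (Set.mem_singleton w)).symm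
  have h1 : w ∈ V ⊓ Subgroup.centralizer (N : Set G) := ⟨hw, hwC⟩
  rw [hCV, Subgroup.mem_bot] at h1
  exact hw1 h1

end Cfsg.Agent.Lib.Helper3
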