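import Cfsg.Agent.Lib.Helper3.Sidki2

set_option autoImplicit false

namespace Cfsg.Agent.Lib.Helper3

open Cfsg

universe u

/-- the `V`-conjugates of the elements of `T` -/
def skGenSet {G : Type*} [Group G] (V T : Subgroup G) : Set G :=
  {x : G | ∃ u ∈ V, ∃ t ∈ T, x = u * t * u⁻¹}

theorem sk_gen {G : Type u} [Group G] [Finite G] {V : Subgroup G}
    (N : Subgroup G) (hN : SkMinNormal N) (hNV : N ⊔ V = ⊤) (T : Subgroup G) (hTN : T ≤ N)
    (hT1 : T ≠ ⊥) (hNT : N ≤ Subgroup.normalizer (T : Set G)) :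
    Subgroup.closure (skGenSet V T) = N := by
  have hKN : skGenSet V T ⊆ (N : Set G) := by
    rintro x ⟨u, hu, t, ht, rfl⟩
    exact hN.normal.conj_mem t (hTN ht) u
  have hle : Subgroup.closure (skGenSet V T) ≤ N := (Subgroup.closure_le N).mpr hKN
  have hTK : T ≤ Subgroup.closure (skGenSet V T) := by
    intro t ht
    exact Subgroup.subset_closure ⟨1, V.one_mem, t, ht, by group⟩
  have hconjV : ∀ g ∈ V, ∀ x ∈ skGenSet V T, g * x * g⁻¹ ∈ skGenSet V T := by
    rintro g hg x ⟨u, hu, t, ht, rfl⟩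
    exact ⟨g * u, V.mul_mem hg hu, t, ht, by group⟩
  have hconjN : ∀ g ∈ N, ∀ x ∈ skGenSet V T, g * x * g⁻¹ ∈ skGenSet V T := by
    rintro g hg x ⟨u, hu, t, ht, rfl⟩
    have hg' : u⁻¹ * g * u ∈ N := by
      have h1 := hN.normal.conj_mem g hg u⁻¹
      rwa [inv_inv] at h1
    have ht' : (u⁻¹ * g * u) * t * (u⁻¹ * g * u)⁻¹ ∈ T :=
      (Subgroup.mem_normalizer_iff.mp (hNT hg') t).mp ht
    exact ⟨u, hu, _, ht', by group⟩
  have hnorm : (Subgroup.closure (skGenSet V T)).Normal := by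
    apply sk_normal_of_sup N V _ hNV
    · intro n hn d hd
      exact sk_conj_closure _ n (hconjN n hn) d hd
    · intro v hv d hd
      exact sk_conj_closure _ v (hconjV v hv) d hd
  rcases hN.min _ hnorm hle with h0 | h0
  · exfalso
    apply hT1
    rw [eq_bot_iff, ← h0]
    exact hTK
  · exact h0

theorem sk_gen_comm {G : Type u} [Group G] [Finite G] {V : Subgroup G}
    (N : Subgroup G) (hN : SkMinNormal N) (hNV : N ⊔ V = ⊤) (T : Subgroup G) (hTN : T ≤ N)
    (hT1 : T ≠ ⊥) (hNT : N ≤ Subgroup.normalizer (T : Set G)) (z : G)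
    (hz : ∀ u ∈ V, ∀ t ∈ T, z * (u * t * u⁻¹) = (u * t * u⁻¹) * z) :
    ∀ n ∈ N, z * n = n * z := by
  intro n hn
  have h1 : Subgroup.closure (skGenSet V T) ≤ Subgroup.centralizer ({z} : Set G) := by
    rw [Subgroup.closure_le]
    rintro x ⟨u, hu, t, ht, rfl⟩
    show u * t * u⁻¹ ∈ Subgroup.centralizer ({z} : Set G)
    rw [Subgroup.mem_centralizer_iff]
    intro g hg
    rw [Set.mem_singleton_iff.mp hg]
    exact hz u hu t ht
  rw [sk_gen N hN hNV T hTN hT1 hNT] at h1
  exact Subgroup.mem_centralizer_iff.mp (h1 hn) z (Set.mem_singleton z)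

/-- the conjugate `u T u⁻¹` -/
def skCj {G : Type*} [Group G] (u : G) (T : Subgroup G) : Subgroup G :=
  T.map (MulAut.conj u).toMonoidHom

theorem mem_skCj {G : Type*} [Group G] {u : G} {T : Subgroup G} {x : G} :
    x ∈ skCj u T ↔ ∃ t ∈ T, u * t * u⁻¹ = x := by
  unfold skCj
  rw [Subgroup.mem_map]
  simp only [MulEquiv.coe_toMonoidHom, MulAut.conj_apply]

theorem card_skCj {G : Type*} [Group G] (u : G) (T : Subgroup G) :
    Nat.card (skCj u T) = Nat.card T :=
  Subgroup.card_map_of_injective (MulAut.conj u).injective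

theorem sk_claimA {G : Type u} [Group G] [Finite G] (N : Subgroup G) [hN : N.Normal]
    (T : Subgroup G) (hTN : T ≤ N) (hNT : N ≤ Subgroup.normalizer (T : Set G))
    (hmin : ∀ K : Subgroup G, K ≤ T → K ≠ ⊥ → N ≤ Subgroup.normalizer (K : Set G) → K = T)
    (u : G) (hu : u ∉ Subgroup.normalizer (T : Set G)) :
    (∀ a ∈ T, ∀ b ∈ T, a = u * b * u⁻¹ → a = 1) ∧
    (∀ a ∈ T, ∀ b ∈ T, a * (u * b * u⁻¹) = (u * b * u⁻¹) * a) := by
  have hmem : ∀ x : G, x ∈ skCj u T ↔ ∃ t ∈ T, u * t * u⁻¹ = x := fun x => mem_skCj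
  have hcjN : skCj u T ≤ N := by
    intro x hx
    obtain ⟨t, ht, rfl⟩ := (hmem x).mp hx
    exact hN.conj_mem t (hTN ht) u
  have hNcj : N ≤ Subgroup.normalizer (skCj u T : Set G) := by
    rw [Subgroup.le_normalizer_iff]
    intro n hn x hx
    obtain ⟨t, ht, rfl⟩ := (hmem x).mp hx
    have hn' : u⁻¹ * n * u ∈ N := by
      have h1 := hN.conj_mem n hn u⁻¹
      rwa [inv_inv] at h1
    have ht' : (u⁻¹ * n * u) * t * (u⁻¹ * n * u)⁻¹ ∈ T :=
      (Subgroup.mem_normalizer_iff.mp (hNT hn') t).mp ht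
    exact (hmem _).mpr ⟨_, ht', by group⟩
  have hK : T ⊓ skCj u T = ⊥ := by
    by_contra hK
    have hNK : N ≤ Subgroup.normalizer ((T ⊓ skCj u T : Subgroup G) : Set G) := by
      rw [Subgroup.le_normalizer_iff]
      intro n hn x hx
      exact Subgroup.mem_inf.mpr ⟨(Subgroup.le_normalizer_iff.mp hNT) n hn x hx.1,
        (Subgroup.le_normalizer_iff.mp hNcj) n hn x hx.2⟩
    have h1 := hmin _ inf_le_left hK hNK
    have h2 : T ≤ skCj u T := inf_eq_left.mp h1
    have h3 : T = skCj u T := Subgroup.eq_of_le_of_card_ge h2 (card_skCj u T).le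
    apply hu
    rw [Subgroup.mem_normalizer_iff]
    intro x
    constructor
    · intro hx
      have h4 : u * x * u⁻¹ ∈ skCj u T := (hmem _).mpr ⟨x, hx, rfl⟩
      rw [← h3] at h4
      exact h4
    · intro hx
      have h4 : u * x * u⁻¹ ∈ skCj u T := by rw [← h3]; exact hx
      obtain ⟨t, ht, hte⟩ := (hmem _).mp h4
      have h5 : t = x := mul_left_cancel (mul_right_cancel hte)
      rw [← h5]; exact ht
  constructor
  · intro a ha b hb hab
    have h1 : a ∈ T ⊓ skCj u T := ⟨ha, (hmem a).mpr ⟨b, hb, hab.symm⟩⟩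
    rw [hK, Subgroup.mem_bot] at h1
    exact h1
  · intro a ha b hb
    have hb' : u * b * u⁻¹ ∈ skCj u T := (hmem _).mpr ⟨b, hb, rfl⟩
    have hc : a * (u * b * u⁻¹) * a⁻¹ * (u * b * u⁻¹)⁻¹ ∈ T ⊓ skCj u T := by
      refine Subgroup.mem_inf.mpr ⟨?_, ?_⟩
      · have h1 : (u * b * u⁻¹) * a⁻¹ * (u * b * u⁻¹)⁻¹ ∈ T :=
          (Subgroup.mem_normalizer_iff.mp (hNT (hcjN hb')) a⁻¹).mp (T.inv_mem ha)
        have e : a * (u * b * u⁻¹) * a⁻¹ * (u * b * u⁻¹)⁻¹
            = a * ((u * b * u⁻¹) * a⁻¹ * (u * b * u⁻¹)⁻¹) := by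
          simp only [mul_assoc]
        rw [e]; exact T.mul_mem ha h1
      · have h1 : a * (u * b * u⁻¹) * a⁻¹ ∈ skCj u T :=
          (Subgroup.mem_normalizer_iff.mp (hNcj (hTN ha)) _).mp hb'
        exact (skCj u T).mul_mem h1 ((skCj u T).inv_mem hb')
    rw [hK, Subgroup.mem_bot] at hc
    have h2 : a * (u * b * u⁻¹) * a⁻¹ = u * b * u⁻¹ := mul_inv_eq_one.mp hc
    exact mul_inv_eq_iff_eq_mul.mp h2

theorem sk_min_case {G : Type u} [Group G] [Finite G] {V : Subgroup G} (h : SkMin G V)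
    (N : Subgroup G) (hN : SkMinNormal N) (hNV : N ⊔ V = ⊤)
    (hZN : N ⊓ Subgroup.centralizer (N : Set G) = ⊥)
    (T : Subgroup G) (hTN : T ≤ N) (hT1 : T ≠ ⊥) (hNT : N ≤ Subgroup.normalizer (T : Set G))
    (hmin : ∀ K : Subgroup G, K ≤ T → K ≠ ⊥ → N ≤ Subgroup.normalizer (K : Set G) → K = T) :
    T = N := by
  have hNn := hN.normal
  by_contra hTne
  have hCV := sk_cent_inf_bot h N hNV
  have hA := fun u hu => sk_claimA N T hTN hNT hmin u hu
  have hgen := sk_gen_comm (V := V) N hN hNV T hTN hT1 hNT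
  -- Claim B
  have hB : ∀ z ∈ T, (∀ t ∈ T, z * t = t * z) → z = 1 := by
    intro z hz hzc
    have h1 : ∀ n ∈ N, z * n = n * z := by
      apply hgen
      intro u hu t ht
      by_cases hun : u ∈ Subgroup.normalizer (T : Set G)
      · exact hzc _ ((Subgroup.mem_normalizer_iff.mp hun t).mp ht)
      · exact (hA u hun).2 z hz t ht
    have h2 : z ∈ N ⊓ Subgroup.centralizer (N : Set G) :=
      ⟨hTN hz, Subgroup.mem_centralizer_iff.mpr (fun n hn => (h1 n hn).symm)⟩
    rw [hZN, Subgroup.mem_bot] at h2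
    exact h2
  obtain ⟨v, hv, hvT⟩ : ∃ v ∈ V, v ∉ Subgroup.normalizer (T : Set G) := by
    by_contra hcon
    push Not at hcon
    have hTn : T.Normal := by
      rw [← Subgroup.normalizer_eq_top_iff, eq_top_iff, ← hNV]
      exact sup_le hNT hcon
    rcases hN.min T hTn hTN with h0 | h0
    · exact hT1 h0
    · exact hTne h0
  have hvv : v * v = 1 := h.ea.sq v hv
  -- Claim C
  have hC : ∀ t ∈ T, Odd (orderOf t) → t ≠ 1 →
      ∃ w ∈ V, w ∈ Subgroup.normalizer (T : Set G) ∧ w ≠ 1 ∧ w * t = t * w := by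
    intro t ht hodd ht1
    obtain ⟨t', ht'def⟩ : ∃ t' : G, t' = v * t * v⁻¹ := ⟨_, rfl⟩
    have htt' : t * t' = t' * t := by rw [ht'def]; exact (hA v hvT).2 t ht t ht
    have hinvx : v * (t⁻¹ * t') * v⁻¹ = (t⁻¹ * t')⁻¹ := by
      rw [ht'def]; exact sk_inv_comm_elt v t hvv
    have hot' : orderOf t' = orderOf t := by
      rw [ht'def]
      have h1 := Cfsg.Agent.S3011.orderOf_conj_eq v⁻¹ t
      rwa [inv_inv] at h1
    have hoddx : Odd (orderOf (t⁻¹ * t')) := by
      have hc : Commute t⁻¹ t' := by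
        have h1 : Commute t t' := htt'
        exact h1.inv_left
      have hd : orderOf (t⁻¹ * t') ∣ orderOf t * orderOf t := by
        have h1 := hc.orderOf_mul_dvd_lcm
        rw [orderOf_inv, hot'] at h1
        exact h1.trans (Nat.lcm_dvd_mul _ _)
      exact Odd.of_dvd_nat (hodd.mul hodd) hd
    obtain ⟨w, hw, hw1, hwx⟩ := h.sid _ v hv hoddx hinvx
    obtain ⟨a, hadef⟩ : ∃ a : G, a = w * t * w⁻¹ := ⟨_, rfl⟩
    obtain ⟨b, hbdef⟩ : ∃ b : G, b = w * t' * w⁻¹ := ⟨_, rfl⟩
    have heq : a⁻¹ * b = t⁻¹ * t' := by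
      calc a⁻¹ * b = w * (t⁻¹ * t') * w⁻¹ := by rw [hadef, hbdef]; group
        _ = t⁻¹ * t' := by rw [hwx, mul_inv_cancel_right]
    have hwv : w * v = v * w := h.ea.comm w hw v hv
    by_cases hwT : w ∈ Subgroup.normalizer (T : Set G)
    · -- Case 1
      have haT : a ∈ T := by rw [hadef]; exact (Subgroup.mem_normalizer_iff.mp hwT t).mp ht
      have hb_va : b = v * a * v⁻¹ := by
        rw [hbdef, hadef, ht'def]
        calc w * (v * t * v⁻¹) * w⁻¹ = (w * v) * t * (w * v)⁻¹ := by group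
          _ = (v * w) * t * (v * w)⁻¹ := by rw [hwv]
          _ = v * (w * t * w⁻¹) * v⁻¹ := by group
      have h1 : t * a⁻¹ = t' * b⁻¹ := by
        calc t * a⁻¹ = t * (a⁻¹ * b) * b⁻¹ := by group
          _ = t * (t⁻¹ * t') * b⁻¹ := by rw [heq]
          _ = t' * b⁻¹ := by group
      have h2 : t * a⁻¹ = v * (t * a⁻¹) * v⁻¹ := by
        calc t * a⁻¹ = t' * b⁻¹ := h1
          _ = v * (t * a⁻¹) * v⁻¹ := by rw [ht'def, hb_va]; group
      have hsT : t * a⁻¹ ∈ T := T.mul_mem ht (T.inv_mem haT)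
      have hs : t * a⁻¹ = 1 := (hA v hvT).1 _ hsT _ hsT h2
      have hta : t = a := mul_inv_eq_one.mp hs
      refine ⟨w, hw, hwT, hw1, ?_⟩
      rw [hadef] at hta
      exact (eq_mul_inv_iff_mul_eq.mp hta).symm
    · by_cases hwvT : w * v ∈ Subgroup.normalizer (T : Set G)
      · -- Case 2
        have hb_u : b = (w * v) * t * (w * v)⁻¹ := by rw [hbdef, ht'def]; group
        have hbT : b ∈ T := by
          rw [hb_u]; exact (Subgroup.mem_normalizer_iff.mp hwvT t).mp ht
        have ha_vb : a = v * b * v⁻¹ := by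
          have e1 : v * (w * v) = w := by
            rw [← mul_assoc, ← hwv, mul_assoc, hvv, mul_one]
          rw [hb_u, hadef]
          calc w * t * w⁻¹ = (v * (w * v)) * t * (v * (w * v))⁻¹ := by rw [e1]
            _ = v * ((w * v) * t * (w * v)⁻¹) * v⁻¹ := by group
        have hab : b * a = a * b := by
          have h1 := (hA v hvT).2 b hbT b hbT
          rw [← ha_vb] at h1
          exact h1
        have hab' : b * a⁻¹ = a⁻¹ * b := (show Commute b a from hab).inv_right.eq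
        have h1 : t * b = t' * a := by
          calc t * b = t * (b * a⁻¹) * a := by group
            _ = t * (a⁻¹ * b) * a := by rw [hab']
            _ = t * (t⁻¹ * t') * a := by rw [heq]
            _ = t' * a := by group
        have h2 : t * b = v * (t * b) * v⁻¹ := by
          calc t * b = t' * a := h1
            _ = v * (t * b) * v⁻¹ := by rw [ht'def, ha_vb]; group
        have hsT : t * b ∈ T := T.mul_mem ht hbT
        have hs : t * b = 1 := (hA v hvT).1 _ hsT _ hsT h2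
        have hbt : b = t⁻¹ := eq_inv_of_mul_eq_one_right hs
        have hinvt : (w * v) * t * (w * v)⁻¹ = t⁻¹ := by rw [← hb_u]; exact hbt
        obtain ⟨w', hw', hw'1, hw't⟩ := h.sid t (w * v) (V.mul_mem hw hv) hodd hinvt
        have hw'T : w' ∈ Subgroup.normalizer (T : Set G) := by
          by_contra hw'n
          apply ht1
          apply (hA w' hw'n).1 t ht t ht
          rw [hw't, mul_inv_cancel_right]
        exact ⟨w', hw', hw'T, hw'1, hw't⟩
      · -- Case 3
        exfalso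
        apply ht1
        apply hB t ht
        intro s hs
        have hb_u : b = (w * v) * t * (w * v)⁻¹ := by rw [hbdef, ht'def]; group
        have c1 : Commute s a := by rw [hadef]; exact (hA w hwT).2 s hs t ht
        have c2 : Commute s b := by rw [hb_u]; exact (hA (w * v) hwvT).2 s hs t ht
        have c3 : Commute s t' := by rw [ht'def]; exact (hA v hvT).2 s hs t ht
        have e : t⁻¹ = a⁻¹ * b * t'⁻¹ := by
          calc t⁻¹ = (t⁻¹ * t') * t'⁻¹ := by group
            _ = (a⁻¹ * b) * t'⁻¹ := by rw [heq]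
        have c4 : Commute s t⁻¹ := by
          rw [e]
          exact (c1.inv_right.mul_right c2).mul_right c3.inv_right
        have c5 : Commute s t := by
          have h1 := c4.inv_right
          rwa [inv_inv] at h1
        exact c5.eq.symm
  -- a nontrivial element of odd order
  obtain ⟨t₀, ht₀, ht₀o, ht₀1⟩ : ∃ t ∈ T, Odd (orderOf t) ∧ t ≠ 1 := by
    by_contra hcon
    push Not at hcon
    have hT2 : IsPGroup 2 T := by
      intro g
      obtain ⟨s, m, hm, hsm⟩ := Nat.exists_eq_two_pow_mul_odd (orderOf_pos (g : G)).ne'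
      refine ⟨s, Subtype.ext ?_⟩
      rw [Subgroup.coe_pow, Subgroup.coe_one]
      apply hcon _ (T.pow_mem g.2 _)
      have hdvd : orderOf ((g : G) ^ 2 ^ s) ∣ m := by
        apply orderOf_dvd_of_pow_eq_one
        rw [← pow_mul, ← hsm, pow_orderOf_eq_one]
      exact Odd.of_dvd_nat hm hdvd
    have h1 := sk_two_sub_le_pCore N T T hTN hNT le_rfl Subgroup.le_normalizer hT2
    rw [h.core] at h1
    exact hT1 (le_bot_iff.mp h1)
  obtain ⟨w₁, hw₁V, hw₁T, hw₁1, -⟩ := hC t₀ ht₀ ht₀o ht₀1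
  -- Claim D
  have hV₁T : V ⊓ Subgroup.normalizer (T : Set G) ≤ Subgroup.normalizer (T : Set G) :=
    inf_le_right
  have hHtop : T ⊔ (V ⊓ Subgroup.normalizer (T : Set G)) ≠ ⊤ := by
    intro htop
    have hTn : T.Normal := by
      rw [← Subgroup.normalizer_eq_top_iff, eq_top_iff, ← htop]
      exact sup_le Subgroup.le_normalizer hV₁T
    rcases hN.min T hTn hTN with h0 | h0
    · exact hT1 h0
    · exact hTne h0
  have hw₁mem : w₁ ∈ V ⊓ Subgroup.normalizer (T : Set G) := ⟨hw₁V, hw₁T⟩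
  have hV₁ne : V ⊓ Subgroup.normalizer (T : Set G) ≠ ⊥ := by
    intro hbot
    have h1 := hw₁mem
    rw [hbot, Subgroup.mem_bot] at h1
    exact hw₁1 h1
  obtain ⟨w, hw, hw1, hwQ⟩ := sk_min_apply' h.minG
    (T ⊔ (V ⊓ Subgroup.normalizer (T : Set G))) (V ⊓ Subgroup.normalizer (T : Set G))
    le_sup_right hHtop (h.ea.mono inf_le_left) hV₁ne (by
      intro x hx hxo v₁ hv₁ _
      obtain ⟨t₁, ht₁, u₁, hu₁, rfl⟩ := Cfsg.Agent.Lib.Helper1.mem_sup_of_le_normalizer' hV₁T hx
      have hsq : (t₁ * u₁) * (t₁ * u₁) ∈ T := by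
        have e : (t₁ * u₁) * (t₁ * u₁) = t₁ * (u₁ * t₁ * u₁⁻¹) := by
          rw [h.ea.inv hu₁.1]; simp only [mul_assoc]
        rw [e]
        exact T.mul_mem ht₁ ((Subgroup.mem_normalizer_iff.mp hu₁.2 t₁).mp ht₁)
      have hxT : t₁ * u₁ ∈ T := sk_odd_mem_of_sq T _ hsq hxo
      by_cases hx1 : t₁ * u₁ = 1
      · refine ⟨w₁, hw₁mem, hw₁1, ?_⟩
        rw [hx1, mul_one, one_mul]
      · obtain ⟨w, hwV, hwT, hw1, hwx⟩ := hC _ hxT hxo hx1
        exact ⟨w, ⟨hwV, hwT⟩, hw1, hwx⟩)
  have hwt : ∀ t ∈ T, w * t = t * w :=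
    sk_comm_of_mem h.core N T (Cfsg.pCoreOf 2 _) hTN hNT (pCoreOf_isPGroup 2 _)
      (le_sup_left.trans (le_normalizer_pCoreOf 2 _)) w hwQ hw.2
  have hwN : ∀ n ∈ N, w * n = n * w := by
    apply hgen
    intro u hu t ht
    have h1 : w * u = u * w := h.ea.comm w hw.1 u hu
    have h2 : w * u⁻¹ = u⁻¹ * w := h.ea.comm w hw.1 u⁻¹ (V.inv_mem hu)
    calc w * (u * t * u⁻¹) = (w * u) * t * u⁻¹ := by group
      _ = (u * w) * t * u⁻¹ := by rw [h1]
      _ = u * (w * t) * u⁻¹ := by group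
      _ = u * (t * w) * u⁻¹ := by rw [hwt t ht]
      _ = u * t * (w * u⁻¹) := by group
      _ = u * t * (u⁻¹ * w) := by rw [h2]
      _ = u * t * u⁻¹ * w := by group
  have h1 : w ∈ V ⊓ Subgroup.centralizer (N : Set G) :=
    ⟨hw.1, Subgroup.mem_centralizer_iff.mpr (fun n hn => (hwN n hn).symm)⟩
  rw [hCV, Subgroup.mem_bot] at h1
  exact hw1 h1

theorem sk_simple {G : Type u} [Group G] [Finite G] {V : Subgroup G} (h : SkMin G V)
    (N : Subgroup G) (hN : SkMinNormal N) (hNV : N ⊔ V = ⊤)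
    (hZN : N ⊓ Subgroup.centralizer (N : Set G) = ⊥) :
    ∀ (k : ℕ) (T : Subgroup G), Nat.card T = k → T ≤ N → T ≠ ⊥ →
      N ≤ Subgroup.normalizer (T : Set G) → T = N := by
  intro k
  induction k using Nat.strong_induction_on with
  | _ k ih =>
    intro T hk hTN hT1 hNT
    by_cases hmin : ∀ K : Subgroup G, K ≤ T → K ≠ ⊥ → N ≤ Subgroup.normalizer (K : Set G) →
        K = T
    · exact sk_min_case h N hN hNV hZN T hTN hT1 hNT hmin
    · push Not at hmin
      obtain ⟨K, hKT, hK1, hNK, hKne⟩ := hmin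
      have hlt : Nat.card K < k := by
        rw [← hk]
        by_contra hle
        push Not at hle
        exact hKne (Subgroup.eq_of_le_of_card_ge hKT hle)
      have h1 := ih _ hlt K rfl (hKT.trans hTN) hK1 hNK
      apply le_antisymm hTN
      rw [← h1]; exact hKT

theorem sk_centralizer_bot {G : Type u} [Group G] [Finite G] {V : Subgroup G} (h : SkMin G V)
    (N : Subgroup G) (hN : SkMinNormal N) (hNV : N ⊔ V = ⊤)
    (hZN : N ⊓ Subgroup.centralizer (N : Set G) = ⊥) :
    Subgroup.centralizer (N : Set G) = ⊥ := by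
  have hNn := hN.normal
  have hn : (Subgroup.centralizer (N : Set G)).Normal := inferInstance
  have hNtop : V ≤ Subgroup.normalizer (N : Set G) := by
    rw [Subgroup.normalizer_eq_top_iff.mpr hN.normal]; exact le_top
  have hp : IsPGroup 2 ↥(Subgroup.centralizer (N : Set G)) := by
    intro b
    refine ⟨1, Subtype.ext ?_⟩
    rw [Subgroup.coe_pow, Subgroup.coe_one, pow_one, pow_two]
    have hb : (b : G) ∈ N ⊔ V := by rw [hNV]; exact Subgroup.mem_top _
    obtain ⟨n, hn', v, hv, hnv⟩ := Cfsg.Agent.Lib.Helper1.mem_sup_of_le_normalizer' hNtop hb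
    have h1 : (b : G) * (b : G) ∈ N := by
      rw [← hnv]
      have e : (n * v) * (n * v) = n * (v * n * v⁻¹) := by
        rw [h.ea.inv hv]; simp only [mul_assoc]
      rw [e]
      exact N.mul_mem hn' (hN.normal.conj_mem n hn' v)
    have h2 : (b : G) * (b : G) ∈ N ⊓ Subgroup.centralizer (N : Set G) :=
      ⟨h1, Subgroup.mul_mem _ b.2 b.2⟩
    rw [hZN, Subgroup.mem_bot] at h2
    exact h2
  have h1 := Cfsg.Agent.Lib.Helper7.le_pCore hn hp
  rw [h.core] at h1
  exact le_bot_iff.mp h1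

theorem sk_genFit_eq {G : Type u} [Group G] [Finite G] (N : Subgroup G) (hN : SkMinNormal N)
    (hCN : Subgroup.centralizer (N : Set G) = ⊥) (hsol : ¬ Group.IsSolvable ↥N) :
    Cfsg.generalizedFittingSubgroup G = N := by
  have hNn := hN.normal
  have hXn : (Cfsg.generalizedFittingSubgroup G).Normal :=
    Cfsg.Agent.Lib.Helper1.genFitting_normal G
  have hFn : (Cfsg.fittingSubgroup G).Normal := Cfsg.Agent.Lib.Helper7.fitting_normal G
  apply le_antisymm
  · unfold Cfsg.generalizedFittingSubgroup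
    apply sup_le
    · apply sSup_le
      intro L hL
      rcases Cfsg.Agent.Lib.Helper1.IsComponent.le_or_commutator_eq_bot hL
        hN.normal.isSubnormal with h1 | h1
      · exact h1
      · rw [Subgroup.commutator_eq_bot_iff_le_centralizer, hCN] at h1
        exact h1.trans bot_le
    · have hFN : Cfsg.fittingSubgroup G ⊓ N = ⊥ := by
        rcases hN.min (Cfsg.fittingSubgroup G ⊓ N) inferInstance inf_le_right with h0 | h0
        · exact h0
        · exfalso
          apply hsol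
          have hNF : N ≤ Cfsg.fittingSubgroup G := inf_eq_right.mp h0
          have := Cfsg.Agent.Lib.Helper7.fitting_isNilpotent G
          exact Group.isSolvable_of_isSolvable_injective (Subgroup.inclusion_injective hNF)
      have h1 := sk_le_centralizer_of_inf_bot _ _ hFN
      rw [hCN] at h1
      exact h1.trans bot_le
  · rcases hN.min (N ⊓ Cfsg.generalizedFittingSubgroup G) inferInstance inf_le_left with h0 | h0
    · exfalso
      have h1 := sk_le_centralizer_of_inf_bot _ _ h0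
      have h2 := h1.trans (Cfsg.Agent.Lib.Helper1.centralizer_genFitting_le G)
      have h3 : N ≤ N ⊓ Cfsg.generalizedFittingSubgroup G := le_inf le_rfl h2
      rw [h0] at h3
      exact hN.ne (le_bot_iff.mp h3)
    · exact inf_eq_left.mp h0

end Cfsg.Agent.Lib.Helper3
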