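import Cfsg.Agent.Lib.Helper3.ZJ3

set_option autoImplicit false

namespace Cfsg.Agent.Lib.Helper3

open Cfsg
open scoped commutatorElement

/-- abstract data for the ZJ-theorem: a family of abelian subgroups attached to each subgroup,
stable under Glauberman replacement, together with a subgroup `W P` lying in all of them -/
structure ZJDataP (p : ℕ) (G : Type*) [Group G] where
  𝒜 : Subgroup G → Set (Subgroup G)
  W : Subgroup G → Subgroup G
  nonempty : ∀ P, (𝒜 P).Nonempty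
  le : ∀ {P A}, A ∈ 𝒜 P → A ≤ P
  comm : ∀ {P A}, A ∈ 𝒜 P → ∀ x ∈ A, ∀ y ∈ A, x * y = y * x
  W_le_A : ∀ (Q : Sylow p G) {A : Subgroup G}, A ∈ 𝒜 (Q : Subgroup G) → W (Q : Subgroup G) ≤ A
  closed : ∀ (Q : Sylow p G) {A : Subgroup G}, A ∈ 𝒜 (Q : Subgroup G) →
    ∀ (A' : Subgroup G) (u : G), u ∈ (Q : Subgroup G) →
    A' ≤ A ⊔ A.map (MulAut.conj u).toMonoidHom → Nat.card A' = Nat.card A →
    (∀ x ∈ A', ∀ y ∈ A', x * y = y * x) → Monoid.exponent A' ∣ Monoid.exponent A →
    A' ∈ 𝒜 (Q : Subgroup G)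
  closed2 : ∀ (Q Q' : Sylow p G) {A : Subgroup G}, A ∈ 𝒜 (Q : Subgroup G) →
    A ≤ (Q' : Subgroup G) → A ∈ 𝒜 (Q' : Subgroup G)
  W_conj : ∀ (g : G) (P : Subgroup G),
    W (P.map (MulAut.conj g).toMonoidHom) = (W P).map (MulAut.conj g).toMonoidHom
  mono : ∀ {M P}, M ≤ P → (∀ A ∈ 𝒜 P, A ≤ M) → 𝒜 M = 𝒜 P
  W_congr : ∀ {M P}, 𝒜 M = 𝒜 P → W M = W P

section ZJ

variable {G : Type*} [Group G] {p : ℕ} (D : ZJDataP p G)

theorem ZJDataP.W_le (P : Sylow p G) : D.W P ≤ P := by
  obtain ⟨A, hA⟩ := D.nonempty P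
  exact (D.W_le_A P hA).trans (D.le hA)

theorem ZJDataP.W_comm (P : Sylow p G) : ∀ x ∈ D.W P, ∀ y ∈ D.W P, x * y = y * x := by
  obtain ⟨A, hA⟩ := D.nonempty P
  exact fun x hx y hy => D.comm hA x (D.W_le_A P hA hx) y (D.W_le_A P hA hy)

theorem ZJDataP.W_smul (g : G) (Q : Sylow p G) :
    D.W ((g • Q : Sylow p G) : Subgroup G) =
      (D.W (Q : Subgroup G)).map (MulAut.conj g).toMonoidHom := by
  rw [sylow_smul_coe]; exact D.W_conj g _

theorem ZJDataP.conj_mem_W {P : Subgroup G} {x z : G} (hx : x ∈ P) (hz : z ∈ D.W P) :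
    x * z * x⁻¹ ∈ D.W P := by
  have h1 : P.map (MulAut.conj x).toMonoidHom = P :=
    Subgroup.mem_normalizer_iff_map_conj_eq.mp (Subgroup.le_normalizer hx)
  have h2 := D.W_conj x P
  rw [h1] at h2
  rw [h2]
  exact ⟨z, hz, rfl⟩

variable [Finite G] [Fact p.Prime] (B : Subgroup G) [hBn : B.Normal]

theorem zjp_F2 (Q : Sylow p G) :
    stabL p B ≤ Subgroup.normalizer ((D.W Q ⊓ B : Subgroup G) : Set G) := by
  intro l hl
  obtain ⟨x, hx, hc⟩ := stabL_decomp Q hl
  apply fin_mem_normalizer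
  rintro y ⟨hy1, hy2⟩
  have hcy : (x⁻¹ * l) * y = y * (x⁻¹ * l) := (Subgroup.mem_centralizer_iff.mp hc y hy2).symm
  have e : l * y * l⁻¹ = x * y * x⁻¹ := by
    calc l * y * l⁻¹ = x * ((x⁻¹ * l) * y) * (x⁻¹ * l)⁻¹ * x⁻¹ := by group
      _ = x * (y * (x⁻¹ * l)) * (x⁻¹ * l)⁻¹ * x⁻¹ := by rw [hcy]
      _ = x * y * x⁻¹ := by group
  rw [e]
  exact ⟨D.conj_mem_W hx hy1, hBn.conj_mem y hy2 x⟩

theorem zjp_F3 (Q : Sylow p G) {l : G} (hl : l ∈ stabL p B) :
    D.W ((l • Q : Sylow p G) : Subgroup G) ⊓ B = D.W (Q : Subgroup G) ⊓ B := by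
  have hn := zjp_F2 D B Q hl
  rw [D.W_smul]
  ext y
  constructor
  · rintro ⟨⟨z, hz, rfl⟩, hy2⟩
    have hzB : z ∈ B := by
      have := hBn.conj_mem _ hy2 l⁻¹
      have e : l⁻¹ * ((MulAut.conj l).toMonoidHom z) * l⁻¹⁻¹ = z := by
        show l⁻¹ * (l * z * l⁻¹) * l⁻¹⁻¹ = z
        group
      rwa [e] at this
    exact (Subgroup.mem_normalizer_iff.mp hn z).mp ⟨hz, hzB⟩
  · intro hy
    have h2 : l⁻¹ * y * l ∈ D.W Q ⊓ B := (Subgroup.mem_normalizer_iff''.mp hn y).mp hy
    refine ⟨⟨l⁻¹ * y * l, h2.1, ?_⟩, hy.2⟩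
    show l * (l⁻¹ * y * l) * l⁻¹ = y
    group

theorem zjp_D_le (hB : IsPGroup p B) (P : Sylow p G)
    (hcl : Subgroup.normalClosure ((D.W P ⊓ B : Subgroup G) : Set G) = B)
    (hW0 : (D.W P ⊓ ⁅B, B⁆).Normal) : ⁅B, B⁆ ≤ D.W P := by
  have hBP : B ≤ P := hB.le_sylow_of_normal P
  have key : ⁅Subgroup.closure (Group.conjugatesOfSet ((D.W P ⊓ B : Subgroup G) : Set G)),
      Subgroup.closure (B : Set G)⁆ ≤ D.W P ⊓ ⁅B, B⁆ := by
    apply commutator_closure_le
    · intro x _; exact le_normalizer_of_normal ⊤ _ (Subgroup.mem_top x)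
    · intro x _; exact le_normalizer_of_normal ⊤ _ (Subgroup.mem_top x)
    · intro x hx b hb
      rw [Group.mem_conjugatesOfSet_iff] at hx
      obtain ⟨z, hz, hconj⟩ := hx
      obtain ⟨g, rfl⟩ := isConj_iff.mp hconj
      have e : ⁅g * z * g⁻¹, b⁆ = g * ⁅z, g⁻¹ * b * g⁆ * g⁻¹ := by
        simp only [commutatorElement_def]; group
      rw [e]
      apply hW0.conj_mem
      have hb' : g⁻¹ * b * g ∈ B := by
        have := hBn.conj_mem b hb g⁻¹
        rwa [inv_inv] at this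
      refine ⟨?_, Subgroup.commutator_mem_commutator hz.2 hb'⟩
      have e2 : ⁅z, g⁻¹ * b * g⁆ = z * ((g⁻¹ * b * g) * z⁻¹ * (g⁻¹ * b * g)⁻¹) := by
        simp only [commutatorElement_def]; group
      rw [e2]
      exact Subgroup.mul_mem _ hz.1 (D.conj_mem_W (hBP hb') (Subgroup.inv_mem _ hz.1))
  rw [Subgroup.closure_eq] at key
  have h : Subgroup.closure (Group.conjugatesOfSet ((D.W P ⊓ B : Subgroup G) : Set G)) = B := hcl
  rw [h] at key
  exact key.trans inf_le_left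

theorem zjp_D_le_all (P : Sylow p G) (h : ⁅B, B⁆ ≤ D.W P) (Q : Sylow p G) : ⁅B, B⁆ ≤ D.W Q := by
  obtain ⟨g, rfl⟩ := MulAction.exists_smul_eq G P Q
  rw [D.W_smul]
  intro d hd
  have hn : (⁅B, B⁆ : Subgroup G).Normal := inferInstance
  have h1 : g⁻¹ * d * g ∈ ⁅B, B⁆ := by
    have := hn.conj_mem d hd g⁻¹
    rwa [inv_inv] at this
  refine ⟨g⁻¹ * d * g, h h1, ?_⟩
  show g * (g⁻¹ * d * g) * g⁻¹ = d
  group

theorem zjp_claimA (hp : p ≠ 2) (hB : IsPGroup p B) (hstB : IsPStableOn p B) (P : Sylow p G)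
    (hcl : Subgroup.normalClosure ((D.W P ⊓ B : Subgroup G) : Set G) = B)
    (hD : ∀ Q : Sylow p G, ⁅B, B⁆ ≤ D.W Q) :
    ∀ (Q : Sylow p G), ∀ A ∈ D.𝒜 Q, A ≤ stabL p B := by
  intro Q
  by_contra hcon
  push Not at hcon
  classical
  let μ : Subgroup G → ℕ := fun A =>
    Nat.card ↥(A.subgroupOf (Q : Subgroup G) ⊓ B.subgroupOf (Q : Subgroup G))
  have hne : {A : Subgroup G | A ∈ D.𝒜 Q ∧ ¬ A ≤ stabL p B}.Nonempty := by
    obtain ⟨A, hA1, hA2⟩ := hcon
    exact ⟨A, hA1, hA2⟩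
  obtain ⟨A, hA, hmax⟩ := Set.exists_max_image _ μ (Set.toFinite _) hne
  have hAQ : A ≤ Q := D.le hA.1
  have hAc := D.comm hA.1
  have hBQ : B ≤ Q := hB.le_sylow_of_normal Q
  by_cases hN : B.subgroupOf (Q : Subgroup G) ≤
      Subgroup.normalizer ((A.subgroupOf (Q : Subgroup G) : Subgroup ↥(Q : Subgroup G)) :
        Set ↥(Q : Subgroup G))
  · apply hA.2
    intro a ha
    apply mem_stabL_of_quad hstB
    have h1 : ⁅B, Subgroup.zpowers a⁆ ≤ A := by
      rw [Subgroup.commutator_le]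
      intro b hb y hy
      have hyA : y ∈ A := (Subgroup.zpowers_le.mpr ha) hy
      have hb' : (⟨b, hBQ hb⟩ : ↥(Q : Subgroup G)) ∈ B.subgroupOf (Q : Subgroup G) :=
        Subgroup.mem_subgroupOf.mpr hb
      have h2 := (Subgroup.mem_normalizer_iff.mp (hN hb') ⟨y, hAQ hyA⟩).mp
        (Subgroup.mem_subgroupOf.mpr hyA)
      have h3 : b * y * b⁻¹ ∈ A := Subgroup.mem_subgroupOf.mp h2
      exact A.mul_mem h3 (A.inv_mem hyA)
    have h2 : ⁅⁅B, Subgroup.zpowers a⁆, Subgroup.zpowers a⁆ ≤ ⁅A, A⁆ :=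
      Subgroup.commutator_mono h1 (Subgroup.zpowers_le.mpr ha)
    have h3 : ⁅A, A⁆ = ⊥ := by
      rw [Subgroup.commutator_eq_bot_iff_le_centralizer]
      intro x hx
      exact Subgroup.mem_centralizer_iff.mpr (fun y hy => hAc y hy x hx)
    rw [h3] at h2
    exact le_bot_iff.mp h2
  · have hS : IsPGroup p ↥(Q : Subgroup G) := Q.isPGroup'
    have hAc₀ : ∀ x ∈ A.subgroupOf (Q : Subgroup G), ∀ y ∈ A.subgroupOf (Q : Subgroup G),
        x * y = y * x := by
      intro x hx y hy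
      apply Subtype.ext
      exact hAc x (Subgroup.mem_subgroupOf.mp hx) y (Subgroup.mem_subgroupOf.mp hy)
    have hBA₀ : ⁅B.subgroupOf (Q : Subgroup G), B.subgroupOf (Q : Subgroup G)⁆ ≤
        A.subgroupOf (Q : Subgroup G) := by
      rw [Subgroup.commutator_le]
      intro b₁ hb₁ b₂ hb₂
      rw [Subgroup.mem_subgroupOf]
      exact D.W_le_A Q hA.1 (hD Q (Subgroup.commutator_mem_commutator
        (Subgroup.mem_subgroupOf.mp hb₁) (Subgroup.mem_subgroupOf.mp hb₂)))
    obtain ⟨u, hu, huN, huA⟩ := Cfsg.Agent.S0649.result hS (B.subgroupOf (Q : Subgroup G))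
      (fun h => absurd h hp) (A.subgroupOf (Q : Subgroup G)) (isMulCommutative_of_comm hAc₀)
      hBA₀ hN
    obtain ⟨h1, h2, h3, h4, h5, h6, h7, h8, h9, h10⟩ :=
      gr_main hS (fun h => absurd h hp) hAc₀ hBA₀ hu huN huA
    have hA'Q : (grStar (A.subgroupOf (Q : Subgroup G)) u).map (Q : Subgroup G).subtype ≤ Q :=
      Subgroup.map_subtype_le _
    have hA'c : ∀ x ∈ (grStar (A.subgroupOf (Q : Subgroup G)) u).map (Q : Subgroup G).subtype,
        ∀ y ∈ (grStar (A.subgroupOf (Q : Subgroup G)) u).map (Q : Subgroup G).subtype,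
        x * y = y * x := comm_map_subtype h2
    have hcard : Nat.card ↥((grStar (A.subgroupOf (Q : Subgroup G)) u).map
        (Q : Subgroup G).subtype) = Nat.card A := by
      rw [card_map_subtype, h1, card_subgroupOf_of_le hAQ]
    have hexp : Monoid.exponent ↥((grStar (A.subgroupOf (Q : Subgroup G)) u).map
        (Q : Subgroup G).subtype) ∣ Monoid.exponent A := by
      have e1 : Monoid.exponent ↥((grStar (A.subgroupOf (Q : Subgroup G)) u).map
          (Q : Subgroup G).subtype) = Monoid.exponent ↥(grStar (A.subgroupOf (Q : Subgroup G)) u) :=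
        (Monoid.exponent_eq_of_mulEquiv (Subgroup.equivMapOfInjective _ _
          (Subgroup.subtype_injective _))).symm
      have e2 : Monoid.exponent ↥(A.subgroupOf (Q : Subgroup G)) = Monoid.exponent A :=
        Monoid.exponent_eq_of_mulEquiv (Subgroup.subgroupOfEquivOfLe hAQ)
      rw [e1, ← e2]; exact h10 hp
    have hleU : (grStar (A.subgroupOf (Q : Subgroup G)) u).map (Q : Subgroup G).subtype ≤
        A ⊔ A.map (MulAut.conj (u : G)).toMonoidHom := by
      rintro _ ⟨x, hx, rfl⟩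
      have hx2 := gr_star_le_H hx
      have hle2 : A.subgroupOf (Q : Subgroup G) ⊔ grA1 (A.subgroupOf (Q : Subgroup G)) u ≤
          (A ⊔ A.map (MulAut.conj (u : G)).toMonoidHom).subgroupOf (Q : Subgroup G) := by
        refine sup_le ?_ ?_
        · intro y hy
          exact Subgroup.mem_subgroupOf.mpr
            (Subgroup.mem_sup_left (Subgroup.mem_subgroupOf.mp hy))
        · rintro _ ⟨a, ha, rfl⟩
          rw [Subgroup.mem_subgroupOf]
          exact Subgroup.mem_sup_right ⟨(a : G), Subgroup.mem_subgroupOf.mp ha, rfl⟩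
      exact Subgroup.mem_subgroupOf.mp (hle2 hx2)
    have hA'𝒜 := D.closed Q hA.1 _ (u : G) u.2 hleU hcard hA'c hexp
    have hsub : ((grStar (A.subgroupOf (Q : Subgroup G)) u).map
        (Q : Subgroup G).subtype).subgroupOf (Q : Subgroup G) =
        grStar (A.subgroupOf (Q : Subgroup G)) u :=
      Subgroup.comap_map_eq_self_of_injective (Subgroup.subtype_injective _) _
    have hA'L : (grStar (A.subgroupOf (Q : Subgroup G)) u).map (Q : Subgroup G).subtype ≤
        stabL p B := by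
      by_contra hnL
      have hle := hmax _ ⟨hA'𝒜, hnL⟩
      have hle' : Nat.card ↥(grStar (A.subgroupOf (Q : Subgroup G)) u ⊓
          B.subgroupOf (Q : Subgroup G)) ≤
          Nat.card ↥(A.subgroupOf (Q : Subgroup G) ⊓ B.subgroupOf (Q : Subgroup G)) := by
        have hμ : μ ((grStar (A.subgroupOf (Q : Subgroup G)) u).map (Q : Subgroup G).subtype) =
            Nat.card ↥(grStar (A.subgroupOf (Q : Subgroup G)) u ⊓
              B.subgroupOf (Q : Subgroup G)) := by
          show Nat.card ↥(((grStar (A.subgroupOf (Q : Subgroup G)) u).map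
            (Q : Subgroup G).subtype).subgroupOf (Q : Subgroup G) ⊓
            B.subgroupOf (Q : Subgroup G)) = _
          rw [hsub]
        rw [← hμ]; exact hle
      exact (ne_of_lt h4) (Subgroup.eq_of_le_of_card_ge (le_of_lt h4) hle')
    have hWA' : ∀ Q' : Sylow p G, D.W Q' ⊓ B ≤
        (grStar (A.subgroupOf (Q : Subgroup G)) u).map (Q : Subgroup G).subtype := by
      intro Q'
      haveI := stabL_normal p B
      obtain ⟨l, hl, hlQ⟩ := sylow_inf_conj (stabL p B) Q' Q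
      have hA'Q'' : (grStar (A.subgroupOf (Q : Subgroup G)) u).map (Q : Subgroup G).subtype ≤
          ((l • Q' : Sylow p G) : Subgroup G) := by
        have : (grStar (A.subgroupOf (Q : Subgroup G)) u).map (Q : Subgroup G).subtype ≤
            (Q : Subgroup G) ⊓ stabL p B := le_inf hA'Q hA'L
        rw [← hlQ] at this
        exact this.trans inf_le_left
      have hA'𝒜'' : (grStar (A.subgroupOf (Q : Subgroup G)) u).map (Q : Subgroup G).subtype ∈
          D.𝒜 ((l • Q' : Sylow p G) : Subgroup G) := D.closed2 Q (l • Q') hA'𝒜 hA'Q''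
      have := D.W_le_A (l • Q') hA'𝒜''
      rw [← zjp_F3 D B Q' hl]
      exact inf_le_left.trans this
    have hBA' : B ≤ (grStar (A.subgroupOf (Q : Subgroup G)) u).map (Q : Subgroup G).subtype := by
      have hcl' : Subgroup.closure (Group.conjugatesOfSet ((D.W P ⊓ B : Subgroup G) : Set G)) ≤
          (grStar (A.subgroupOf (Q : Subgroup G)) u).map (Q : Subgroup G).subtype := by
        refine (Subgroup.closure_le _).mpr ?_
        intro x hx
        rw [Group.mem_conjugatesOfSet_iff] at hx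
        obtain ⟨z, hz, hconj⟩ := hx
        obtain ⟨g, rfl⟩ := isConj_iff.mp hconj
        apply hWA' (g • P)
        refine ⟨?_, hBn.conj_mem z hz.2 g⟩
        rw [D.W_smul]
        exact ⟨z, hz.1, rfl⟩
      exact hcl.symm.le.trans hcl'
    apply (ne_of_lt h5)
    apply inf_eq_right.mpr
    intro x hx
    have hx' : (x : G) ∈ (grStar (A.subgroupOf (Q : Subgroup G)) u).map
        (Q : Subgroup G).subtype := hBA' (Subgroup.mem_subgroupOf.mp hx)
    obtain ⟨y, hy, hyx⟩ := hx'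
    have : y = x := Subtype.ext hyx
    rw [← this]; exact hy

theorem zjp_step (hp : p ≠ 2)
    (hst : ∀ (P : Subgroup G) [P.Normal], IsPGroup p P → IsPStableOn p P)
    (hB : IsPGroup p B)
    (IH : ∀ B₂ : Subgroup G, B₂.Normal → IsPGroup p B₂ → Nat.card B₂ < Nat.card B →
      ∀ Q : Sylow p G, (D.W Q ⊓ B₂).Normal)
    (P : Sylow p G)
    (hcl : Subgroup.normalClosure ((D.W P ⊓ B : Subgroup G) : Set G) = B) :
    (D.W P ⊓ B).Normal := by
  by_cases hbot : B = ⊥
  · have : D.W P ⊓ B = ⊥ := by rw [hbot, inf_bot_eq]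
    rw [this]; infer_instance
  · have hlt := commutator_lt_of_isPGroup hB hbot
    have hDn : (⁅B, B⁆ : Subgroup G).Normal := inferInstance
    have hDp : IsPGroup p ↥(⁅B, B⁆ : Subgroup G) := hB.to_le (le_of_lt hlt)
    have hW0 := IH ⁅B, B⁆ hDn hDp (card_lt_of_lt hlt) P
    have hD1 := zjp_D_le D B hB P hcl hW0
    have hD : ∀ Q : Sylow p G, ⁅B, B⁆ ≤ D.W Q := zjp_D_le_all D B P hD1
    have hA := zjp_claimA D B hp hB (hst B hB) P hcl hD
    have hF6 : ∀ Q : Sylow p G, D.W Q ⊓ B = D.W P ⊓ B := by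
      intro Q
      haveI := stabL_normal p B
      obtain ⟨l, hl, hlQ⟩ := sylow_inf_conj (stabL p B) Q P
      have e1 : D.𝒜 (((l • Q : Sylow p G) : Subgroup G) ⊓ stabL p B) =
          D.𝒜 ((l • Q : Sylow p G) : Subgroup G) :=
        D.mono inf_le_left (fun A hA' => le_inf (D.le hA') (hA (l • Q) A hA'))
      have e2 : D.𝒜 ((P : Subgroup G) ⊓ stabL p B) = D.𝒜 (P : Subgroup G) :=
        D.mono inf_le_left (fun A hA' => le_inf (D.le hA') (hA P A hA'))
      rw [hlQ] at e1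
      have e3 : D.W ((l • Q : Sylow p G) : Subgroup G) = D.W (P : Subgroup G) :=
        D.W_congr (e1.symm.trans e2)
      rw [← zjp_F3 D B Q hl, e3]
    constructor
    intro y hy g
    have : g * y * g⁻¹ ∈ D.W ((g • P : Sylow p G) : Subgroup G) ⊓ B := by
      refine ⟨?_, hBn.conj_mem y hy.2 g⟩
      rw [D.W_smul]; exact ⟨y, hy.1, rfl⟩
    rw [hF6] at this; exact this

theorem zjp_inf_normal (hp : p ≠ 2)
    (hst : ∀ (P : Subgroup G) [P.Normal], IsPGroup p P → IsPStableOn p P) :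
    ∀ n : ℕ, ∀ B : Subgroup G, B.Normal → IsPGroup p B → Nat.card B = n →
      ∀ Q : Sylow p G, (D.W Q ⊓ B).Normal := by
  intro n
  induction n using Nat.strong_induction_on with
  | _ n ih =>
    intro B hBn hB hcard Q
    have hB₁le : Subgroup.normalClosure ((D.W Q ⊓ B : Subgroup G) : Set G) ≤ B :=
      Subgroup.normalClosure_le_normal (fun x hx => hx.2)
    by_cases h : Subgroup.normalClosure ((D.W Q ⊓ B : Subgroup G) : Set G) = B
    · exact zjp_step D B hp hst hB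
        (fun B₂ hn2 hp2 hlt Q' => ih (Nat.card B₂) (hcard ▸ hlt) B₂ hn2 hp2 rfl Q') Q h
    · have hlt : Nat.card ↥(Subgroup.normalClosure ((D.W Q ⊓ B : Subgroup G) : Set G)) <
          Nat.card B := card_lt_of_lt (lt_of_le_of_ne hB₁le h)
      have h2 := ih _ (hcard ▸ hlt) (Subgroup.normalClosure ((D.W Q ⊓ B : Subgroup G) : Set G))
        Subgroup.normalClosure_normal (hB.to_le hB₁le) rfl Q
      have e : D.W Q ⊓ Subgroup.normalClosure ((D.W Q ⊓ B : Subgroup G) : Set G) = D.W Q ⊓ B :=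
        le_antisymm (inf_le_inf_left _ hB₁le) (le_inf inf_le_left Subgroup.subset_normalClosure)
      rw [e] at h2; exact h2

theorem zjp_W_le_pCore
    (hc : Subgroup.centralizer (pCore p G : Set G) ≤ pCore p G)
    (hst : ∀ (P : Subgroup G) [P.Normal], IsPGroup p P → IsPStableOn p P) (P : Sylow p G) :
    D.W P ≤ pCore p G := by
  intro z hz
  have hO : IsPGroup p (pCore p G) := pCore_isPGroup' p G
  haveI := pCore_normal' p G
  have hOP : pCore p G ≤ P := hO.le_sylow_of_normal P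
  have hquad : ⁅⁅pCore p G, Subgroup.zpowers z⁆, Subgroup.zpowers z⁆ = ⊥ := by
    have h1 : ⁅pCore p G, Subgroup.zpowers z⁆ ≤ D.W P := by
      rw [Subgroup.commutator_le]
      intro q hq y hy
      have hyW : y ∈ D.W P := (Subgroup.zpowers_le.mpr hz) hy
      exact Subgroup.mul_mem _ (D.conj_mem_W (hOP hq) hyW) (Subgroup.inv_mem _ hyW)
    have h2 := Subgroup.commutator_mono h1 (Subgroup.zpowers_le.mpr hz)
    have h3 : ⁅D.W P, D.W P⁆ = ⊥ := by
      rw [Subgroup.commutator_eq_bot_iff_le_centralizer]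
      intro x hx
      exact Subgroup.mem_centralizer_iff.mpr (fun y hy => D.W_comm P y hy x hx)
    rw [h3] at h2; exact le_bot_iff.mp h2
  have hzL : z ∈ stabL p (pCore p G) := mem_stabL_of_quad (hst (pCore p G) hO) hquad
  have hLp : IsPGroup p (stabL p (pCore p G)) := stabL_isPGroup hO hc
  exact le_pCore' (stabL_normal p _) hLp hzL

theorem zjp_normal (hp : p ≠ 2)
    (hc : Subgroup.centralizer (pCore p G : Set G) ≤ pCore p G)
    (hst : ∀ (P : Subgroup G) [P.Normal], IsPGroup p P → IsPStableOn p P) (S : Sylow p G) :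
    (D.W S).Normal := by
  have h1 := zjp_W_le_pCore D hc hst S
  have h2 := zjp_inf_normal D hp hst _ (pCore p G) (pCore_normal' p G) (pCore_isPGroup' p G) rfl S
  rw [inf_eq_left.mpr h1] at h2; exact h2


end ZJ

end Cfsg.Agent.Lib.Helper3
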